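import Cfsg.Agent.Twisted.Groups.D4
import Cfsg.Agent.Twisted.Inst

/-!
The frame of `³D₄(q)` for the tabulated group.
-/

set_option autoImplicit false

namespace Cfsg.Agent.Twisted.TypeD4

open ChevGroup ChevIsogeny Cfsg.Lie

theorem etaTab : etaTabB chevD4 ChevCore.packedD4 ChevIsogeny.D4.eta := by
  unfold etaTabB
  decide +kernel

/-- the frame over the tabulated relations -/
theorem frame₀ {F : Type*} [Field F] [Fintype F] {q : ℕ} (hq : IsPrimePow q)
    (hK : Fintype.card F = q ^ 3) :
    Frame (T := MT) (relsOfCommGood ChevCore.commGoodD4 F) PP q fd :=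
  frame _ (commFormula ChevCore.commGoodD4 F)
    (eta_link ChevCore.commGoodD4 F ChevCore.chkLinkD4 etaTab) hq hK

end Cfsg.Agent.Twisted.TypeD4
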