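import Cfsg.Agent.Twisted.Groups.G2
import Cfsg.Agent.Twisted.Inst

/-!
The frame of `²G₂(q)` for the tabulated group.
-/

set_option autoImplicit false

namespace Cfsg.Agent.Twisted.TypeG2

open ChevGroup ChevIsogeny Cfsg.Lie

theorem etaTab : etaTabB chevG2 ChevCore.packedG2 ChevIsogeny.G2.eta := by
  unfold etaTabB
  decide +kernel

/-- the frame over the tabulated relations -/
theorem frame₀ {F : Type*} [Field F] [Fintype F] {m : ℕ}
    (hK : Fintype.card F = 3 ^ (2 * m + 1)) :
    Frame (T := MT) (relsOfCommGood ChevCore.commGoodG2 F) PP (3 ^ m) fd :=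
  frame _ (commFormula ChevCore.commGoodG2 F)
    (eta_link ChevCore.commGoodG2 F ChevCore.chkLinkG2 etaTab) hK

end Cfsg.Agent.Twisted.TypeG2
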