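import Cfsg.Agent.Twisted.Groups.D4Gens
import Cfsg.Agent.Twisted.Count

/-!
`³D₄(q)`: orders, the (B, N)-pair, the Weyl group, perfectness and simplicity, given the relations of `D₄`.
-/

set_option autoImplicit false

open scoped commutatorElement

namespace Cfsg.Agent.Twisted.TypeD4

open ChevGroup ChevIsogeny Cfsg.Lie

theorem span0_ok : Mat.spanB chevD4 (step0.span.map Fin.val) = true := by decide +kernel

theorem span1_ok : Mat.spanB chevD4 (step1.span.map Fin.val) = true := by decide +kernel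

theorem orth_ok (k : Fin 2) :
    ∃ L : List (Fin MT.tab.n), L.Sublist MT.posList ∧ fd.orth k = L ∧ L ≠ [] := by
  match k with
  | 0 => exact ⟨[14], by decide, rfl, by simp⟩
  | 1 => exact ⟨[12, 13, 18], by decide, rfl, by simp⟩

theorem simple_orth (j : Fin MT.tab.l) :
    ∃ k, (MT.S).simple j ∈ fd.orth k ∧ (fd.orth k).Sublist MT.posList := by
  match j with
  | 0 => exact ⟨1, by decide, by decide⟩
  | 1 => exact ⟨0, by decide, by decide⟩
  | 2 => exact ⟨1, by decide, by decide⟩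
  | 3 => exact ⟨1, by decide, by decide⟩

/-- The arithmetic of the order. -/
theorem order_arith {q : ℕ} (hq : 0 < q) :
    q ^ 12 * ((q - 1) * (q ^ 3 - 1)) * (1 + q) *
        (1 + q ^ 3 + q ^ 4 + q ^ 7 + q ^ 8 + q ^ 11) =
      q ^ 12 * (q ^ 2 - 1) * (q ^ 6 - 1) * (q ^ 8 + q ^ 4 + 1) := by
  zify [show 1 ≤ q by omega, Nat.one_le_pow 2 q hq, Nat.one_le_pow 3 q hq, Nat.one_le_pow 6 q hq]
  ring

/-- The orbit reflections as permutations of the roots. -/
def pw (k : Fin 2) : Equiv.Perm (Fin MT.tab.n) where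
  toFun r := (MT.S).actw (fd.O.wd k) r
  invFun r := (MT.S).actw (fd.O.wd k).reverse r
  left_inv r := (MT.S).actw_reverse' _ r
  right_inv r := (MT.S).actw_reverse _ r

theorem pw_liftable : CoxeterMatrix.IsLiftable CoxeterMatrix.G₂ pw := by
  have h : ∀ i j : Fin 2, ∀ r, ((pw i * pw j) ^ CoxeterMatrix.G₂.M i j) r = r := by decide +kernel
  exact fun i j => Equiv.ext (h i j)

/-- The Weyl group of `³D₄` acting on the roots. -/
def psi : (CoxeterMatrix.G₂).Group →* Equiv.Perm (Fin MT.tab.n) :=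
  (CoxeterMatrix.G₂).toCoxeterSystem.lift ⟨pw, pw_liftable⟩

theorem psi_simple (k : Fin 2) : psi ((CoxeterMatrix.G₂).simple k) = pw k := by
  have := (CoxeterMatrix.G₂).toCoxeterSystem.lift_apply_simple pw_liftable k
  rwa [CoxeterMatrix.toCoxeterSystem_simple] at this

theorem simple_gen : Subgroup.closure (Set.range (CoxeterMatrix.G₂).simple) = ⊤ := by
  rw [← CoxeterMatrix.toCoxeterSystem_simple]
  exact CoxeterSystem.subgroup_closure_range_simple _

theorem psi_inj : Function.Injective psi := by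
  rw [injective_iff_map_eq_one]
  intro g hg
  set cs := (CoxeterMatrix.G₂).toCoxeterSystem
  have hmem : g ∈ Subgroup.closure {cs.simple 0, cs.simple 1} := by
    have : Set.range cs.simple = {cs.simple 0, cs.simple 1} := by
      ext x
      simp only [Set.mem_range, Fin.exists_fin_two, Set.mem_insert_iff, Set.mem_singleton_iff]
      tauto
    rw [← this, CoxeterSystem.subgroup_closure_range_simple]
    exact Subgroup.mem_top g
  obtain ⟨i, hi, h⟩ := eq_dihedral (cs.simple_mul_simple_self 0) (cs.simple_mul_simple_self 1)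
    (m := 6) (by omega) (cs.simple_mul_simple_pow 0 1) hmem
  have e0 : psi (cs.simple 0) = pw 0 := psi_simple 0
  have e1 : psi (cs.simple 1) = pw 1 := psi_simple 1
  have key : ∀ i : Fin 6, (((pw 0 * pw 1) ^ i.val = 1) → i.val = 0) ∧ (pw 0 * pw 1) ^ i.val * pw 0 ≠ 1 := by
    have : ∀ i : Fin 6, ((∀ r, ((pw 0 * pw 1) ^ i.val) r = r) → i.val = 0) ∧
        ∃ r, ((pw 0 * pw 1) ^ i.val * pw 0) r ≠ r := by decide +kernel
    exact fun i => ⟨fun h => (this i).1 fun r => by rw [h]; rfl, fun h => by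
      obtain ⟨r, hr⟩ := (this i).2; exact hr (by rw [h]; rfl)⟩
  rcases h with rfl | rfl
  · rw [map_pow, map_mul, e0, e1] at hg
    have e : i = 0 := (key ⟨i, hi⟩).1 hg
    rw [e, pow_zero]
  · rw [map_mul, map_pow, map_mul, e0, e1] at hg
    exact absurd hg (key ⟨i, hi⟩).2

variable {F : Type*} [Field F] [Fintype F] {q : ℕ} {K : Rels chevD4 F}
  (Z : Frame (T := MT) K PP q fd)

set_option quotPrecheck false in
local notation "G₁" => genG MT K (d4Words F q)

include Z in
theorem pre_eq (j : Fin MT.tab.l) : Z.iso.ρIF (pre j) = j := by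
  match j with
  | 0 => exact (ρI_eq Z).2.2.2
  | 1 => exact (ρI_eq Z).2.1
  | 2 => exact (ρI_eq Z).1
  | 3 => exact (ρI_eq Z).2.2.1

include Z in
theorem sig_apply (c : Fin MT.tab.l → Fˣ) (j : Fin MT.tab.l) : Z.sig pre c j = c (pre j) ^ q := by
  have hl : IsoHyp.lam PP q ((MT.S).simple (pre j)).val = q := by
    match j with
    | 0 => exact one_mul q
    | 1 => exact one_mul q
    | 2 => exact one_mul q
    | 3 => exact one_mul q
  simp only [Frame.sig, MonoidHom.coe_mk, OneHom.coe_mk, hl]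

include Z in
theorem per (hq : IsPrimePow q) (hK : Fintype.card F = q ^ 3) (c : Fin MT.tab.l → Fˣ) :
    (⇑(Z.sig pre))^[3] c = c := by
  obtain ⟨-, -, hper⟩ := qpow_hom hq hK
  funext j
  refine Units.ext ?_
  simp only [Function.iterate_succ_apply', Function.iterate_zero_apply, sig_apply, ← pow_mul,
    Units.val_pow_eq_pow_val]
  have hp : pre (pre (pre j)) = j := by
    match j with
    | 0 => rfl
    | 1 => rfl
    | 2 => rfl
    | 3 => rfl
  rw [hp, show q * q * q = q ^ 3 by ring]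
  exact hper _

theorem chi_val (c : Fin MT.tab.l → Fˣ) :
    chi MT c 18 = c 0 ^ (2 : ℤ) * c 1 ^ (-1 : ℤ) ∧
    chi MT c 14 = c 0 ^ (-1 : ℤ) * c 1 ^ (2 : ℤ) * c 2 ^ (-1 : ℤ) * c 3 ^ (-1 : ℤ) ∧
    chi MT c 13 = c 1 ^ (-1 : ℤ) * c 2 ^ (2 : ℤ) ∧
    chi MT c 12 = c 1 ^ (-1 : ℤ) * c 3 ^ (2 : ℤ) := by
  have e : ∀ r : Fin MT.tab.n, chi MT c r =
      ∏ i : Fin 4, (c : Fin 4 → Fˣ) i ^ chevD4.pairing ((MT.S).simple i).val r.val := fun r => rfl
  have p : ∀ i : Fin 4, chevD4.pairing ((MT.S).simple i).val (18 : Fin MT.tab.n).val = ([2, -1, 0, 0] : List ℤ).getD i.val 0 ∧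
      chevD4.pairing ((MT.S).simple i).val (14 : Fin MT.tab.n).val = ([-1, 2, -1, -1] : List ℤ).getD i.val 0 ∧
      chevD4.pairing ((MT.S).simple i).val (13 : Fin MT.tab.n).val = ([0, -1, 2, 0] : List ℤ).getD i.val 0 ∧
      chevD4.pairing ((MT.S).simple i).val (12 : Fin MT.tab.n).val = ([0, -1, 0, 2] : List ℤ).getD i.val 0 := by
    decide +kernel
  refine ⟨?_, ?_, ?_, ?_⟩
  · rw [e, Finset.prod_congr rfl fun i _ => congrArg _ (p i).1, Fin.prod_univ_four]
    simp
    rfl
  · rw [e, Finset.prod_congr rfl fun i _ => congrArg _ (p i).2.1, Fin.prod_univ_four]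
    rfl
  · rw [e, Finset.prod_congr rfl fun i _ => congrArg _ (p i).2.2.1, Fin.prod_univ_four]
    simp
    rfl
  · rw [e, Finset.prod_congr rfl fun i _ => congrArg _ (p i).2.2.2, Fin.prod_univ_four]
    simp
    rfl

include Z in
theorem ker_fixed (hq : IsPrimePow q) (hK : Fintype.card F = q ^ 3) {c : Fin MT.tab.l → Fˣ}
    (hc : Z.sig pre c = c) (h1 : tor MT K c = 1) : c = 1 := by
  obtain ⟨hadd, -, -⟩ := qpow_hom hq hK
  have h2 := Z.pow_eq_one_of_tor torOk inv_ok h1
  have hchi := Z.chi_one_of_tor_eq_one h1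
  obtain ⟨v18, v14, v13, v12⟩ := chi_val (F := F) c
  have x1 := (v18.symm.trans (hchi 18))
  have x14 := (v14.symm.trans (hchi 14))
  have hs : ∀ j, c (pre j) ^ q = c j := fun j => by rw [← sig_apply Z, hc]
  have h02 : c 0 ^ q = c 2 := hs 2
  have h23 : c 2 ^ q = c 3 := hs 3
  have hj : ∀ j, c j ^ 2 = 1 := fun j => congrFun h2 j
  have hc1 : c 1 = 1 := by
    rw [zpow_neg_one, zpow_ofNat, mul_inv_eq_one] at x1
    rw [← x1, hj 0]
  have hpow : ∀ u : Fˣ, u ^ 2 = 1 → u ^ q = u := by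
    intro u hu
    have : (u : F) = 1 ∨ (u : F) = -1 := by
      refine mul_self_eq_one_iff.1 ?_
      rw [← pow_two, ← Units.val_pow_eq_pow_val, hu, Units.val_one]
    refine Units.ext ?_
    rw [Units.val_pow_eq_pow_val]
    rcases this with e | e <;> rw [e]
    · exact one_pow q
    · simpa using qpow_inv_neg hadd hq.pos.ne' (1 : F)
  have e2 : c 2 = c 0 := h02.symm.trans (hpow _ (hj 0))
  have e3 : c 3 = c 0 := by rw [← h23, hpow _ (hj 2), e2]
  have hi : (c 0)⁻¹ = c 0 := inv_eq_of_mul_eq_one_right (by rw [← pow_two]; exact hj 0)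
  rw [e2, e3, hc1, one_zpow, mul_one, zpow_neg_one, hi, ← pow_two, hj 0, one_mul] at x14
  funext j
  match j with
  | 0 => exact x14
  | 1 => exact hc1
  | 2 => exact e2.trans x14
  | 3 => exact e3.trans x14

/-- a parameter vector from two values -/
def cvec (q : ℕ) (a b : Fˣ) (j : Fin MT.tab.l) : Fˣ := [a, b, a ^ q, a ^ (q ^ 2)].getD j.val 1

theorem cvec_val (q : ℕ) (a b : Fˣ) : cvec q a b 0 = a ∧ cvec q a b 1 = b ∧ cvec q a b 2 = a ^ q ∧
    cvec q a b 3 = a ^ (q ^ 2) := ⟨rfl, rfl, rfl, rfl⟩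

include Z in
theorem sig_cvec (hq : IsPrimePow q) (hK : Fintype.card F = q ^ 3) (a b : Fˣ) (hb : b ^ q = b) :
    Z.sig pre (cvec q a b) = cvec q a b := by
  obtain ⟨-, -, hper⟩ := qpow_hom hq hK
  funext j
  rw [sig_apply Z]
  match j with
  | 0 =>
    show (a ^ (q ^ 2)) ^ q = a
    rw [← pow_mul, ← pow_succ]
    exact Units.ext (by rw [Units.val_pow_eq_pow_val]; exact hper _)
  | 1 => exact hb
  | 2 => exact rfl
  | 3 => show (a ^ q) ^ q = a ^ (q ^ 2); rw [← pow_mul, pow_two]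

include Z in
theorem card_fixedPar (hq : IsPrimePow q) (hK : Fintype.card F = q ^ 3) :
    Nat.card ↥(Z.fixedPar pre) = (q ^ 3 - 1) * (q - 1) := by
  have hcard : Nat.card {u : Fˣ // u ^ q = u} = q - 1 := by
    rw [← card_units_pow_eq_one (F := F) (n := q - 1) (hK ▸ Nat.sub_one_dvd_pow_sub_one q 3)]
    refine Nat.card_congr (Equiv.subtypeEquivRight fun u => ?_)
    rw [← pow_sub_mul_pow u hq.one_lt.le, pow_one, mul_eq_right]
  rw [show q ^ 3 - 1 = Nat.card Fˣ by rw [Nat.card_units, Nat.card_eq_fintype_card, hK], ← hcard,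
    ← Nat.card_prod]
  refine Nat.card_congr
    { toFun := fun c => (c.1 0, ⟨c.1 1, by
        have := congrFun ((Z.mem_fixedPar).1 c.2) 1
        rwa [sig_apply Z] at this⟩)
      invFun := fun p => ⟨cvec q p.1 p.2.1, sig_cvec Z hq hK p.1 p.2.1 p.2.2⟩
      left_inv := ?_
      right_inv := fun p => rfl }
  rintro ⟨c, hc⟩
  have hs : ∀ j, c (pre j) ^ q = c j := fun j => by rw [← sig_apply Z, (Z.mem_fixedPar).1 hc]
  refine Subtype.ext (funext fun j => ?_)
  match j with
  | 0 => rfl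
  | 1 => rfl
  | 2 => exact hs 2
  | 3 =>
    show c 0 ^ (q ^ 2) = c 3
    rw [pow_two, pow_mul, show c 0 ^ q = c 2 from hs 2]
    exact hs 3

variable (hq : IsPrimePow q) (hK : Fintype.card F = q ^ 3)
include hq hK

include Z in
theorem card_H1 : Nat.card ↥(gens Z hq hK).data.H1 = (q ^ 3 - 1) * (q - 1) := by
  have h := (gens Z hq hK).card_H1_mul torOk (pre_eq Z) inv_ok (m := 3) (by decide) (per Z hq hK)
  have : Subsingleton {c : Fin MT.tab.l → Fˣ // Z.sig pre c = c ∧ tor MT K c = 1} :=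
    ⟨fun a b => Subtype.ext ((ker_fixed Z hq hK a.2.1 a.2.2).trans (ker_fixed Z hq hK b.2.1 b.2.2).symm)⟩
  have hne : Nonempty {c : Fin MT.tab.l → Fˣ // Z.sig pre c = c ∧ tor MT K c = 1} :=
    ⟨⟨1, map_one _, by rw [← Z.torHom_apply, map_one]⟩⟩
  rw [card_fixedPar Z hq hK, Nat.card_eq_one_iff_unique.2 ⟨this, hne⟩, one_mul] at h
  exact h

include Z in
theorem card_X0 : Nat.card ↥((gens Z hq hK).data.X 0) = q := by
  refine Eq.trans ?_ (card_fixed_pow (F := F) hq.one_lt hK)
  refine (gens Z hq hK).card_X_of (L := [14]) (by decide) (fun t : {t : F // t ^ q = t} => fun _ => t.1)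
    (fun a b h => Subtype.ext (h 14 (by simp))) (fun t => Subgroup.mem_inf.2 ⟨?_, ?_⟩) ?_
  · simpa [prodX] using (gen1_mem Z t.2).1
  · show prodX MT K [14] (fun _ => t.1) ∈ Sg (MT.rel K) (fun r => r ∈ fd.O.cls 0)
    simpa [prodX] using x_mem_Sg (MT.rel K) (T := fun r => r ∈ fd.O.cls 0) (r := 14) (by decide) t.1
  · intro g hg
    obtain ⟨t, ht, rfl⟩ := cls0 Z hg.2 ((gens Z hq hK).fixed g hg.1)
    exact ⟨⟨t, ht⟩, by simp [prodX]⟩

include Z in
theorem tri_X (t : F) : prodX MT K [12, 13, 18] (tri q t) ∈ (gens Z hq hK).data.X 1 := by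
  refine Subgroup.mem_inf.2 ⟨?_, Subgroup.list_prod_mem _ fun y hy => ?_⟩
  · rw [Z.prodX_perm (L := [12, 13, 18]) (L' := [18, 13, 12]) (by decide) (list_ok Z _ (by decide))]
    exact (tri_mem Z t).1
  · obtain ⟨r, hr, rfl⟩ := List.mem_map.1 hy
    refine x_mem_Sg _ (T := fun r => r ∈ fd.O.cls 1) ?_ _
    simp only [List.mem_cons, List.not_mem_nil, or_false] at hr
    rcases hr with rfl | rfl | rfl <;> decide

include Z in
theorem cls1' {g : ↥(chevD4.group F)} (hg : g ∈ (gens Z hq hK).data.X 1) :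
    ∃ t : F, g = prodX MT K [12, 13, 18] (tri q t) := by
  obtain ⟨t, rfl⟩ := cls1 Z hg.2 ((gens Z hq hK).fixed g hg.1)
  exact ⟨t, (Z.prodX_perm (L := [12, 13, 18]) (L' := [18, 13, 12]) (by decide)
    (list_ok Z _ (by decide)) _).symm⟩

include Z in
theorem card_X1 : Nat.card ↥((gens Z hq hK).data.X 1) = q ^ 3 := by
  refine Eq.trans ?_ ((Nat.card_eq_fintype_card (α := F)).trans hK)
  exact (gens Z hq hK).card_X_of (L := [12, 13, 18]) (by decide) (tri q)
    (fun a b h => by simpa [tri] using h 18 (by simp)) (tri_X Z hq hK)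
    fun g hg => cls1' Z hq hK hg

include Z in
theorem mem_derived : ∀ k, ∀ a ∈ (gens Z hq hK).data.X k,
    a ∈ (commutator ↥G₁).map (G₁).subtype := by
  intro k a ha
  obtain ⟨hadd, -, -⟩ := qpow_hom hq hK
  rw [(gens Z hq hK).derived_eq]
  have X := gens Z hq hK
  match k with
  | 0 =>
    obtain ⟨u, hu, rfl⟩ := cls0 Z ha.2 (X.fixed a ha.1)
    obtain ⟨c, hc, hc'⟩ := (X.nj_coset 1).conj_x 14
    have hw : (MT.S).actw (fd.O.wd 1) 14 = 22 := by decide +kernel
    obtain ⟨d, hd, hd'⟩ := ((X.nj_coset 1).mul _ (X.nj_coset 0)).conj_x 23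
    have hw2 : (MT.S).actw (fd.O.wd 1 ++ fd.O.wd 0) 23 = 14 := by decide +kernel
    have h22 : (MT.rel K).x 22 c ∈ G₁ := by
      have := mul_mem (mul_mem (X.nj_mem 1) (gen1_mem Z (t := 1) (one_pow q)).1) (inv_mem (X.nj_mem 1))
      rwa [hc', hw, mul_one] at this
    have hder : ∀ t : F, t ^ q = t → (MT.rel K).x 14 (d * c * t) ∈ ⁅G₁, G₁⁆ := by
      intro t ht
      have h1 := Z.x_mem_derived (r := 14) (s := 22) (a := 23) (c := 1) (by decide +kernel)
        (by decide) (by decide +kernel) (by decide +kernel) (gen1_mem Z ht).1 h22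
      have h2 := conj_mem_derived (mul_mem (X.nj_mem 1) (X.nj_mem 0)) h1
      rw [hd', hw2, Int.cast_one, one_mul] at h2
      rwa [show d * c * t = d * (t * c) by ring]
    have hk : (d * c) ^ q = d * c := by
      have h1 : (MT.rel K).x 14 (d * c * 1) ∈ G₁ :=
        (Subgroup.commutator_le.2 fun a ha b hb =>
          mul_mem (mul_mem (mul_mem ha hb) (inv_mem ha)) (inv_mem hb)) (hder 1 (one_pow q))
      have h2 := X.fixed _ h1
      rw [mul_one, Z.σ_x, (lam_eq (F := F) 14 (by simp)).1, (lam_eq (F := F) (q := q) 14 (by simp)).2,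
        one_mul] at h2
      exact Z.iso.x_injective _ h2
    have h0 : d * c ≠ 0 := mul_ne_zero hd hc
    have := hder ((d * c)⁻¹ * u) (by rw [mul_pow, inv_pow, hk, hu])
    rwa [← mul_assoc, mul_inv_cancel₀ h0, one_mul] at this
  | 1 =>
    obtain ⟨t, rfl⟩ := cls1' Z hq hK ha
    obtain ⟨b, hb⟩ : ∃ b : Fˣ, b ^ 2 ≠ 1 := by
      obtain ⟨g, hg⟩ := IsCyclic.exists_monoid_generator (α := Fˣ)
      refine ⟨g, fun h => ?_⟩
      have h1 : orderOf g ≤ 2 := orderOf_le_of_pow_eq_one (by omega) h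
      rw [orderOf_eq_card_of_forall_mem_powers hg, Nat.card_units, Nat.card_eq_fintype_card, hK] at h1
      have := Nat.pow_le_pow_left hq.two_le 3
      omega
    have hb' : (b : F) ^ 2 - 1 ≠ 0 := fun h => hb (Units.ext (by
      rw [Units.val_pow_eq_pow_val]; exact sub_eq_zero.1 h))
    have hsub : ∀ x : F, (x - 1) ^ q = x ^ q - 1 := by
      intro x
      have := hadd (x - 1) 1
      rw [sub_add_cancel, one_pow] at this
      rw [this, add_sub_cancel_right]
    set s := t / ((b : F) ^ 2 - 1) with hs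
    refine Z.prodX_mem_derived (L := [12, 13, 18]) (list_ok Z _ (by decide))
      (torus_mem Z hq hK (cvec q b 1) (sig_cvec Z hq hK b 1 (one_pow q))) (tri_X Z hq hK s).1 ?_
    have hts : ((b : F) ^ 2 - 1) * s = t := mul_div_cancel₀ t hb'
    intro r hr
    obtain ⟨v18, -, v13, v12⟩ := chi_val (F := F) (cvec q b 1)
    obtain ⟨e0, e1, e2, e3⟩ := cvec_val q b (1 : Fˣ)
    simp only [List.mem_cons, List.not_mem_nil, or_false] at hr
    rcases hr with rfl | rfl | rfl
    · have : (chi MT (cvec q b 1) (12 : Fin MT.tab.n) : F) = ((b : F) ^ 2) ^ (q ^ 2) := by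
        rw [v12]; simp only [e0, e1, e2, e3]; simp [← pow_mul, mul_comm]
      have h2 : ∀ x : F, (x - 1) ^ (q ^ 2) = x ^ (q ^ 2) - 1 := fun x => by
        rw [pow_two, pow_mul, hsub, hsub, ← pow_mul]
      rw [this, ← h2]
      simp [tri, ← mul_pow, hts]
    · have : (chi MT (cvec q b 1) (13 : Fin MT.tab.n) : F) = ((b : F) ^ 2) ^ q := by
        rw [v13]; simp only [e0, e1, e2, e3]; simp [← pow_mul, mul_comm]
      rw [this, ← hsub]
      simp [tri, ← mul_pow, hts]
    · have : (chi MT (cvec q b 1) (18 : Fin MT.tab.n) : F) = (b : F) ^ 2 := by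
        rw [v18]; simp only [e0, e1]; simp
      rw [this]
      simp [tri, hts]

include Z in
theorem card_U :
    Nat.card ↥(chevD4.posUnipotent F ⊓ twistedD4 F q) = q ^ 12 := by
  rw [twistedD4, card_U_twisted Z _ (gens Z hq hK) long_ok]
  simp only [W0, List.map_cons, List.map_nil, List.prod_cons, List.prod_nil, card_X0 Z hq hK,
    card_X1 Z hq hK]
  ring

include Z in
theorem card_H :
    Nat.card ↥(chevD4.diagonalSubgroup F ⊓ twistedD4 F q) = (q - 1) ^ 2 * (q ^ 2 + q + 1) := by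
  rw [twistedD4, card_H_twisted Z _ (gens Z hq hK), card_H1 Z hq hK]
  have := hq.pos
  zify [show 1 ≤ q by omega, Nat.one_le_pow 3 q this]
  ring

include Z in
theorem card_G : Nat.card ↥(twistedD4 F q) =
    q ^ 12 * (q ^ 2 - 1) * (q ^ 6 - 1) * (q ^ 8 + q ^ 4 + 1) := by
  have X := gens Z hq hK
  rw [twistedD4, card_twisted Z _ X long_ok (J := step0.KS) (fun k => by
    revert k; decide)]
  rw [X.card_step long_ok step0_ok span0_ok]
  rw [show step0.JS = step1.KS from rfl, X.card_step long_ok step1_ok span1_ok,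
    show step1.JS = [] from rfl, X.card_par1_nil long_ok, card_H1 Z hq hK, ← order_arith hq.pos]
  have s1 : (∑ c : Fin step1.m, ((step1.repF c).map fun k => Nat.card (X.data.X k)).prod) = 1 + q := by
    show (∑ c : Fin 2, _) = _
    simp [Fin.sum_univ_two, TStepData.repF, step1, card_X0 Z hq hK]
  have s0 : (∑ c : Fin step0.m, ((step0.repF c).map fun k => Nat.card (X.data.X k)).prod) =
      1 + q ^ 3 + q ^ 4 + q ^ 7 + q ^ 8 + q ^ 11 := by
    show (∑ c : Fin 6, _) = _
    simp [Fin.sum_univ_six, TStepData.repF, step0, card_X0 Z hq hK, card_X1 Z hq hK]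
    ring
  rw [s0, s1]
  simp only [W0, List.map_cons, List.map_nil, List.prod_cons, List.prod_nil, card_X0 Z hq hK,
    card_X1 Z hq hK]
  ring

include Z in
theorem bnPair : ∃ P : Cfsg.BNPair ↥(twistedD4 F q),
    P.B = (chevD4.borelSubgroup F ⊓ twistedD4 F q).subgroupOf (twistedD4 F q) ∧
    P.N = (chevD4.monomialSubgroup F ⊓ twistedD4 F q).subgroupOf (twistedD4 F q) :=
  bnPair_twisted Z _ (gens Z hq hK) long_ok distinct_ok orth_ok

include Z in
theorem core : ((chevD4.borelSubgroup F ⊓ twistedD4 F q).subgroupOf (twistedD4 F q)).normalCore = ⊥ :=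
  core_twisted Z _ (gens Z hq hK) long_ok ((gens Z hq hK).faith torOk simple_orth)

include Z in
theorem perfect : commutator ↥(twistedD4 F q) = ⊤ :=
  perfect_twisted Z _ (gens Z hq hK) (mem_derived Z hq hK)

include Z in
theorem simple : IsSimpleGroup ↥(twistedD4 F q) ∧ ¬ IsMulCommutative ↥(twistedD4 F q) :=
  simple_twisted Z _ (gens Z hq hK) long_ok distinct_ok orth_ok irr_ok (mem_derived Z hq hK)
    ((gens Z hq hK).faith torOk simple_orth)

include Z in
theorem weyl : ∃ φ : ↥(chevD4.monomialSubgroup F ⊓ twistedD4 F q) →* (CoxeterMatrix.G₂).Group,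
    Function.Surjective φ ∧ φ.ker = (chevD4.diagonalSubgroup F ⊓ twistedD4 F q).subgroupOf
      (chevD4.monomialSubgroup F ⊓ twistedD4 F q) :=
  weyl_twisted Z _ (gens Z hq hK) long_ok psi psi_inj (CoxeterMatrix.G₂).simple
    (fun k r => by rw [psi_simple]; rfl) simple_gen

end Cfsg.Agent.Twisted.TypeD4
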