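import Cfsg.Agent.Twisted.Groups.F4Gens
import Cfsg.Agent.Twisted.Count

/-!
`²F₄(q)`: orders, the (B, N)-pair, the Weyl group, perfectness and simplicity, given the relations of `F₄`.
-/

set_option autoImplicit false
set_option maxRecDepth 4000

open scoped commutatorElement

namespace Cfsg.Agent.Twisted.TypeF4

open ChevGroup ChevIsogeny Cfsg.Lie

theorem span0_ok : Mat.spanB chevF4 (step0.span.map Fin.val) = true := by decide +kernel

theorem span1_ok : Mat.spanB chevF4 (step1.span.map Fin.val) = true := by decide +kernel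

theorem orth_ok (k : Fin 2) :
    ∃ L : List (Fin MT.tab.n), L.Sublist MT.posList ∧ fd.orth k = L ∧ L ≠ [] := by
  match k with
  | 0 => exact ⟨[24, 33], by decide +kernel, rfl, by simp⟩
  | 1 => exact ⟨[28, 30], by decide +kernel, rfl, by simp⟩

/-- The orbit reflection on the roots. -/
def pf (k : Fin 2) (r : Fin MT.tab.n) : Fin MT.tab.n := (MT.S).actw (fd.O.wd k) r

/-- The dihedral group of order 16 on the roots. -/
def psiF : DihedralGroup 8 → Fin MT.tab.n → Fin MT.tab.n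
  | .r i => (fun r => pf 0 (pf 1 r))^[i.val]
  | .sr i => fun r => pf 0 ((fun r => pf 0 (pf 1 r))^[i.val] r)

theorem psiF_mul : ∀ a b : DihedralGroup 8, ∀ r, psiF (a * b) r = psiF a (psiF b r) := by
  decide +kernel

theorem psiF_one : ∀ r, psiF 1 r = r := by decide +kernel

theorem psiF_inj : ∀ a : DihedralGroup 8, (∀ r, psiF a r = r) → a = 1 := by decide +kernel

/-- The Weyl group of `²F₄` acting on the roots. -/
def psi : DihedralGroup 8 →* Equiv.Perm (Fin MT.tab.n) :=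
  MonoidHom.mk' (fun a =>
    { toFun := psiF a
      invFun := psiF a⁻¹
      left_inv := fun r => by rw [← psiF_mul, inv_mul_cancel, psiF_one]
      right_inv := fun r => by rw [← psiF_mul, mul_inv_cancel, psiF_one] })
    fun a b => Equiv.ext fun r => psiF_mul a b r

theorem psi_inj : Function.Injective psi := by
  rw [injective_iff_map_eq_one]
  intro g hg
  exact psiF_inj g fun r => Equiv.ext_iff.1 hg r

theorem psi_w : ∀ (k : Fin 2) (r : Fin MT.tab.n),
    psiF (.sr ((k.val : ℕ) : ZMod 8)) r = (MT.S).actw (fd.O.wd k) r := by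
  decide +kernel

theorem psi_gen :
    Subgroup.closure (Set.range fun k : Fin 2 => (DihedralGroup.sr ((k.val : ℕ) : ZMod 8))) = ⊤ := by
  set H := Subgroup.closure (Set.range fun k : Fin 2 => (DihedralGroup.sr ((k.val : ℕ) : ZMod 8)))
  rw [eq_top_iff]
  have h0 : DihedralGroup.sr (0 : ZMod 8) ∈ H := Subgroup.subset_closure ⟨0, by simp⟩
  have h1 : DihedralGroup.sr (1 : ZMod 8) ∈ H := Subgroup.subset_closure ⟨1, by simp⟩
  have hr : DihedralGroup.r (1 : ZMod 8) ∈ H := by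
    simpa [DihedralGroup.sr_mul_sr] using mul_mem h0 h1
  have hall : ∀ i : ZMod 8, DihedralGroup.r i ∈ H := fun i => by
    have := pow_mem hr i.val
    rwa [DihedralGroup.r_one_pow, ZMod.natCast_zmod_val] at this
  intro g _
  cases g with
  | r i => exact hall i
  | sr i => simpa [DihedralGroup.sr_mul_r] using mul_mem h0 (hall i)

variable {F : Type*} [Field F] [Fintype F] {m : ℕ} {K : Rels chevF4 F}
  (Z : Frame (T := MT) K PP (2 ^ m) fd)

set_option quotPrecheck false in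
local notation "G₁" => genG MT K (f4Words F (2 ^ m))

include Z

theorem tor_form (c : Fin MT.tab.l → Fˣ) (s t a b : F) :
    tor MT K c * form K s t a b * (tor MT K c)⁻¹ =
      form K ((chi MT c 27 : F) * s) ((chi MT c 25 : F) * t) ((chi MT c 28 : F) * a)
        ((chi MT c 30 : F) * b) := by
  have e : prodX MT K [28, 30] (two 28 ((chi MT c 28 : F) * a) ((chi MT c 30 : F) * b)) =
      prodX MT K [28, 30] fun r => (chi MT c r : F) * two 28 a b r := by
    refine Z.prodX_congr fun r hr => ?_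
    simp only [List.mem_cons, List.not_mem_nil, or_false] at hr
    rcases hr with rfl | rfl <;> simp [two]
  rw [form, form, e, ← Z.tor_conj, ← Z.tor_conj, ← Z.tor_prodX_conj]
  group

theorem chi_cvec0 (y : Fˣ) :
    chi MT (cvec m y 1) 33 = (y ^ 2) ^ 2 ^ m ∧ chi MT (cvec m y 1) 24 = y ^ 2 := by
  have p : ∀ i : Fin 4,
      (i = 0 → chevF4.pairing ((MT.S).simple i).val (33 : Fin MT.tab.n).val = 2 ∧
        chevF4.pairing ((MT.S).simple i).val (24 : Fin MT.tab.n).val = 0) ∧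
      (i = 3 → chevF4.pairing ((MT.S).simple i).val (33 : Fin MT.tab.n).val = 0 ∧
        chevF4.pairing ((MT.S).simple i).val (24 : Fin MT.tab.n).val = 2) := by
    decide +kernel
  obtain ⟨e0, e1, e2, e3⟩ := cvec_val Z y (1 : Fˣ)
  rw [one_pow] at e1
  have e : ∀ r, chi MT (cvec m y 1) r =
      (y ^ 2 ^ m) ^ chevF4.pairing ((MT.S).simple 0).val r.val * y ^ chevF4.pairing ((MT.S).simple 3).val r.val := by
    intro r
    refine (Fin.prod_univ_four _).trans ?_
    erw [e0, e1, e2, e3]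
    rw [one_zpow, one_zpow, mul_one, mul_one]
    rfl
  refine ⟨?_, ?_⟩
  · rw [e]; erw [((p 0).1 rfl).1, ((p 3).2 rfl).1]
    rw [zpow_ofNat, zpow_zero, mul_one, pow_right_comm]
  · rw [e]; erw [((p 0).1 rfl).2, ((p 3).2 rfl).2]
    simp

theorem chi_cvec1' (z : Fˣ) : chi MT (cvec m 1 z) 25 = (z ^ 2) * ((z ^ 2 ^ m) ^ 2)⁻¹ := by
  have p : ∀ i : Fin 4, chevF4.pairing ((MT.S).simple i).val (25 : Fin MT.tab.n).val =
      ([0, -2, 2, -1] : List ℤ).getD i.val 0 := by
    decide +kernel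
  obtain ⟨e0, e1, e2, e3⟩ := cvec_val Z (1 : Fˣ) z
  rw [one_pow] at e0
  refine (Fin.prod_univ_four _).trans ?_
  erw [e0, e1, e2, e3, p 0, p 1, p 2, p 3]
  rw [one_zpow, one_zpow, one_mul, mul_one]
  simp [zpow_neg, zpow_ofNat, mul_comm]

variable (hK : Fintype.card F = 2 ^ (2 * m + 1))
include hK

theorem chi_simple_one {c : Fin MT.tab.l → Fˣ} (h33 : chi MT c 33 = 1) (h27 : chi MT c 27 = 1)
    (h25 : chi MT c 25 = 1) (h24 : chi MT c 24 = 1) : tor MT K c = 1 := by
  have := hK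
  refine Z.tor_eq_one torOk fun j => ?_
  match j with
  | 0 => exact h33
  | 1 => exact h27
  | 2 => exact h25
  | 3 => exact h24

theorem pairW_mem_X (t : F) : pairW K m t ∈ (gens Z hK).data.X 0 :=
  Subgroup.mem_inf.2
    ⟨(pairW_mem Z t).1, Z.Sg_mem_prodX (Q := fun r => r ∈ fd.O.cls 0) (by decide +kernel) _⟩

theorem clsW_mem_X (t u : F) : clsW K m t u ∈ (gens Z hK).data.X 1 :=
  Subgroup.mem_inf.2 ⟨(clsW_mem Z t u).1,
    mul_mem (mul_mem (x_mem_Sg _ (T := fun r => r ∈ fd.O.cls 1) (by decide +kernel) _)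
      (x_mem_Sg _ (T := fun r => r ∈ fd.O.cls 1) (by decide +kernel) _))
      (Z.Sg_mem_prodX (Q := fun r => r ∈ fd.O.cls 1) (by decide +kernel) _)⟩

theorem faith : ∀ h ∈ (gens Z hK).data.H1, (∀ k, ∀ a ∈ (gens Z hK).data.X k, Commute h a) → h = 1 := by
  intro h hh hcom
  obtain ⟨c, rfl⟩ := Z.exists_tor torOk hh.2
  have hp := hcom 0 _ (pairW_mem_X Z hK 1)
  rw [pairW, Z.prodX_perm (L := [33, 24]) (L' := [24, 33]) (by decide) (list_ok Z _ (by decide))] at hp
  have hL : List.Sublist ([24, 33] : List (Fin MT.tab.n)) MT.posList := by decide +kernel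
  have h24 := Z.chi_eq_one_of_commute hL c _ hp 24 (by simp) (by simp [two])
  have h33 := Z.chi_eq_one_of_commute hL c _ hp 33 (by simp) (by simp [two])
  have hc := hcom 1 _ (clsW_mem_X Z hK 1 0)
  have h2 : tor MT K c * clsW K m 1 0 * (tor MT K c)⁻¹ = clsW K m 1 0 := by
    rw [hc.eq, mul_inv_cancel_right]
  rw [clsW, tor_form Z, one_pow, mul_one, mul_one] at h2
  obtain ⟨e27, e25, -, -⟩ := form_inj Z hK h2
  exact chi_simple_one Z hK h33 (Units.ext e27) (Units.ext e25) h24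

theorem card_X0 : Nat.card ↥((gens Z hK).data.X 0) = 2 ^ (2 * m + 1) := by
  rw [← hK, ← Nat.card_eq_fintype_card]
  refine (Nat.card_congr (Equiv.ofBijective
    (fun t : F => (⟨pairW K m t, pairW_mem_X Z hK t⟩ : ↥((gens Z hK).data.X 0))) ⟨?_, ?_⟩)).symm
  · intro t t' h
    have h' : pairW K m t = pairW K m t' := congrArg Subtype.val h
    rw [pairW, pairW, Z.prodX_perm (L := [33, 24]) (L' := [24, 33]) (by decide) (list_ok Z _ (by decide)),
      Z.prodX_perm (L := [33, 24]) (L' := [24, 33]) (by decide) (list_ok Z _ (by decide))] at h'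
    exact (Z.prodX_inj (L := [24, 33]) (by decide +kernel) h' 24 (by simp) :)
  · rintro ⟨g, hg⟩
    obtain ⟨t, rfl⟩ := cls0 Z hg.2 ((gens Z hK).fixed g hg.1)
    exact ⟨t, rfl⟩

theorem card_X1 : Nat.card ↥((gens Z hK).data.X 1) = (2 ^ (2 * m + 1)) ^ 2 := by
  rw [← hK, ← Nat.card_eq_fintype_card, pow_two, ← Nat.card_prod]
  refine (Nat.card_congr (Equiv.ofBijective
    (fun p : F × F => (⟨clsW K m p.1 p.2, clsW_mem_X Z hK p.1 p.2⟩ : ↥((gens Z hK).data.X 1)))
    ⟨?_, ?_⟩)).symm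
  · rintro ⟨t, u⟩ ⟨t', u'⟩ h
    obtain ⟨-, ht, hc, -⟩ := form_inj Z hK (congrArg Subtype.val h :)
    dsimp only at ht hc
    subst ht
    rw [add_left_cancel hc]
  · rintro ⟨g, hg⟩
    obtain ⟨t, u, rfl⟩ := cls1 Z hK hg.2 ((gens Z hK).fixed g hg.1)
    exact ⟨(t, u), rfl⟩

theorem card_H1 : Nat.card ↥(gens Z hK).data.H1 = (2 ^ (2 * m + 1) - 1) ^ 2 := by
  have h := (gens Z hK).card_H1_mul torOk (pre_eq Z) inv_ok (m := 2) (by decide) (per Z hK)
  have he : Nat.card ↥(Z.fixedPar pre) = (2 ^ (2 * m + 1) - 1) ^ 2 := by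
    rw [← hK, ← Nat.card_eq_fintype_card (α := F), ← Nat.card_units, pow_two, ← Nat.card_prod]
    exact Nat.card_congr
      { toFun := fun c => (c.1 3, c.1 2)
        invFun := fun z => ⟨cvec m z.1 z.2, sig_cvec Z hK z.1 z.2⟩
        left_inv := fun c => Subtype.ext (fixed_eq_cvec Z ((Z.mem_fixedPar).1 c.2)).symm
        right_inv := fun z => rfl }
  have h1 : ∀ c : {c : Fin MT.tab.l → Fˣ // Z.sig pre c = c ∧ tor MT K c = 1}, c.1 = 1 := fun c => by
    simpa using Z.pow_eq_one_of_tor torOk inv_ok c.2.2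
  have hs : Subsingleton {c : Fin MT.tab.l → Fˣ // Z.sig pre c = c ∧ tor MT K c = 1} :=
    ⟨fun a b => Subtype.ext ((h1 a).trans (h1 b).symm)⟩
  have hne : Nonempty {c : Fin MT.tab.l → Fˣ // Z.sig pre c = c ∧ tor MT K c = 1} :=
    ⟨⟨1, map_one _, by rw [← Z.torHom_apply, map_one]⟩⟩
  rw [he, Nat.card_eq_one_iff_unique.2 ⟨hs, hne⟩, one_mul] at h
  exact h

theorem exists_ne_one (hm : 1 ≤ m) : ∃ z : Fˣ, z ≠ 1 := by
  have := Z
  have h1 : 1 < Nat.card Fˣ := by
    rw [Nat.card_units, Nat.card_eq_fintype_card, hK]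
    have : (2 : ℕ) ^ 3 ≤ 2 ^ (2 * m + 1) := Nat.pow_le_pow_right (by norm_num) (by omega)
    norm_num at this ⊢
    omega
  haveI := (Finite.one_lt_card_iff_nontrivial.1 h1)
  exact exists_ne 1

theorem sq_inj {x y : F} (h : x ^ 2 = y ^ 2) : x = y := by
  have := Z
  haveI := charTwo hK
  exact sub_eq_zero.1 (pow_eq_zero_iff two_ne_zero |>.1 (by
    rw [CharTwo.sub_eq_add, CharTwo.add_sq, h, CharTwo.add_self_eq_zero]))

theorem mem_derived (hm : 1 ≤ m) : ∀ k, ∀ a ∈ (gens Z hK).data.X k,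
    a ∈ (commutator ↥G₁).map (G₁).subtype := by
  intro k a ha
  rw [(gens Z hK).derived_eq]
  obtain ⟨-, ha1, ha2, -, -, hper, -⟩ := pow_facts hK
  obtain ⟨z, hz⟩ := exists_ne_one Z hK hm
  have hsub1 : ∀ x : F, (x - 1) ^ 2 ^ m = x ^ 2 ^ m - 1 := fun x => by
    have := ha1 (x - 1) 1
    rw [sub_add_cancel, one_pow] at this
    rw [this, add_sub_cancel_right]
  have hsub2 : ∀ x : F, (x - 1) ^ (2 * 2 ^ m) = x ^ (2 * 2 ^ m) - 1 := fun x => by
    have := ha2 (x - 1) 1
    rw [sub_add_cancel, one_pow] at this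
    rw [this, add_sub_cancel_right]
  match k with
  | 0 =>
    obtain ⟨t, rfl⟩ := cls0 Z ha.2 ((gens Z hK).fixed a ha.1)
    obtain ⟨c33, c24⟩ := chi_cvec0 Z z
    have hz2 : (z : F) ^ 2 - 1 ≠ 0 := by
      rw [sub_ne_zero]
      intro h
      exact hz (Units.ext (sq_inj Z hK (by rw [h, Units.val_one, one_pow])))
    refine Z.prodX_mem_derived (list_ok Z _ (by decide))
      (w := two 33 ((t / ((z : F) ^ 2 - 1)) ^ 2 ^ m) (t / ((z : F) ^ 2 - 1)))
      (torus_mem Z hK _ (sig_cvec Z hK z 1)) (pairW_mem Z _).1 fun r hr => ?_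
    simp only [List.mem_cons, List.not_mem_nil, or_false] at hr
    rcases hr with rfl | rfl
    · simp only [two, if_pos, c33, Units.val_pow_eq_pow_val]
      rw [← hsub1, ← mul_pow, mul_div_cancel₀ _ hz2]
    · rw [c24, Units.val_pow_eq_pow_val]
      simp only [two, if_neg (show (24 : Fin MT.tab.n) ≠ 33 by decide)]
      exact mul_div_cancel₀ _ hz2
  | 1 =>
    obtain ⟨t, u, rfl⟩ := cls1 Z hK ha.2 ((gens Z hK).fixed a ha.1)
    obtain ⟨c28, c30, -, -, -⟩ := chi_cvec1 Z z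
    have c25 := chi_cvec1' Z z
    set c := cvec m 1 z with hc
    have htor := torus_mem Z hK c (sig_cvec Z hK 1 z)
    have hz1 : (z : F) - 1 ≠ 0 := sub_ne_zero.2 fun h => hz (Units.ext h)
    have hN : ∀ u : F, clsW K m 0 u ∈ ⁅G₁, G₁⁆ := by
      intro u
      have hw := (clsW_mem Z (0 : F) (u / ((z : F) - 1))).1
      rw [← (og1_eq Z hK _).1] at hw ⊢
      refine Z.prodX_mem_derived (list_ok Z _ (by decide)) htor hw fun r hr => ?_
      simp only [List.mem_cons, List.not_mem_nil, or_false] at hr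
      rcases hr with rfl | rfl
      · simp only [two, if_pos, c28]
        exact mul_div_cancel₀ _ hz1
      · simp only [two, if_neg (show (30 : Fin MT.tab.n) ≠ 28 by decide), c30, Units.val_pow_eq_pow_val]
        rw [← hsub2, ← mul_pow, mul_div_cancel₀ _ hz1]
    have h25 : ((chi MT c 25 : Fˣ) : F) - 1 ≠ 0 := by
      rw [sub_ne_zero, c25]
      intro h
      have h1 : (z : F) ^ 2 = ((z : F) ^ 2 ^ m) ^ 2 := by
        have := mul_inv_eq_one.1 (Units.ext h : (z ^ 2) * ((z ^ 2 ^ m) ^ 2)⁻¹ = 1)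
        simpa using congrArg Units.val this
      have h2 : (z : F) = z ^ 2 := by
        conv_lhs => rw [← hper (z : F)]
        rw [pow_mul, show (z : F) ^ (2 * 2 ^ m) = (z : F) ^ 2 by rw [mul_comm, pow_mul, ← h1], ← pow_mul,
          mul_comm, pow_mul, ← h1]
      refine hz1 ?_
      have h3 : (z : F) * 1 = (z : F) * z := by rw [mul_one, ← sq]; exact h2
      rw [← mul_left_cancel₀ z.ne_zero h3, sub_self]
    set s := t / (((chi MT c 25 : Fˣ) : F) - 1) with hs
    have hts : (((chi MT c 25 : Fˣ) : F) - 1) * s = t := mul_div_cancel₀ t h25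
    set h := tor MT K c with hh
    set p := ⁅h, clsW K m s 0⁆ with hp
    have hpd : p ∈ ⁅G₁, G₁⁆ := Subgroup.commutator_mem_commutator htor (clsW_mem Z s 0).1
    have hsU := (clsW_mem_X Z hK s 0).2
    have hpU : p ∈ Sg (MT.rel K) (· ∈ fd.O.cls 1) := by
      rw [hp, commutatorElement_def]
      exact mul_mem (H_conj_Sg _ (Z.tor_mem_H _) hsU) (inv_mem hsU)
    have hp1 : p ∈ G₁ := by
      rw [hp, commutatorElement_def]
      exact mul_mem (mul_mem (mul_mem htor (clsW_mem Z s 0).1) (inv_mem htor))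
        (inv_mem (clsW_mem Z s 0).1)
    obtain ⟨t', u', hpw⟩ := cls1 Z hK hpU ((gens Z hK).fixed p hp1)
    have hmul : h * clsW K m s 0 * h⁻¹ = clsW K m t' u' * clsW K m s 0 := by
      rw [← hpw, hp, commutatorElement_def, inv_mul_cancel_right]
    rw [clsW, clsW, hh, tor_form Z, form_mul Z hK] at hmul
    obtain ⟨-, ht', -, -⟩ := form_inj Z hK hmul
    have ht : t' = t := by
      rw [← hts]
      linear_combination -ht'
    subst ht
    have hdec : clsW K m t' u = clsW K m t' u' * clsW K m 0 (u - u') := by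
      have z0 : (0 : F) ^ 2 ^ m = 0 := zero_pow (pow_ne_zero _ (by norm_num))
      have z1 : (0 : F) ^ (2 ^ m + 1) = 0 := zero_pow (Nat.succ_ne_zero _)
      rw [clsW, clsW, clsW, form_mul Z hK, z0, z1]
      have := ha2 (u - u') u'
      rw [sub_add_cancel] at this
      rw [this]
      congr 1 <;> ring
    rw [hdec, ← hpw]
    exact mul_mem hpd (hN _)

theorem card_U :
    Nat.card ↥(chevF4.posUnipotent F ⊓ twistedF4 F (2 ^ m)) = (2 ^ (2 * m + 1)) ^ 12 := by
  rw [twistedF4, card_U_twisted Z _ (gens Z hK) long_ok]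
  simp only [W0, List.map_cons, List.map_nil, List.prod_cons, List.prod_nil, card_X0 Z hK, card_X1 Z hK]
  ring

theorem card_H :
    Nat.card ↥(chevF4.diagonalSubgroup F ⊓ twistedF4 F (2 ^ m)) = (2 ^ (2 * m + 1) - 1) ^ 2 := by
  rw [twistedF4, card_H_twisted Z _ (gens Z hK), card_H1 Z hK]

theorem card_G : Nat.card ↥(twistedF4 F (2 ^ m)) =
    (2 ^ (2 * m + 1)) ^ 12 * (2 ^ (2 * m + 1) - 1) * ((2 ^ (2 * m + 1)) ^ 3 + 1) *
      ((2 ^ (2 * m + 1)) ^ 4 - 1) * ((2 ^ (2 * m + 1)) ^ 6 + 1) := by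
  have X := gens Z hK
  rw [twistedF4, card_twisted Z _ X long_ok (J := step0.KS) (fun k => by revert k; decide),
    X.card_step long_ok step0_ok span0_ok, show step0.JS = step1.KS from rfl,
    X.card_step long_ok step1_ok span1_ok, show step1.JS = [] from rfl, X.card_par1_nil long_ok,
    card_H1 Z hK]
  have s0 : (∑ c : Fin step0.m, ((step0.repF c).map fun k => Nat.card (X.data.X k)).prod) =
      (1 + (2 ^ (2 * m + 1)) ^ 2) * (1 + (2 ^ (2 * m + 1)) ^ 3) * (1 + (2 ^ (2 * m + 1)) ^ 6) := by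
    show (∑ c : Fin 8, _) = _
    simp [Fin.sum_univ_eight, TStepData.repF, step0, card_X0 Z hK, card_X1 Z hK]
    ring
  have s1 : (∑ c : Fin step1.m, ((step1.repF c).map fun k => Nat.card (X.data.X k)).prod) =
      1 + 2 ^ (2 * m + 1) := by
    show (∑ c : Fin 2, _) = _
    simp [Fin.sum_univ_two, TStepData.repF, step1, card_X0 Z hK]
  rw [s0, s1]
  simp only [W0, List.map_cons, List.map_nil, List.prod_cons, List.prod_nil, card_X0 Z hK, card_X1 Z hK]
  generalize hq : 2 ^ (2 * m + 1) = q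
  have hq1 : 1 ≤ q := hq ▸ Nat.one_le_two_pow
  have hq4 : 1 ≤ q ^ 4 := Nat.one_le_pow _ _ hq1
  zify [hq1, hq4]
  ring

theorem bnPair : ∃ P : Cfsg.BNPair ↥(twistedF4 F (2 ^ m)),
    P.B = (chevF4.borelSubgroup F ⊓ twistedF4 F (2 ^ m)).subgroupOf (twistedF4 F (2 ^ m)) ∧
    P.N = (chevF4.monomialSubgroup F ⊓ twistedF4 F (2 ^ m)).subgroupOf (twistedF4 F (2 ^ m)) :=
  bnPair_twisted Z _ (gens Z hK) long_ok distinct_ok orth_ok

theorem core : ((chevF4.borelSubgroup F ⊓ twistedF4 F (2 ^ m)).subgroupOf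
    (twistedF4 F (2 ^ m))).normalCore = ⊥ :=
  core_twisted Z _ (gens Z hK) long_ok (faith Z hK)

theorem perfect (hm : 1 ≤ m) : commutator ↥(twistedF4 F (2 ^ m)) = ⊤ :=
  perfect_twisted Z _ (gens Z hK) (mem_derived Z hK hm)

theorem simple (hm : 1 ≤ m) :
    IsSimpleGroup ↥(twistedF4 F (2 ^ m)) ∧ ¬ IsMulCommutative ↥(twistedF4 F (2 ^ m)) :=
  simple_twisted Z _ (gens Z hK) long_ok distinct_ok orth_ok irr_ok (mem_derived Z hK hm) (faith Z hK)

theorem weyl : ∃ φ : ↥(chevF4.monomialSubgroup F ⊓ twistedF4 F (2 ^ m)) →* DihedralGroup 8,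
    Function.Surjective φ ∧ φ.ker = (chevF4.diagonalSubgroup F ⊓ twistedF4 F (2 ^ m)).subgroupOf
      (chevF4.monomialSubgroup F ⊓ twistedF4 F (2 ^ m)) :=
  weyl_twisted Z _ (gens Z hK) long_ok psi psi_inj (fun k => DihedralGroup.sr ((k.val : ℕ) : ZMod 8))
    psi_w psi_gen

end Cfsg.Agent.Twisted.TypeF4
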