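import Cfsg.Agent.Twisted.Groups.G2Gens
import Cfsg.Agent.Twisted.Count

/-!
`²G₂(q)`: orders, the (B, N)-pair, the Weyl group, perfectness and simplicity, given the relations of `G₂`.
-/

set_option autoImplicit false

open scoped commutatorElement

namespace Cfsg.Agent.Twisted.TypeG2

open ChevGroup ChevIsogeny Cfsg.Lie

theorem span0_ok : Mat.spanB chevG2 (step0.span.map Fin.val) = true := by decide +kernel

theorem orth_ok (k : Fin 1) :
    ∃ L : List (Fin MT.tab.n), L.Sublist MT.posList ∧ fd.orth k = L ∧ L ≠ [] := by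
  match k with
  | 0 => exact ⟨[8, 10], by decide +kernel, rfl, by simp⟩

/-- The orbit reflection as a permutation of the roots. -/
def pw (k : Fin 1) : Equiv.Perm (Fin MT.tab.n) where
  toFun r := (MT.S).actw (fd.O.wd k) r
  invFun r := (MT.S).actw (fd.O.wd k).reverse r
  left_inv r := (MT.S).actw_reverse' _ r
  right_inv r := (MT.S).actw_reverse _ r

theorem pw_facts : pw 0 * pw 0 = 1 ∧ pw 0 ≠ 1 := by
  have h : (∀ r, (pw 0 * pw 0) r = r) ∧ ∃ r, pw 0 r ≠ r := by decide +kernel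
  refine ⟨Equiv.ext h.1, fun h1 => ?_⟩
  obtain ⟨r, hr⟩ := h.2
  exact hr (by rw [h1]; rfl)

theorem two_cases : ∀ g : Multiplicative (ZMod 2), g = 1 ∨ g = Multiplicative.ofAdd 1 := by decide

/-- The Weyl group of `²G₂` acting on the roots. -/
def psi : Multiplicative (ZMod 2) →* Equiv.Perm (Fin MT.tab.n) :=
  MonoidHom.mk' (fun g => if g = 1 then 1 else pw 0) fun a b => by
    rcases two_cases a with rfl | rfl <;> rcases two_cases b with rfl | rfl
    · simp
    · simp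
    · simp
    · rw [if_pos (by decide), if_neg (by decide)]
      exact pw_facts.1.symm

theorem psi_one_elt : psi (Multiplicative.ofAdd 1) = pw 0 :=
  if_neg (t := (1 : Equiv.Perm (Fin MT.tab.n))) (show Multiplicative.ofAdd (1 : ZMod 2) ≠ 1 by decide)

theorem psi_inj : Function.Injective psi := by
  rw [injective_iff_map_eq_one]
  intro g hg
  rcases two_cases g with rfl | rfl
  · rfl
  · exact absurd (psi_one_elt.symm.trans hg) pw_facts.2

theorem psi_gen :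
    Subgroup.closure (Set.range fun _ : Fin 1 => (Multiplicative.ofAdd 1 : Multiplicative (ZMod 2))) = ⊤ := by
  rw [eq_top_iff]
  intro g _
  rcases two_cases g with rfl | rfl
  · exact one_mem _
  · exact Subgroup.subset_closure ⟨0, rfl⟩

variable {F : Type*} [Field F] [Fintype F] {m : ℕ} {K : Rels chevG2 F}
  (Z : Frame (T := MT) K PP (3 ^ m) fd)

set_option quotPrecheck false in
local notation "G₁" => genG MT K (g2Words F (3 ^ m))

include Z

theorem wordU_mem_Uk (t u v : F) : wordU K m t u v ∈ Sg (MT.rel K) (· ∈ fd.O.cls 0) :=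
  mul_mem (mul_mem (x_mem_Sg _ (T := fun r => r ∈ fd.O.cls 0) (by decide) _)
    (x_mem_Sg _ (T := fun r => r ∈ fd.O.cls 0) (by decide) _))
    (Z.Sg_mem_prodX (Q := fun r => r ∈ fd.O.cls 0) (by decide) _)

theorem push {r : Fin MT.tab.n} (hr : r ∈ ([6, 7] : List (Fin MT.tab.n))) (v : Fin MT.tab.n → F) (a : F) :
    ∃ w, prodX MT K NL v * (MT.rel K).x r a = (MT.rel K).x r a * prodX MT K NL w := by
  have hmem : (MT.rel K).x r (-a) * prodX MT K NL v * (MT.rel K).x r a ∈ Sg (MT.rel K) (· ∈ NL) := by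
    have hv := Z.Sg_mem_prodX (Q := fun u => u ∈ NL) (fun _ h => h) v
    generalize prodX MT K NL v = g at hv
    induction hv using Subgroup.closure_induction with
    | mem y hy =>
      obtain ⟨s, u, hs, rfl⟩ := hy
      obtain ⟨h1, h2, h3⟩ := NL_closed r hr s hs
      have h := IsoHyp.conj_eq (T := MT) (K := K) Z.iso.comm (MT.lt r) (MT.lt s) h1 h2 (-a) u
      rw [IsoHyp.xN_val, IsoHyp.xN_val, IsoHyp.xN_val, neg_neg] at h
      rw [h]
      refine mul_mem (x_mem_Sg _ (T := fun u => u ∈ NL) hs u) (Subgroup.list_prod_mem _ fun y hy => ?_)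
      obtain ⟨c, hc, rfl⟩ := List.mem_map.1 hy
      obtain ⟨d, hd, hdc⟩ := h3 c hc
      rw [IsoHyp.val, ← hdc, IsoHyp.xN_val]
      exact x_mem_Sg _ (T := fun u => u ∈ NL) hd _
    | one => simp [(MT.rel K).x_neg]
    | mul g g' _ _ hg hg' => simpa [mul_assoc, (MT.rel K).x_neg] using mul_mem hg hg'
    | inv g _ hg => simpa [mul_assoc, (MT.rel K).x_neg] using inv_mem hg
  obtain ⟨w, hw⟩ := Z.exists_prodX NL_ok.1 hmem
  exact ⟨w, by rw [← hw, (MT.rel K).x_neg]; group⟩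

theorem form_mul (s t s' t' : F) (v v' : Fin MT.tab.n → F) :
    ∃ a b c d, form K s t v * form K s' t' v' = form K (s + s') (t + t') (nv a b c d) := by
  obtain ⟨v1, h1⟩ := push Z (r := 7) (by simp) v s'
  obtain ⟨v2, h2⟩ := push Z (r := 6) (by simp)
    (nv (s' * t) (s' ^ 2 * t) (-(s' ^ 3 * t)) (-(s' ^ 3 * t ^ 2)) + v1) t'
  refine ⟨(v2 + v') 8, (v2 + v') 9, (v2 + v') 10, (v2 + v') 11, ?_⟩
  have hsw := swapU Z s' t
  rw [form] at hsw
  calc form K s t v * form K s' t' v'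
      = (MT.rel K).x 7 s * (MT.rel K).x 6 t * (prodX MT K NL v * (MT.rel K).x 7 s') *
          (MT.rel K).x 6 t' * prodX MT K NL v' := by simp only [form, mul_assoc]
    _ = (MT.rel K).x 7 s * ((MT.rel K).x 6 t * (MT.rel K).x 7 s') * (prodX MT K NL v1 *
          (MT.rel K).x 6 t') * prodX MT K NL v' := by rw [h1]; simp only [mul_assoc]
    _ = ((MT.rel K).x 7 s * (MT.rel K).x 7 s') * (MT.rel K).x 6 t *
          (prodX MT K NL (nv (s' * t) (s' ^ 2 * t) (-(s' ^ 3 * t)) (-(s' ^ 3 * t ^ 2))) * prodX MT K NL v1 *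
            (MT.rel K).x 6 t') * prodX MT K NL v' := by rw [hsw]; simp only [mul_assoc]
    _ = (MT.rel K).x 7 (s + s') * ((MT.rel K).x 6 t * (MT.rel K).x 6 t') *
          (prodX MT K NL v2 * prodX MT K NL v') := by
      rw [NL_mul Z, h2, ← (MT.rel K).x_add]; simp only [mul_assoc]
    _ = _ := by rw [← (MT.rel K).x_add, NL_mul Z, nv_eta Z (v2 + v'), form]

theorem tor_form (c : Fin MT.tab.l → Fˣ) (s t : F) (v : Fin MT.tab.n → F) :
    tor MT K c * form K s t v * (tor MT K c)⁻¹ =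
      form K ((chi MT c 7 : F) * s) ((chi MT c 6 : F) * t) fun r => (chi MT c r : F) * v r := by
  rw [form, form, ← Z.tor_conj, ← Z.tor_conj, ← Z.tor_prodX_conj]
  group

theorem chi_simple_one {c : Fin MT.tab.l → Fˣ} (h7 : chi MT c 7 = 1) (h6 : chi MT c 6 = 1) :
    tor MT K c = 1 := by
  refine Z.tor_eq_one torOk fun j => ?_
  match j with
  | 0 => exact h7
  | 1 => exact h6

theorem faith (hK : Fintype.card F = 3 ^ (2 * m + 1)) :
    ∀ h ∈ (gens Z hK).data.H1, (∀ k, ∀ a ∈ (gens Z hK).data.X k, Commute h a) → h = 1 := by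
  intro h hh hcom
  obtain ⟨c, rfl⟩ := Z.exists_tor torOk hh.2
  have ha : wordU K m 1 0 0 ∈ (gens Z hK).data.X 0 :=
    Subgroup.mem_inf.2 ⟨wordU_mem Z _ _ _, wordU_mem_Uk Z _ _ _⟩
  have h1 := hcom 0 _ ha
  have h2 : tor MT K c * wordU K m 1 0 0 * (tor MT K c)⁻¹ = wordU K m 1 0 0 := by
    rw [h1.eq, mul_inv_cancel_right]
  rw [wordU, tor_form Z, one_pow, mul_one, mul_one] at h2
  have e : ∀ (s t : F) (v : Fin MT.tab.n → F),
      form K s t v = form K s t (nv (v 8) (v 9) (v 10) (v 11)) := fun s t v => by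
    rw [form, form, ← nv_eta Z]
  rw [e] at h2
  conv_rhs at h2 => rw [e]
  obtain ⟨e7, e6, -⟩ := form_inj Z h2
  exact chi_simple_one Z (Units.ext e7) (Units.ext e6)

variable (hK : Fintype.card F = 3 ^ (2 * m + 1))
include hK

theorem wordU_inj {t u v t' u' v' : F} (h : wordU K m t u v = wordU K m t' u' v') :
    t = t' ∧ u = u' ∧ v = v' := by
  obtain ⟨-, ht, -, -, hu, hv⟩ := form_inj Z h
  exact ⟨ht, hu, hv⟩

theorem card_X0 : Nat.card ↥((gens Z hK).data.X 0) = (3 ^ (2 * m + 1)) ^ 3 := by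
  rw [← hK, ← Nat.card_eq_fintype_card, pow_succ, pow_two, ← Nat.card_prod, ← Nat.card_prod]
  refine (Nat.card_congr (Equiv.ofBijective
    (fun p : (F × F) × F => (⟨wordU K m p.1.1 p.1.2 p.2,
      Subgroup.mem_inf.2 ⟨wordU_mem Z _ _ _, wordU_mem_Uk Z _ _ _⟩⟩ : ↥((gens Z hK).data.X 0)))
    ⟨?_, ?_⟩)).symm
  · rintro ⟨⟨t, u⟩, v⟩ ⟨⟨t', u'⟩, v'⟩ h
    obtain ⟨rfl, rfl, rfl⟩ := wordU_inj Z hK (congrArg Subtype.val h :)
    rfl
  · rintro ⟨g, hg⟩
    obtain ⟨t, u, v, rfl⟩ := cls0 Z hK hg.2 ((gens Z hK).fixed g hg.1)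
    exact ⟨((t, u), v), rfl⟩

theorem card_H1 : Nat.card ↥(gens Z hK).data.H1 = 3 ^ (2 * m + 1) - 1 := by
  have h := (gens Z hK).card_H1_mul torOk (pre_eq Z) inv_ok (m := 2) (by decide) (per Z hK)
  have he : Nat.card ↥(Z.fixedPar pre) = 3 ^ (2 * m + 1) - 1 := by
    rw [← hK, ← Nat.card_eq_fintype_card (α := F), ← Nat.card_units]
    exact Nat.card_congr
      { toFun := fun c => c.1 1
        invFun := fun z => ⟨cvec Z z, sig_cvec Z hK z⟩
        left_inv := fun c => Subtype.ext (fixed_eq_cvec Z ((Z.mem_fixedPar).1 c.2)).symm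
        right_inv := fun z => rfl }
  have h1 : ∀ c : {c : Fin MT.tab.l → Fˣ // Z.sig pre c = c ∧ tor MT K c = 1}, c.1 = 1 := fun c => by
    simpa using Z.pow_eq_one_of_tor torOk inv_ok c.2.2
  have hs : Subsingleton {c : Fin MT.tab.l → Fˣ // Z.sig pre c = c ∧ tor MT K c = 1} :=
    ⟨fun a b => Subtype.ext ((h1 a).trans (h1 b).symm)⟩
  have hne : Nonempty {c : Fin MT.tab.l → Fˣ // Z.sig pre c = c ∧ tor MT K c = 1} :=
    ⟨⟨1, map_one _, by rw [← Z.torHom_apply, map_one]⟩⟩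
  rw [he, Nat.card_eq_one_iff_unique.2 ⟨hs, hne⟩, one_mul] at h
  exact h

theorem chi_cvec (z : Fˣ) :
    chi MT (cvec Z z) 7 = chi MT (cvec Z z) 6 ^ 3 ^ m ∧
      chi MT (cvec Z z) 8 = chi MT (cvec Z z) 6 ^ (3 ^ m + 1) ∧
      chi MT (cvec Z z) 9 = chi MT (cvec Z z) 6 ^ (2 * 3 ^ m + 1) ∧
      chi MT (cvec Z z) 10 = chi MT (cvec Z z) 6 ^ (3 * 3 ^ m + 1) ∧
      chi MT (cvec Z z) 11 = chi MT (cvec Z z) 6 ^ (3 * 3 ^ m + 2) := by
  obtain ⟨-, -, -, -, -, hper⟩ := pow_facts hK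
  have p : ∀ i : Fin 2,
      chevG2.pairing ((MT.S).simple i).val (7 : Fin MT.tab.n).val = ([2, -1] : List ℤ).getD i.val 0 ∧
      chevG2.pairing ((MT.S).simple i).val (6 : Fin MT.tab.n).val = ([-3, 2] : List ℤ).getD i.val 0 := by
    decide +kernel
  have h7 : chi MT (cvec Z z) 7 = (z ^ 3 ^ m) ^ (2 : ℤ) * z ^ (-1 : ℤ) := by
    refine (Finset.prod_congr rfl fun i _ => congrArg _ (p i).1).trans ?_
    exact Fin.prod_univ_two _
  have h6 : chi MT (cvec Z z) 6 = (z ^ 3 ^ m) ^ (-3 : ℤ) * z ^ (2 : ℤ) := by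
    refine (Finset.prod_congr rfl fun i _ => congrArg _ (p i).2).trans ?_
    exact Fin.prod_univ_two _
  have k7 : chi MT (cvec Z z) 7 = chi MT (cvec Z z) 6 ^ 3 ^ m := by
    have hz : ((z ^ 3 ^ m) ^ 3) ^ 3 ^ m = z := by
      rw [← pow_mul, ← pow_mul, show 3 ^ m * (3 * 3 ^ m) = 3 * 3 ^ m * 3 ^ m by ring]
      exact Units.ext (by rw [Units.val_pow_eq_pow_val]; exact hper _)
    rw [h7, h6, zpow_neg_one, zpow_neg, zpow_ofNat, zpow_ofNat, zpow_ofNat, mul_pow, inv_pow, hz,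
      pow_right_comm z, mul_comm]
  have hc := Z.chi_eq torOk (cvec Z z)
  have e2 : ∀ r : Fin MT.tab.n, chi MT (cvec Z z) r =
      chi MT (cvec Z z) 7 ^ fd.O.vec r 0 * chi MT (cvec Z z) 6 ^ fd.O.vec r 1 := fun r =>
    (hc r).trans (Fin.prod_univ_two _)
  refine ⟨k7, ?_, ?_, ?_, ?_⟩
  · rw [e2 8, show fd.O.vec 8 0 = 1 from rfl, show fd.O.vec 8 1 = 1 from rfl, k7]
    simp only [zpow_ofNat, pow_one, ← pow_succ, ← pow_mul, ← pow_add]
    try ring_nf
  · rw [e2 9, show fd.O.vec 9 0 = 2 from rfl, show fd.O.vec 9 1 = 1 from rfl, k7]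
    simp only [zpow_ofNat, pow_one, ← pow_succ, ← pow_mul, ← pow_add]
    try ring_nf
  · rw [e2 10, show fd.O.vec 10 0 = 3 from rfl, show fd.O.vec 10 1 = 1 from rfl, k7]
    simp only [zpow_ofNat, pow_one, ← pow_succ, ← pow_mul, ← pow_add]
    try ring_nf
  · rw [e2 11, show fd.O.vec 11 0 = 3 from rfl, show fd.O.vec 11 1 = 2 from rfl, k7]
    simp only [zpow_ofNat, pow_one, ← pow_succ, ← pow_mul, ← pow_add]
    try ring_nf

/-- A fixed torus element with prescribed value on `b`. -/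
theorem exists_cvec (g : Fˣ) : ∃ z, chi MT (cvec Z z) 6 = g := by
  have hinj : Function.Injective fun z => chi MT (cvec Z z) 6 := by
    intro z z' h
    have h7 : chi MT (cvec Z z) 7 = chi MT (cvec Z z') 7 := by
      rw [(chi_cvec Z hK z).1, (chi_cvec Z hK z').1]
      exact congrArg (· ^ 3 ^ m) h
    have h1 : tor MT K (cvec Z z) = tor MT K (cvec Z z') := Z.tor_ext fun s => by
      rw [Z.chi_eq torOk _ s, Z.chi_eq torOk _ s]
      refine Finset.prod_congr rfl fun j _ => congrArg (· ^ fd.O.vec s j) ?_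
      match j with
      | 0 => exact h7
      | 1 => exact h
    have h2 : tor MT K (cvec Z z * (cvec Z z')⁻¹) = 1 := by
      rw [← Z.torHom_apply, map_mul, map_inv, Z.torHom_apply, Z.torHom_apply, h1, mul_inv_cancel]
    have h3 := congrFun (Z.pow_eq_one_of_tor torOk inv_ok h2) 1
    simp only [pow_one, Pi.one_apply, Pi.mul_apply, Pi.inv_apply] at h3
    exact mul_inv_eq_one.1 h3
  exact Finite.injective_iff_surjective.1 hinj g

theorem mem_derived (hm : 1 ≤ m) : ∀ k, ∀ a ∈ (gens Z hK).data.X k,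
    a ∈ (commutator ↥G₁).map (G₁).subtype := by
  intro k a ha
  rw [(gens Z hK).derived_eq]
  obtain ⟨-, ha1, -, -, -, hper⟩ := pow_facts hK
  obtain ⟨g, hg⟩ := IsCyclic.exists_monoid_generator (α := Fˣ)
  have hord : orderOf g = 3 * 3 ^ m * 3 ^ m - 1 := by
    rw [orderOf_eq_card_of_forall_mem_powers hg, Nat.card_units, Nat.card_eq_fintype_card, hK]
    congr 1
    rw [pow_succ, two_mul, pow_add]; ring
  have he : 3 ≤ 3 ^ m := (pow_one 3).symm.le.trans (Nat.pow_le_pow_right (by norm_num) hm)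
  have hpne : ∀ n, 0 < n → n ≤ 3 * 3 ^ m + 2 → ((g ^ n : Fˣ) : F) - 1 ≠ 0 := by
    intro n h0 h1 h2
    have h3 : orderOf g ∣ n := orderOf_dvd_of_pow_eq_one (Units.ext (sub_eq_zero.1 h2))
    have := Nat.le_of_dvd h0 h3
    rw [hord] at this
    have h5 : 3 * 3 ^ m * 3 ≤ 3 * 3 ^ m * 3 ^ m := Nat.mul_le_mul_left _ he
    omega
  obtain ⟨z, hz⟩ := exists_cvec Z hK g
  obtain ⟨k7, k8, k9, k10, k11⟩ := chi_cvec Z hK z
  rw [hz] at k7 k8 k9 k10 k11
  have hsub : ∀ x : F, (x - 1) ^ 3 ^ m = x ^ 3 ^ m - 1 := fun x => by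
    have := ha1 (x - 1) 1
    rw [sub_add_cancel, one_pow] at this
    rw [this, add_sub_cancel_right]
  have htor := torus_mem Z hK _ (sig_cvec Z hK z)
  have z1 : (0 : F) ^ (3 ^ m + 1) = 0 := zero_pow (Nat.succ_ne_zero _)
  have z2 : (0 : F) ^ (2 * 3 ^ m + 1) = 0 := zero_pow (Nat.succ_ne_zero _)
  have z0 : (0 : F) ^ 3 ^ m = 0 := zero_pow (pow_ne_zero _ (by norm_num))
  have w0 : ∀ u v : F, wordU K m 0 u v = prodX MT K NL (nv (u ^ 3 ^ m) (v ^ 3 ^ m) u v) := fun u v => by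
    rw [wordU, form, z0, z1, z2, zero_add, zero_add, (MT.rel K).x_zero, (MT.rel K).x_zero, one_mul, one_mul]
  have hN : ∀ u v : F, wordU K m 0 u v ∈ ⁅G₁, G₁⁆ := by
    intro u v
    have hn1 := hpne (3 * 3 ^ m + 1) (by omega) (by omega)
    have hn2 := hpne (3 * 3 ^ m + 2) (by omega) le_rfl
    set u' := u / (((g ^ (3 * 3 ^ m + 1) : Fˣ) : F) - 1) with hu'
    set v' := v / (((g ^ (3 * 3 ^ m + 2) : Fˣ) : F) - 1) with hv'
    have hu : (((g ^ (3 * 3 ^ m + 1) : Fˣ) : F) - 1) * u' = u := mul_div_cancel₀ u hn1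
    have hv : (((g ^ (3 * 3 ^ m + 2) : Fˣ) : F) - 1) * v' = v := mul_div_cancel₀ v hn2
    have hgp : (g : F) ^ (3 * 3 ^ m * 3 ^ m) = g := hper _
    have hw := wordU_mem Z (0 : F) u' v'
    rw [w0] at hw ⊢
    refine Z.prodX_mem_derived NL_ok.1 htor hw fun r hr => ?_
    simp only [NL, List.mem_cons, List.not_mem_nil, or_false] at hr
    rcases hr with rfl | rfl | rfl | rfl
    · show ((chi MT (cvec Z z) 8 : F) - 1) * u' ^ 3 ^ m = u ^ 3 ^ m
      have e8 : ((chi MT (cvec Z z) 8 : Fˣ) : F) = (((g ^ (3 * 3 ^ m + 1) : Fˣ) : F)) ^ 3 ^ m := by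
        rw [k8, Units.val_pow_eq_pow_val, Units.val_pow_eq_pow_val, ← pow_mul, add_mul, one_mul,
          pow_add _ (3 * 3 ^ m * 3 ^ m), hgp, pow_succ']
      rw [e8, ← hsub, ← mul_pow, hu]
    · show ((chi MT (cvec Z z) 9 : F) - 1) * v' ^ 3 ^ m = v ^ 3 ^ m
      have e9 : ((chi MT (cvec Z z) 9 : Fˣ) : F) = (((g ^ (3 * 3 ^ m + 2) : Fˣ) : F)) ^ 3 ^ m := by
        rw [k9, Units.val_pow_eq_pow_val, Units.val_pow_eq_pow_val, ← pow_mul, add_mul,
          pow_add _ (3 * 3 ^ m * 3 ^ m), hgp, pow_succ']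
      rw [e9, ← hsub, ← mul_pow, hv]
    · show ((chi MT (cvec Z z) 10 : F) - 1) * u' = u
      rw [k10]; exact hu
    · show ((chi MT (cvec Z z) 11 : F) - 1) * v' = v
      rw [k11]; exact hv
  match k with
  | 0 =>
    obtain ⟨t, u, v, rfl⟩ := cls0 Z hK ha.2 ((gens Z hK).fixed a ha.1)
    have hg1 : (g : F) - 1 ≠ 0 := by simpa using hpne 1 one_pos (by omega)
    set s := t / ((g : F) - 1) with hs
    have hts : ((g : F) - 1) * s = t := mul_div_cancel₀ t hg1
    set h := tor MT K (cvec Z z) with hh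
    set p := ⁅h, wordU K m s 0 0⁆ with hp
    have hpd : p ∈ ⁅G₁, G₁⁆ := Subgroup.commutator_mem_commutator htor (wordU_mem Z s 0 0)
    have hpU : p ∈ Sg (MT.rel K) (· ∈ fd.O.cls 0) := by
      rw [hp, commutatorElement_def]
      exact mul_mem (H_conj_Sg _ (Z.tor_mem_H _) (wordU_mem_Uk Z s 0 0)) (inv_mem (wordU_mem_Uk Z s 0 0))
    have hp1 : p ∈ G₁ := by
      rw [hp, commutatorElement_def]
      exact mul_mem (mul_mem (mul_mem htor (wordU_mem Z s 0 0)) (inv_mem htor))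
        (inv_mem (wordU_mem Z s 0 0))
    obtain ⟨t', u', v', hpw⟩ := cls0 Z hK hpU ((gens Z hK).fixed p hp1)
    have hmul : h * wordU K m s 0 0 * h⁻¹ = wordU K m t' u' v' * wordU K m s 0 0 := by
      rw [← hpw, hp, commutatorElement_def, inv_mul_cancel_right]
    obtain ⟨a', b', c', d', hf⟩ := form_mul Z (t' ^ 3 ^ m) t' (s ^ 3 ^ m) s
      (nv (t' ^ (3 ^ m + 1) + u' ^ 3 ^ m) (t' ^ (2 * 3 ^ m + 1) + v' ^ 3 ^ m) u' v')
      (nv (s ^ (3 ^ m + 1) + 0 ^ 3 ^ m) (s ^ (2 * 3 ^ m + 1) + 0 ^ 3 ^ m) 0 0)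
    change h * wordU K m s 0 0 * h⁻¹ = form K _ _ _ * form K _ _ _ at hmul
    rw [hf, hh, wordU, tor_form Z, hz] at hmul
    have e : ∀ (s t : F) (v : Fin MT.tab.n → F),
        form K s t v = form K s t (nv (v 8) (v 9) (v 10) (v 11)) := fun s t v => by
      rw [form, form, ← nv_eta Z]
    rw [e] at hmul
    conv_rhs at hmul => rw [e]
    obtain ⟨-, ht', -⟩ := form_inj Z hmul
    have ht : t' = t := by
      rw [← hts]
      linear_combination -ht'
    subst ht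
    have hdec : wordU K m t' u v = wordU K m t' u' v' * wordU K m 0 (u - u') (v - v') := by
      rw [w0, wordU, wordU, form, form, mul_assoc _ (prodX MT K NL _), NL_mul Z, nv_add]
      congr 2
      congr 1
      · have := ha1 (u - u') u'
        rw [sub_add_cancel] at this
        rw [this]; ring
      · have := ha1 (v - v') v'
        rw [sub_add_cancel] at this
        rw [this]; ring
      · ring
      · ring
    rw [hdec, ← hpw]
    exact mul_mem hpd (hN _ _)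

theorem card_U : (∀ g : GL chevG2.Idx F, g ∈ chevG2.posUnipotent F ⊓ twistedG2 F (3 ^ m) ↔
      ∃ t u v : F, (g : Matrix chevG2.Idx chevG2.Idx F) = chevG2.wordMat F (reeWordU (3 ^ m) t u v)) ∧
    Nat.card ↥(chevG2.posUnipotent F ⊓ twistedG2 F (3 ^ m)) = (3 ^ (2 * m + 1)) ^ 3 := by
  refine ⟨fun g => ?_, ?_⟩
  · have hmap : chevG2.posUnipotent F ⊓ twistedG2 F (3 ^ m) =
        ((MT.rel K).U ⊓ G₁).map (chevG2.group F).subtype := by
      rw [Subgroup.map_inf _ _ _ Subtype.coe_injective, MT.U_map, genG_map]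
      rfl
    rw [hmap, Subgroup.mem_map]
    constructor
    · rintro ⟨x, hx, rfl⟩
      have hxs : x ∈ Sg (MT.rel K) (· ∈ fd.O.cls 0) :=
        Sg_mono _ (fun r hr => (by revert hr; revert r; decide +kernel)) hx.1
      obtain ⟨t, u, v, rfl⟩ := cls0 Z hK hxs ((gens Z hK).fixed x hx.2)
      exact ⟨t, u, v, by rw [← wv_wordU Z]; exact mat_wv _⟩
    · rintro ⟨t, u, v, e⟩
      refine ⟨wordU K m t u v, Subgroup.mem_inf.2 ⟨?_, wordU_mem Z t u v⟩, Units.ext ?_⟩
      · exact Sg_mono _ (fun r hr => (by revert hr; revert r; decide +kernel)) (wordU_mem_Uk Z t u v)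
      · rw [e, ← mat_wv (T := MT) (K := K), wv_wordU Z]
        rfl
  · rw [twistedG2, card_U_twisted Z _ (gens Z hK) long_ok]
    simp only [W0, List.map_cons, List.map_nil, List.prod_cons, List.prod_nil, card_X0 Z hK, mul_one]

theorem card_H :
    Nat.card ↥(chevG2.diagonalSubgroup F ⊓ twistedG2 F (3 ^ m)) = 3 ^ (2 * m + 1) - 1 := by
  rw [twistedG2, card_H_twisted Z _ (gens Z hK), card_H1 Z hK]

theorem card_G : Nat.card ↥(twistedG2 F (3 ^ m)) = (3 ^ (2 * m + 1)) ^ 3 * (3 ^ (2 * m + 1) - 1) *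
    ((3 ^ (2 * m + 1)) ^ 3 + 1) := by
  have X := gens Z hK
  rw [twistedG2, card_twisted Z _ X long_ok (J := step0.KS) (fun k => by revert k; decide),
    X.card_step long_ok step0_ok span0_ok, show step0.JS = [] from rfl, X.card_par1_nil long_ok,
    card_H1 Z hK]
  have s0 : (∑ c : Fin step0.m, ((step0.repF c).map fun k => Nat.card (X.data.X k)).prod) =
      1 + (3 ^ (2 * m + 1)) ^ 3 := by
    show (∑ c : Fin 2, _) = _
    simp [Fin.sum_univ_two, TStepData.repF, step0, card_X0 Z hK]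
  rw [s0]
  simp only [W0, List.map_cons, List.map_nil, List.prod_cons, List.prod_nil, card_X0 Z hK]
  ring

theorem bnPair : ∃ P : Cfsg.BNPair ↥(twistedG2 F (3 ^ m)),
    P.B = (chevG2.borelSubgroup F ⊓ twistedG2 F (3 ^ m)).subgroupOf (twistedG2 F (3 ^ m)) ∧
    P.N = (chevG2.monomialSubgroup F ⊓ twistedG2 F (3 ^ m)).subgroupOf (twistedG2 F (3 ^ m)) :=
  bnPair_twisted Z _ (gens Z hK) long_ok distinct_ok orth_ok

theorem core : ((chevG2.borelSubgroup F ⊓ twistedG2 F (3 ^ m)).subgroupOf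
    (twistedG2 F (3 ^ m))).normalCore = ⊥ :=
  core_twisted Z _ (gens Z hK) long_ok (faith Z hK)

theorem perfect (hm : 1 ≤ m) : commutator ↥(twistedG2 F (3 ^ m)) = ⊤ :=
  perfect_twisted Z _ (gens Z hK) (mem_derived Z hK hm)

theorem simple (hm : 1 ≤ m) :
    IsSimpleGroup ↥(twistedG2 F (3 ^ m)) ∧ ¬ IsMulCommutative ↥(twistedG2 F (3 ^ m)) :=
  simple_twisted Z _ (gens Z hK) long_ok distinct_ok orth_ok irr_ok (mem_derived Z hK hm) (faith Z hK)

theorem weyl : ∃ φ : ↥(chevG2.monomialSubgroup F ⊓ twistedG2 F (3 ^ m)) →* Multiplicative (ZMod 2),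
    Function.Surjective φ ∧ φ.ker = (chevG2.diagonalSubgroup F ⊓ twistedG2 F (3 ^ m)).subgroupOf
      (chevG2.monomialSubgroup F ⊓ twistedG2 F (3 ^ m)) :=
  weyl_twisted Z _ (gens Z hK) long_ok psi psi_inj (fun _ => Multiplicative.ofAdd 1)
    (fun k r => by
      match k with
      | 0 => rw [psi_one_elt]; rfl) psi_gen

end Cfsg.Agent.Twisted.TypeG2
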