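import Cfsg.Agent.Twisted.Pieces
import Cfsg.Agent.Twisted.Field
import Cfsg.Agent.Twisted.Types.D4
import Cfsg.Prelude.Def_LieTwisted

/-!
The generators of `³D₄(q)` give the twisted data.
-/

set_option autoImplicit false

namespace Cfsg.Agent.Twisted.TypeD4

open ChevGroup ChevIsogeny Cfsg.Lie

/-- the model -/
abbrev MT : Model chevD4 := ChevGroup.TypeD4.model

/-- the isogeny certificate -/
abbrev PP : IsoData := ChevIsogeny.D4.iso

instance : NeZero MT.tab.l := ⟨by decide⟩

instance : NeZero (ChevGroup.TypeD4.model).tab.l := ⟨by decide⟩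

/-- The root lists of the two orbits and of their negatives. -/
def lists : List (List (Fin MT.tab.n)) :=
  [[14], [9], [12, 13, 18], [5, 10, 11], [18, 13, 12], [5, 10, 11].reverse]

theorem lists_ok : (lists.all fun L => commListB PP fd L) = true := by decide +kernel

theorem pair_ok : pairOrthB PP MT [14] = true ∧ pairOrthB PP MT [18, 13, 12] = true := by
  constructor <;> decide +kernel

variable {F : Type*} [Field F] [Fintype F] {q : ℕ}

/-- The frame. -/
theorem frame (K : Rels chevD4 F) (hC : CommFormula chevD4 F)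
    (heta : ∀ i r, i < chevD4.rank → r < chevD4.nroots → K.eta i r = (ChevIsogeny.D4.eta i r : F))
    (hq : IsPrimePow q) (hK : Fintype.card F = q ^ 3) :
    Frame (T := MT) K PP q fd := by
  obtain ⟨hadd, hint, -⟩ := qpow_hom hq hK
  have hlam : ∀ r, r < chevD4.nroots → ChevIsogeny.IsoData.lf PP r = 1 := by
    have : ((List.range chevD4.nroots).all fun r => decide (ChevIsogeny.IsoData.lf PP r = 1)) = true := by
      decide +kernel
    simp only [List.all_eq_true, decide_eq_true_eq, List.mem_range] at this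
    exact this
  exact ⟨⟨hC, ChevIsogeny.D4.base, ChevIsogeny.D4.pairing, ChevIsogeny.D4.simple,
    ChevIsogeny.D4.collect, by simp [ChevIsogeny.D4.iso],
    fun r hr a b => by rw [hlam r hr, one_mul]; exact hadd a b,
    fun r hr z => by rw [hlam r hr, one_mul]; exact hint z,
    ⟨_, ChevIsogeny.D4.sign, heta⟩⟩, ok⟩

variable {K : Rels chevD4 F} (Z : Frame (T := MT) K PP q fd)

set_option quotPrecheck false in
local notation "G₁" => genG MT K (d4Words F q)

theorem lam_eq : ∀ r ∈ ([5, 9, 10, 11, 12, 13, 14, 18] : List (Fin MT.tab.n)),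
    IsoHyp.lam PP q r.val = q ∧ (PP.ef r.val : F) = 1 := by
  intro r hr
  simp only [List.mem_cons, List.not_mem_nil, or_false] at hr
  rcases hr with rfl | rfl | rfl | rfl | rfl | rfl | rfl | rfl <;>
    exact ⟨one_mul q, (Int.cast_one : ((1 : ℤ) : F) = 1)⟩

theorem ρI_eq : Z.iso.ρIF 0 = 2 ∧ Z.iso.ρIF 1 = 1 ∧ Z.iso.ρIF 2 = 3 ∧ Z.iso.ρIF 3 = 0 :=
  ⟨Fin.ext rfl, Fin.ext rfl, Fin.ext rfl, Fin.ext rfl⟩

/-- the inverse of the permutation of the fundamental roots -/
def pre (j : Fin MT.tab.l) : Fin MT.tab.l :=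
  ([3, 1, 0, 2] : List (Fin 4)).getD j.val 0

include Z in
theorem gen1_mem {t : F} (ht : t ^ q = t) :
    (MT.rel K).x 14 t ∈ G₁ ∧ (MT.rel K).x 9 t ∈ G₁ := by
  have h := fun r (hr : r ∈ [d4p2, d4m2]) => wv_mem (T := MT) (K := K)
    (W := d4Words F q) (w := [(r, t)]) (Or.inl ⟨t, ht, r, hr, rfl⟩)
  refine ⟨?_, ?_⟩
  · have h1 := h d4p2 (by simp)
    rw [show ([(d4p2, t)] : List (ℕ × F)) = [((14 : Fin MT.tab.n).val, t)] from rfl,
      Z.wv_cons] at h1
    simpa [wv] using h1
  · have h1 := h d4m2 (by simp)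
    rw [show ([(d4m2, t)] : List (ℕ × F)) = [((9 : Fin MT.tab.n).val, t)] from rfl,
      Z.wv_cons] at h1
    simpa [wv] using h1

/-- parameters `t, t^q, t^(q^2)` along `18, 13, 12`, and along their negatives -/
def tri (q : ℕ) (t : F) (r : Fin MT.tab.n) : F :=
  if r = 18 ∨ r = 5 then t else if r = 13 ∨ r = 10 then t ^ q else t ^ (q ^ 2)

include Z in
theorem tri_mem (t : F) :
    prodX MT K [18, 13, 12] (tri q t) ∈ G₁ ∧ prodX MT K [5, 10, 11] (tri q t) ∈ G₁ := by
  have h := fun rs (hr : rs ∈ [(d4p1, d4p3, d4p4), (d4m1, d4m3, d4m4)]) => wv_mem (T := MT) (K := K)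
    (W := d4Words F q) (w := [(rs.1, t), (rs.2.1, t ^ q), (rs.2.2, t ^ (q ^ 2))])
    (Or.inr ⟨t, rs, hr, rfl⟩)
  refine ⟨?_, ?_⟩
  · have h1 := h (d4p1, d4p3, d4p4) (by simp)
    rw [show ([(d4p1, t), (d4p3, t ^ q), (d4p4, t ^ (q ^ 2))] : List (ℕ × F)) =
        [((18 : Fin MT.tab.n).val, t), ((13 : Fin MT.tab.n).val, t ^ q),
          ((12 : Fin MT.tab.n).val, t ^ (q ^ 2))] from rfl,
      Z.wv_cons, Z.wv_cons, Z.wv_cons] at h1
    simpa [wv, prodX, tri] using h1
  · have h1 := h (d4m1, d4m3, d4m4) (by simp)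
    rw [show ([(d4m1, t), (d4m3, t ^ q), (d4m4, t ^ (q ^ 2))] : List (ℕ × F)) =
        [((5 : Fin MT.tab.n).val, t), ((10 : Fin MT.tab.n).val, t ^ q),
          ((11 : Fin MT.tab.n).val, t ^ (q ^ 2))] from rfl,
      Z.wv_cons, Z.wv_cons, Z.wv_cons] at h1
    simpa [wv, prodX, tri] using h1

include Z in
theorem list_ok (L) (h : L ∈ lists) : commListB PP fd L = true :=
  List.all_eq_true.1 lists_ok L h

include Z in
theorem cls0 {g : ↥(chevD4.group F)} (hg : g ∈ Sg (MT.rel K) (· ∈ fd.O.cls 0)) (hfix : Z.σ g = g) :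
    ∃ t : F, t ^ q = t ∧ g = (MT.rel K).x 14 t := by
  obtain ⟨v, rfl, hv⟩ := Z.fixed_commuting (L := [14]) (list_ok Z _ (by decide)) (by decide) hg hfix
  refine ⟨v 14, ?_, by simp [prodX]⟩
  have := hv 14 (by simp)
  rw [(lam_eq (F := F) 14 (by simp)).1, (lam_eq (F := F) (q := q) 14 (by simp)).2, one_mul,
    show fd.O.rho 14 = 14 from rfl] at this
  exact this.symm

include Z in
theorem cls1 {g : ↥(chevD4.group F)} (hg : g ∈ Sg (MT.rel K) (· ∈ fd.O.cls 1)) (hfix : Z.σ g = g) :
    ∃ t : F, g = prodX MT K [18, 13, 12] (tri q t) := by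
  have hg' : g ∈ Sg (MT.rel K) (· ∈ ([12, 13, 18] : List (Fin MT.tab.n))) :=
    Sg_mono _ (fun r hr => by
      rw [show fd.O.cls 1 = [18, 12, 13] from rfl] at hr
      simp only [List.mem_cons, List.not_mem_nil, or_false] at hr ⊢
      tauto) hg
  obtain ⟨v, rfl, hv⟩ :=
    Z.fixed_commuting (L := [12, 13, 18]) (list_ok Z _ (by decide)) (by decide) hg' hfix
  refine ⟨v 18, ?_⟩
  rw [Z.prodX_perm (L := [12, 13, 18]) (L' := [18, 13, 12]) (by decide) (list_ok Z _ (by decide))]
  refine Z.prodX_congr fun r hr => ?_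
  have h18 := hv 18 (by simp)
  have h13 := hv 13 (by simp)
  rw [(lam_eq (F := F) 18 (by simp)).1, (lam_eq (F := F) (q := q) 18 (by simp)).2, one_mul,
    show fd.O.rho 18 = 13 from rfl] at h18
  rw [(lam_eq (F := F) 13 (by simp)).1, (lam_eq (F := F) (q := q) 13 (by simp)).2, one_mul,
    show fd.O.rho 13 = 12 from rfl, h18, ← pow_mul] at h13
  simp only [List.mem_cons, List.not_mem_nil, or_false] at hr
  rcases hr with rfl | rfl | rfl
  · simp [tri]
  · rw [h18]; simp [tri]
  · rw [h13]; simp [tri, pow_two]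

include Z in
theorem fixed_gen (hq : IsPrimePow q) (hK : Fintype.card F = q ^ 3) :
    ∀ g ∈ G₁, Z.σ g = g := by
  obtain ⟨-, -, hper⟩ := qpow_hom hq hK
  refine Z.σ_fixed fun w hw => ?_
  rcases hw with ⟨t, ht, r, hr, rfl⟩ | ⟨t, rs, hr, rfl⟩
  · have key : ∀ r' : Fin MT.tab.n, r' ∈ [14, 9] →
        Z.σ (wv MT K [(r'.val, t)]) = wv MT K [(r'.val, t)] := by
      intro r' hr'
      rw [Z.wv_cons, show wv MT K ([] : List (ℕ × F)) = 1 from rfl, mul_one, Z.σ_x]
      simp only [List.mem_cons, List.not_mem_nil, or_false] at hr'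
      rcases hr' with rfl | rfl
      · rw [(lam_eq (F := F) 14 (by simp)).1, (lam_eq (F := F) (q := q) 14 (by simp)).2, one_mul, ht]
        rfl
      · rw [(lam_eq (F := F) 9 (by simp)).1, (lam_eq (F := F) (q := q) 9 (by simp)).2, one_mul, ht]
        rfl
    simp only [List.mem_cons, List.not_mem_nil, or_false] at hr
    rcases hr with rfl | rfl
    · exact key 14 (by simp)
    · exact key 9 (by simp)
  · have key : ∀ a b c : Fin MT.tab.n,
        ((a, b, c) = (18, 13, 12) ∨ (a, b, c) = (5, 10, 11)) →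
        Z.σ (wv MT K [(a.val, t), (b.val, t ^ q), (c.val, t ^ (q ^ 2))]) =
          wv MT K [(a.val, t), (b.val, t ^ q), (c.val, t ^ (q ^ 2))] := by
      intro a b c habc
      have e1 : wv MT K [(a.val, t), (b.val, t ^ q), (c.val, t ^ (q ^ 2))] =
          prodX MT K [a, b, c] (tri q t) := by
        rw [Z.wv_cons, Z.wv_cons, Z.wv_cons]
        rcases habc with h | h <;> obtain ⟨rfl, rfl, rfl⟩ : _ ∧ _ ∧ _ := by
          simpa [Prod.ext_iff] using h
        all_goals simp [wv, prodX, tri]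
      rw [e1]
      have h3 : t ^ (q ^ 2 * q) = t := by rw [← pow_succ]; exact hper t
      refine Z.prodX_fixed (list_ok Z _ ?_) _ fun r hr => ?_
      · rcases habc with h | h <;> obtain ⟨rfl, rfl, rfl⟩ : _ ∧ _ ∧ _ := by
          simpa [Prod.ext_iff] using h
        all_goals decide
      · rcases habc with h | h <;> obtain ⟨rfl, rfl, rfl⟩ : _ ∧ _ ∧ _ := by
          simpa [Prod.ext_iff] using h
        all_goals
          simp only [List.mem_cons, List.not_mem_nil, or_false] at hr
          rcases hr with rfl | rfl | rfl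
        all_goals
          rw [(lam_eq (F := F) (q := q) _ (by simp)).1, (lam_eq (F := F) (q := q) _ (by simp)).2, one_mul]
        all_goals simp only [show fd.O.rho (18 : Fin MT.tab.n) = 13 from rfl,
          show fd.O.rho (13 : Fin MT.tab.n) = 12 from rfl, show fd.O.rho (12 : Fin MT.tab.n) = 18 from rfl,
          show fd.O.rho (5 : Fin MT.tab.n) = 10 from rfl, show fd.O.rho (10 : Fin MT.tab.n) = 11 from rfl,
          show fd.O.rho (11 : Fin MT.tab.n) = 5 from rfl]
        all_goals simp [tri, ← pow_mul, h3]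
        all_goals simp [pow_two]
    simp only [List.mem_cons, List.not_mem_nil, or_false] at hr
    rcases hr with rfl | rfl
    · exact key 18 13 12 (Or.inl rfl)
    · exact key 5 10 11 (Or.inr rfl)

include Z in
theorem og_mem (k : Fin 2) : Z.og k 1 ∈ G₁ ∧ Z.ogn k (-1) ∈ G₁ ∨ q = 0 := by
  by_cases hq0 : q = 0
  · exact Or.inr hq0
  refine Or.inl ?_
  match k with
  | 0 =>
    refine ⟨?_, ?_⟩
    · have := (gen1_mem Z (t := 1) (one_pow q)).1
      rw [show Z.og 0 1 = (MT.rel K).x 14 1 * 1 from rfl, mul_one]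
      exact this
    · have hm := (gen1_mem Z (t := 1) (one_pow q)).2
      have := inv_mem hm
      rw [← (MT.rel K).x_neg] at this
      have e9 : (MT.S).neg (14 : Fin MT.tab.n) = 9 := Fin.ext rfl
      rw [show Z.ogn 0 (-1) = (MT.rel K).x ((MT.S).neg 14) (-1) * 1 from rfl, mul_one, e9]
      exact this
  | 1 =>
    have hperm : ([18, 13, 12] : List (Fin MT.tab.n)).Perm [12, 13, 18] := by decide
    refine ⟨?_, ?_⟩
    · have := (tri_mem Z (1 : F)).1
      rw [Z.prodX_perm hperm (list_ok Z _ (by decide))] at this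
      rw [show Z.og 1 1 = (MT.rel K).x 12 1 * ((MT.rel K).x 13 1 * ((MT.rel K).x 18 1 * 1)) from rfl]
      simpa [prodX, tri] using this
    · have hn : ([5, 10, 11] : List (Fin MT.tab.n)).Perm [11, 10, 5] := by decide
      have hm := (tri_mem Z (1 : F)).2
      have := inv_mem hm
      rw [Z.prodX_perm hn (list_ok Z _ (by decide))] at this
      have e1 : (MT.S).neg (12 : Fin MT.tab.n) = 11 := Fin.ext rfl
      have e2 : (MT.S).neg (13 : Fin MT.tab.n) = 10 := Fin.ext rfl
      have e3 : (MT.S).neg (18 : Fin MT.tab.n) = 5 := Fin.ext rfl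
      have hc := list_ok Z [5, 10, 11] (by decide)
      have key : (prodX MT K [11, 10, 5] (tri q (1 : F)))⁻¹ = prodX MT K [11, 10, 5] (fun _ => (-1 : F)) := by
        refine inv_eq_of_mul_eq_one_right ?_
        rw [Z.prodX_mul]
        · exact List.prod_eq_one fun y hy => by
            obtain ⟨s, hs, rfl⟩ := List.mem_map.1 hy
            have : tri q (1 : F) s = 1 := by simp [tri]
            rw [Pi.add_apply, this, add_neg_cancel]
            exact (MT.rel K).x_zero s
        · intro r hr s hs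
          refine Z.commList_commute hc ?_ ?_
          · simp only [List.mem_cons, List.not_mem_nil, or_false] at hr ⊢; tauto
          · simp only [List.mem_cons, List.not_mem_nil, or_false] at hs ⊢; tauto
      rw [key] at this
      rw [show Z.ogn 1 (-1) = (MT.rel K).x ((MT.S).neg 12) (-1) * ((MT.rel K).x ((MT.S).neg 13) (-1) *
        ((MT.rel K).x ((MT.S).neg 18) (-1) * 1)) from rfl, e1, e2, e3]
      simpa [prodX] using this

include Z in
theorem torus_mem (hq : IsPrimePow q) (hK : Fintype.card F = q ^ 3)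
    (c : Fin MT.tab.l → Fˣ) (hc : Z.sig pre c = c) :
    tor MT K c ∈ G₁ := by
  have hq0 : q ≠ 0 := hq.pos.ne'
  obtain ⟨hadd, -, -⟩ := qpow_hom hq hK
  have hsig : ∀ j, c (pre j) ^ q = c j := fun j => by
    have := congrFun hc j
    simp only [Frame.sig, MonoidHom.coe_mk, OneHom.coe_mk] at this
    have hl : IsoHyp.lam PP q ((MT.S).simple (pre j)).val = q := by
      match j with
      | 0 => exact one_mul q
      | 1 => exact one_mul q
      | 2 => exact one_mul q
      | 3 => exact one_mul q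
    rwa [hl] at this
  have h1 : (c 1 : F) ^ q = c 1 := by
    rw [← Units.val_pow_eq_pow_val]; exact congrArg Units.val (hsig 1)
  have h2 : (c 2 : F) = (c 0 : F) ^ q := by
    rw [← Units.val_pow_eq_pow_val]; exact (congrArg Units.val (hsig 2)).symm
  have h3 : (c 3 : F) = (c 0 : F) ^ (q ^ 2) := by
    have : c 2 ^ q = c 3 := hsig 3
    rw [pow_two, pow_mul, ← h2, ← Units.val_pow_eq_pow_val, this]
  have hm1 : ∀ a : F, (-1 : F) ^ q = -1 ∧ (-(a⁻¹)) ^ q = -(a ^ q)⁻¹ := fun a =>
    ⟨by simpa using qpow_inv_neg hadd hq0 (1 : F), qpow_inv_neg hadd hq0 a⟩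
  have hA : ((([14] : List (Fin MT.tab.n)).map fun r =>
      (MT.rel K).hr r (c 1 : F))).prod ∈ G₁ := by
    have e9 : (MT.S).neg (14 : Fin MT.tab.n) = 9 := Fin.ext rfl
    have hn : ∀ t : F, t ^ q = t →
        ((([14] : List (Fin MT.tab.n)).map fun r => (MT.rel K).nr r t)).prod ∈ G₁ := by
      intro t ht
      refine Z.nprod_mem pair_ok.1 (fun _ => t) ?_ ?_
      · simpa using (gen1_mem Z ht).1
      · simpa [e9] using (gen1_mem Z (t := -t⁻¹) (by rw [(hm1 t).2, ht])).2
    exact Z.hprod_mem pair_ok.1 (fun _ => (c 1 : F)) (hn _ h1) (hn _ (hm1 1).1)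
  have hB : ((([18, 13, 12] : List (Fin MT.tab.n)).map fun r =>
      (MT.rel K).hr r (tri q (c 0 : F) r))).prod ∈ G₁ := by
    have e1 : (MT.S).neg (12 : Fin MT.tab.n) = 11 := Fin.ext rfl
    have e2 : (MT.S).neg (13 : Fin MT.tab.n) = 10 := Fin.ext rfl
    have e3 : (MT.S).neg (18 : Fin MT.tab.n) = 5 := Fin.ext rfl
    have hn : ∀ t : F,
        ((([18, 13, 12] : List (Fin MT.tab.n)).map fun r =>
          (MT.rel K).nr r (tri q t r))).prod ∈ G₁ := by
      intro t
      refine Z.nprod_mem pair_ok.2 (tri q t) (tri_mem Z t).1 ?_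
      have := (tri_mem Z (-t⁻¹)).2
      have q2 : (-t⁻¹) ^ (q ^ 2) = -(t ^ (q ^ 2))⁻¹ := by
        rw [pow_two, pow_mul, (hm1 t).2, (hm1 (t ^ q)).2, ← pow_mul]
      simpa [prodX, tri, e1, e2, e3, (hm1 t).2, q2] using this
    refine Z.hprod_mem pair_ok.2 (tri q (c 0 : F)) (hn _) ?_
    have := hn (-1)
    have q2 : (-1 : F) ^ (q ^ 2) = -1 := by rw [pow_two, pow_mul, (hm1 1).1, (hm1 1).1]
    simpa [tri, (hm1 1).1, q2] using this
  rw [Z.tor_eq_prod (L := [1, 0, 2, 3]) (by decide)]
  have s0 : (MT.S).simple 0 = (18 : Fin MT.tab.n) := Fin.ext rfl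
  have s1 : (MT.S).simple 1 = (14 : Fin MT.tab.n) := Fin.ext rfl
  have s2 : (MT.S).simple 2 = (13 : Fin MT.tab.n) := Fin.ext rfl
  have s3 : (MT.S).simple 3 = (12 : Fin MT.tab.n) := Fin.ext rfl
  have := mul_mem hA hB
  simpa [tri, s0, s1, s2, s3, h2, h3] using this

/-- The representatives of the longest elements of the orbits. -/
def nj (Z : Frame (T := MT) K PP q fd) (k : Fin 2) : ↥(chevD4.group F) := Z.nJ k

include Z in
/-- The twisted data of `³D₄(q)`. -/
theorem gens (hq : IsPrimePow q) (hK : Fintype.card F = q ^ 3) : Gens Z G₁ (nj Z) := by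
  have hq0 : q ≠ 0 := hq.pos.ne'
  have hog := fun k => (og_mem Z k).resolve_right hq0
  refine ⟨fixed_gen Z hq hK, fun k => (hog k).1,
    fun k => mul_mem (mul_mem (hog k).1 (hog k).2) (hog k).1, ?_, ?_, ?_, ?_⟩
  · intro k
    match k with
    | 0 => exact Z.nJ_coset 0 refl0_ok
    | 1 => exact Z.nJ_coset 1 refl1_ok
  · intro k g hg hfix
    match k with
    | 0 => obtain ⟨t, ht, rfl⟩ := cls0 Z hg hfix; exact (gen1_mem Z ht).1
    | 1 => obtain ⟨t, rfl⟩ := cls1 Z hg hfix; exact (tri_mem Z t).1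
  · intro h hh hfix
    refine Z.full_H_of torOk (pre := pre) ?_ inv_ok (m := 3) (by decide) ?_ (torus_mem Z hq hK) hh hfix
    · intro j
      match j with
      | 0 => exact (ρI_eq Z).2.2.2
      | 1 => exact (ρI_eq Z).2.1
      | 2 => exact (ρI_eq Z).1
      | 3 => exact (ρI_eq Z).2.2.1
    · intro c
      obtain ⟨-, -, hper⟩ := qpow_hom hq hK
      funext j
      refine Units.ext ?_
      have hl : ∀ j, IsoHyp.lam PP q ((MT.S).simple (pre j)).val = q := fun j => by
        match j with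
        | 0 => exact one_mul q
        | 1 => exact one_mul q
        | 2 => exact one_mul q
        | 3 => exact one_mul q
      simp only [Function.iterate_succ_apply', Function.iterate_zero_apply, Frame.sig,
        MonoidHom.coe_mk, OneHom.coe_mk, hl, ← pow_mul, Units.val_pow_eq_pow_val]
      have hp : pre (pre (pre j)) = j := by
        match j with
        | 0 => rfl
        | 1 => rfl
        | 2 => rfl
        | 3 => rfl
      rw [hp, show q * q * q = q ^ 3 by ring]
      exact hper _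
  · intro g hg
    refine (Subgroup.closure_le _).2 ?_ hg
    rintro _ ⟨w, hw, rfl⟩
    refine Subgroup.subset_closure ?_
    rcases hw with ⟨t, ht, r, hr, rfl⟩ | ⟨t, rs, hr, rfl⟩
    · refine ⟨0, wv_mem (Or.inl ⟨t, ht, r, hr, rfl⟩), ?_⟩
      simp only [List.mem_cons, List.not_mem_nil, or_false] at hr
      rcases hr with rfl | rfl
      · left
        rw [show ([(d4p2, t)] : List (ℕ × F)) = [((14 : Fin MT.tab.n).val, t)] from rfl,
          Z.wv_cons, show wv MT K ([] : List (ℕ × F)) = 1 from rfl, mul_one]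
        exact x_mem_Sg _ (T := fun r => r ∈ fd.O.cls 0) (by decide) t
      · right
        rw [show ([(d4m2, t)] : List (ℕ × F)) = [((9 : Fin MT.tab.n).val, t)] from rfl,
          Z.wv_cons, show wv MT K ([] : List (ℕ × F)) = 1 from rfl, mul_one]
        exact x_mem_Sg _ (T := fun r => (MT.S).neg r ∈ fd.O.cls 0) (by decide) t
    · refine ⟨1, wv_mem (Or.inr ⟨t, rs, hr, rfl⟩), ?_⟩
      simp only [List.mem_cons, List.not_mem_nil, or_false] at hr
      rcases hr with rfl | rfl
      · left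
        rw [show ([(d4p1, t), (d4p3, t ^ q), (d4p4, t ^ (q ^ 2))] : List (ℕ × F)) =
          [((18 : Fin MT.tab.n).val, t),
            ((13 : Fin MT.tab.n).val, t ^ q),
            ((12 : Fin MT.tab.n).val, t ^ (q ^ 2))] from rfl,
          Z.wv_cons, Z.wv_cons, Z.wv_cons, show wv MT K ([] : List (ℕ × F)) = 1 from rfl, mul_one]
        exact mul_mem (x_mem_Sg _ (T := fun r => r ∈ fd.O.cls 1) (by decide) t)
          (mul_mem (x_mem_Sg _ (T := fun r => r ∈ fd.O.cls 1) (by decide) _)
            (x_mem_Sg _ (T := fun r => r ∈ fd.O.cls 1) (by decide) _))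
      · right
        rw [show ([(d4m1, t), (d4m3, t ^ q), (d4m4, t ^ (q ^ 2))] : List (ℕ × F)) =
          [((5 : Fin MT.tab.n).val, t),
            ((10 : Fin MT.tab.n).val, t ^ q),
            ((11 : Fin MT.tab.n).val, t ^ (q ^ 2))] from rfl,
          Z.wv_cons, Z.wv_cons, Z.wv_cons, show wv MT K ([] : List (ℕ × F)) = 1 from rfl, mul_one]
        exact mul_mem (x_mem_Sg _ (T := fun r => (MT.S).neg r ∈ fd.O.cls 1) (by decide) t)
          (mul_mem (x_mem_Sg _ (T := fun r => (MT.S).neg r ∈ fd.O.cls 1) (by decide) _)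
            (x_mem_Sg _ (T := fun r => (MT.S).neg r ∈ fd.O.cls 1) (by decide) _))

end Cfsg.Agent.Twisted.TypeD4
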