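import Cfsg.Agent.Twisted.Groups.E6Gens
import Cfsg.Agent.Twisted.Count
import Cfsg.Agent.WeylGroup.F4

/-!
`²E₆(q)`: orders, the (B, N)-pair, the Weyl group, perfectness and simplicity, given the relations of `E₆`.
-/

set_option autoImplicit false
set_option maxRecDepth 4000

open scoped commutatorElement

namespace Cfsg.Agent.Twisted.TypeE6

open ChevGroup ChevIsogeny Cfsg.Lie

/-- A sum over the representatives of a step as a sum over a list. -/
theorem sum_repF {n κ : ℕ} (d : TStepData n κ) (h : d.rep.length = d.m) (g : List (Fin κ) → ℕ) :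
    ∑ c : Fin d.m, g (d.repF c) = (d.rep.map g).sum := by
  rw [← List.sum_ofFn]
  congr 1
  refine List.ext_getElem (by simp [h]) fun i h1 h2 => ?_
  simp [TStepData.repF, show i < d.rep.length by simpa using h2]

theorem span0_ok : Mat.spanB chevE6 (step0.span.map Fin.val) = true := by decide +kernel

theorem span1_ok : Mat.spanB chevE6 (step1.span.map Fin.val) = true := by decide +kernel

theorem span2_ok : Mat.spanB chevE6 (step2.span.map Fin.val) = true := by decide +kernel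

theorem span3_ok : Mat.spanB chevE6 (step3.span.map Fin.val) = true := by decide +kernel

theorem orth_ok (k : Fin 4) :
    ∃ L : List (Fin MT.tab.n), L.Sublist MT.posList ∧ fd.orth k = L ∧ L ≠ [] := by
  match k with
  | 0 => exact ⟨[46], by decide +kernel, rfl, by simp⟩
  | 1 => exact ⟨[39], by decide +kernel, rfl, by simp⟩
  | 2 => exact ⟨[37, 42], by decide +kernel, rfl, by simp⟩
  | 3 => exact ⟨[36, 56], by decide +kernel, rfl, by simp⟩

theorem simple_orth (j : Fin MT.tab.l) :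
    ∃ k, (MT.S).simple j ∈ fd.orth k ∧ (fd.orth k).Sublist MT.posList := by
  match j with
  | 0 => exact ⟨3, by decide +kernel, by decide +kernel⟩
  | 1 => exact ⟨0, by decide +kernel, by decide +kernel⟩
  | 2 => exact ⟨2, by decide +kernel, by decide +kernel⟩
  | 3 => exact ⟨1, by decide +kernel, by decide +kernel⟩
  | 4 => exact ⟨2, by decide +kernel, by decide +kernel⟩
  | 5 => exact ⟨3, by decide +kernel, by decide +kernel⟩

/-- The orbit reflections as permutations of the roots. -/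
def pw (k : Fin 4) : Equiv.Perm (Fin MT.tab.n) where
  toFun r := (MT.S).actw (fd.O.wd k) r
  invFun r := (MT.S).actw (fd.O.wd k).reverse r
  left_inv r := (MT.S).actw_reverse' _ r
  right_inv r := (MT.S).actw_reverse _ r

theorem pw_liftable : CoxeterMatrix.IsLiftable CoxeterMatrix.F₄ pw := by
  have h : ∀ i j : Fin 4, ∀ r, ((pw i * pw j) ^ CoxeterMatrix.F₄.M i j) r = r := by decide +kernel
  exact fun i j => Equiv.ext (h i j)

/-- The Weyl group of `²E₆` acting on the roots. -/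
def psi : (CoxeterMatrix.F₄).Group →* Equiv.Perm (Fin MT.tab.n) :=
  (CoxeterMatrix.F₄).toCoxeterSystem.lift ⟨pw, pw_liftable⟩

theorem psi_simple (k : Fin 4) : psi ((CoxeterMatrix.F₄).simple k) = pw k := by
  have := (CoxeterMatrix.F₄).toCoxeterSystem.lift_apply_simple pw_liftable k
  rwa [CoxeterMatrix.toCoxeterSystem_simple] at this

theorem simple_gen : Subgroup.closure (Set.range (CoxeterMatrix.F₄).simple) = ⊤ := by
  rw [← CoxeterMatrix.toCoxeterSystem_simple]
  exact CoxeterSystem.subgroup_closure_range_simple _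

/-- A root in the coordinates of the representation of the Weyl group of type F4. -/
def proj (r : Fin MT.tab.n) : List ℤ :=
  (List.finRange 4).map fun j : Fin 4 =>
    ((fd.O.wd j).map fun i => chevE6.pairing ((MT.S).simple i).val r.val).sum

theorem proj_refl : ∀ k : Fin 4, ∀ r,
    proj ((MT.S).actw (fd.O.wd k) r) = WeylGroup.reflList 4 WeylGroup.f4Rows k.val (proj r) := by
  decide +kernel

theorem proj_simple : ∀ (k : Fin 4) (j : Fin 4),
    (proj (([46, 39, 42, 56] : List (Fin MT.tab.n)).getD k.val 0)).getD j.val 0 =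
      WeylGroup.entry WeylGroup.f4Rows k.val j.val := by
  decide +kernel

/-- The inverse of the Cartan matrix of type F4. -/
def f4Inv : List (List ℤ) := [[2, 3, 4, 2], [3, 6, 8, 4], [2, 4, 6, 3], [1, 2, 3, 2]]

theorem f4Inv_ok : ∀ m j : Fin 4,
    ∑ k : Fin 4, WeylGroup.entry f4Inv m.val k.val * WeylGroup.entry WeylGroup.f4Rows k.val j.val =
      if j = m then 1 else 0 := by
  decide +kernel

theorem psi_inj : Function.Injective psi := by
  rw [injective_iff_map_eq_one]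
  intro g hg
  let M := CoxeterMatrix.F₄
  let rh := WeylGroup.rho M WeylGroup.f4Rows WeylGroup.f4_checkRep
  have key : ∀ (w : M.Group) (r : Fin MT.tab.n),
      rh w (WeylGroup.toV 4 (proj r)) = WeylGroup.toV 4 (proj (psi w r)) := by
    intro w
    induction w using M.toCoxeterSystem.simple_induction_left with
    | one => intro r; simp
    | mul_simple_left w i ih =>
      intro r
      rw [CoxeterMatrix.toCoxeterSystem_simple, map_mul, map_mul, Module.End.mul_apply, ih,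
        Equiv.Perm.mul_apply, psi_simple]
      show rh (M.simple i) _ = WeylGroup.toV 4 (proj ((MT.S).actw (fd.O.wd i) (psi w r)))
      rw [proj_refl, WeylGroup.toV_reflList, WeylGroup.rho_simple]
  refine WeylGroup.rho_injective WeylGroup.f4_checkRep WeylGroup.f4_checkAll ?_
  rw [map_one]
  set v : Fin 4 → Fin 4 → ℤ :=
    fun k => WeylGroup.toV 4 (proj (([46, 39, 42, 56] : List (Fin MT.tab.n)).getD k.val 0))
  have hfix : ∀ k, rh g (v k) = v k := fun k => by
    simp only [v, key, hg, Equiv.Perm.coe_one, id]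
  refine (Pi.basisFun ℤ (Fin 4)).ext fun m => ?_
  have hspan : Pi.single m (1 : ℤ) = ∑ k : Fin 4, WeylGroup.entry f4Inv m.val k.val • v k := by
    funext j
    simp only [Finset.sum_apply, Pi.smul_apply, smul_eq_mul, v, WeylGroup.toV, proj_simple, f4Inv_ok,
      Pi.single_apply]
  rw [Pi.basisFun_apply, Module.End.one_apply, hspan, map_sum]
  exact Finset.sum_congr rfl fun k _ => by rw [map_smul, hfix]

variable {F : Type*} [Field F] [Fintype F] {q : ℕ} {K : Rels chevE6 F}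
  (Z : Frame (T := MT) K PP q fd)

set_option quotPrecheck false in
local notation "G₁" => genG MT K (e6Words F q)

theorem pairing_56 : ∀ i : Fin MT.tab.l,
    chevE6.pairing ((MT.S).simple i).val (56 : Fin MT.tab.n).val = ([2, 0, -1, 0, 0, 0] : List ℤ).getD i.val 0 := by
  decide +kernel

theorem pairing_46 : ∀ i : Fin MT.tab.l,
    chevE6.pairing ((MT.S).simple i).val (46 : Fin MT.tab.n).val = ([0, 2, 0, -1, 0, 0] : List ℤ).getD i.val 0 := by
  decide +kernel

theorem pairing_42 : ∀ i : Fin MT.tab.l,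
    chevE6.pairing ((MT.S).simple i).val (42 : Fin MT.tab.n).val = ([-1, 0, 2, -1, 0, 0] : List ℤ).getD i.val 0 := by
  decide +kernel

theorem pairing_39 : ∀ i : Fin MT.tab.l,
    chevE6.pairing ((MT.S).simple i).val (39 : Fin MT.tab.n).val = ([0, -1, -1, 2, -1, 0] : List ℤ).getD i.val 0 := by
  decide +kernel

theorem pairing_37 : ∀ i : Fin MT.tab.l,
    chevE6.pairing ((MT.S).simple i).val (37 : Fin MT.tab.n).val = ([0, 0, 0, -1, 2, -1] : List ℤ).getD i.val 0 := by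
  decide +kernel

theorem pairing_36 : ∀ i : Fin MT.tab.l,
    chevE6.pairing ((MT.S).simple i).val (36 : Fin MT.tab.n).val = ([0, 0, 0, 0, -1, 2] : List ℤ).getD i.val 0 := by
  decide +kernel

theorem chi_simple (c : Fin MT.tab.l → Fˣ) :
    chi MT c 56 = c 0 ^ (2 : ℤ) * c 2 ^ (-1 : ℤ) ∧
    chi MT c 46 = c 1 ^ (2 : ℤ) * c 3 ^ (-1 : ℤ) ∧
    chi MT c 42 = c 0 ^ (-1 : ℤ) * c 2 ^ (2 : ℤ) * c 3 ^ (-1 : ℤ) ∧
    chi MT c 39 = c 1 ^ (-1 : ℤ) * c 2 ^ (-1 : ℤ) * c 3 ^ (2 : ℤ) * c 4 ^ (-1 : ℤ) ∧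
    chi MT c 37 = c 3 ^ (-1 : ℤ) * c 4 ^ (2 : ℤ) * c 5 ^ (-1 : ℤ) ∧
    chi MT c 36 = c 4 ^ (-1 : ℤ) * c 5 ^ (2 : ℤ) := by
  have e : ∀ (r : Fin MT.tab.n) (v : List ℤ),
      (∀ i : Fin MT.tab.l, chevE6.pairing ((MT.S).simple i).val r.val = v.getD i.val 0) →
      chi MT c r = ∏ i : Fin 6, (c : Fin 6 → Fˣ) i ^ v.getD i.val 0 :=
    fun r v h => Finset.prod_congr rfl fun i _ => congrArg (c i ^ ·) (h i)
  refine ⟨?_, ?_, ?_, ?_, ?_, ?_⟩
  · rw [e _ _ pairing_56, Fin.prod_univ_six]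
    simp
    rfl
  · rw [e _ _ pairing_46, Fin.prod_univ_six]
    simp
    rfl
  · rw [e _ _ pairing_42, Fin.prod_univ_six]
    simp
    rfl
  · rw [e _ _ pairing_39, Fin.prod_univ_six]
    simp
    rfl
  · rw [e _ _ pairing_37, Fin.prod_univ_six]
    simp
    rfl
  · rw [e _ _ pairing_36, Fin.prod_univ_six]
    simp
    rfl

/-- a parameter vector from four values -/
def cvec (q : ℕ) (a b c d : Fˣ) (j : Fin MT.tab.l) : Fˣ := [a, b, c, d, c ^ q, a ^ q].getD j.val 1

theorem cvec_val (q : ℕ) (a b c d : Fˣ) : cvec q a b c d 0 = a ∧ cvec q a b c d 1 = b ∧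
    cvec q a b c d 2 = c ∧ cvec q a b c d 3 = d ∧ cvec q a b c d 4 = c ^ q ∧ cvec q a b c d 5 = a ^ q :=
  ⟨rfl, rfl, rfl, rfl, rfl, rfl⟩

include Z in
theorem sig_cvec (hq : IsPrimePow q) (hK : Fintype.card F = q ^ 2) (a b c d : Fˣ) (hb : b ^ q = b)
    (hd : d ^ q = d) : Z.sig pre (cvec q a b c d) = cvec q a b c d := by
  obtain ⟨-, -, hper⟩ := qpow_hom hq hK
  have h2 : ∀ u : Fˣ, (u ^ q) ^ q = u := fun u =>
    Units.ext (by rw [← pow_mul, ← pow_two, Units.val_pow_eq_pow_val]; exact hper _)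
  funext j
  rw [sig_apply Z]
  match j with
  | 0 => exact h2 a
  | 1 => exact hb
  | 2 => exact h2 c
  | 3 => exact hd
  | 4 => exact rfl
  | 5 => exact rfl

include Z in
theorem fixed_eq_cvec {c : Fin MT.tab.l → Fˣ} (hc : Z.sig pre c = c) :
    c = cvec q (c 0) (c 1) (c 2) (c 3) := by
  have hs : ∀ j, c (pre j) ^ q = c j := fun j => by rw [← sig_apply Z, hc]
  funext j
  match j with
  | 0 => rfl
  | 1 => rfl
  | 2 => rfl
  | 3 => rfl
  | 4 => exact (hs 4).symm
  | 5 => exact (hs 5).symm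

include Z in
theorem card_fixedPar (hq : IsPrimePow q) (hK : Fintype.card F = q ^ 2) :
    Nat.card ↥(Z.fixedPar pre) = ((q ^ 2 - 1) * (q - 1)) ^ 2 := by
  have hcard : Nat.card {u : Fˣ // u ^ q = u} = q - 1 := by
    rw [← card_units_pow_eq_one (F := F) (n := q - 1) (hK ▸ Nat.sub_one_dvd_pow_sub_one q 2)]
    refine Nat.card_congr (Equiv.subtypeEquivRight fun u => ?_)
    rw [← pow_sub_mul_pow u hq.one_lt.le, pow_one, mul_eq_right]
  rw [show q ^ 2 - 1 = Nat.card Fˣ by rw [Nat.card_units, Nat.card_eq_fintype_card, hK], ← hcard,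
    sq, ← Nat.card_prod, ← Nat.card_prod]
  refine Nat.card_congr
    { toFun := fun c => ((c.1 0, ⟨c.1 1, by
        have := congrFun ((Z.mem_fixedPar).1 c.2) 1
        rwa [sig_apply Z] at this⟩), (c.1 2, ⟨c.1 3, by
        have := congrFun ((Z.mem_fixedPar).1 c.2) 3
        rwa [sig_apply Z] at this⟩))
      invFun := fun p => ⟨cvec q p.1.1 p.1.2.1 p.2.1 p.2.2.1,
        sig_cvec Z hq hK p.1.1 p.1.2.1 p.2.1 p.2.2.1 p.1.2.2 p.2.2.2⟩
      left_inv := fun c => Subtype.ext (fixed_eq_cvec Z ((Z.mem_fixedPar).1 c.2)).symm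
      right_inv := fun p => rfl }

include Z in
theorem ker_fixed {c : Fin MT.tab.l → Fˣ} (hc : Z.sig pre c = c) (h1 : tor MT K c = 1) :
    c = cvec q (c 0) 1 (c 0 ^ 2) 1 ∧ c 0 ^ Nat.gcd 3 (q + 1) = 1 := by
  have h3 : ∀ j, c j ^ 3 = 1 := fun j => congrFun (Z.pow_eq_one_of_tor torOk inv_ok h1) j
  have hchi := Z.chi_one_of_tor_eq_one h1
  obtain ⟨v0, v1, v2, v3, -, v5⟩ := chi_simple (F := F) c
  have x0 := v0.symm.trans (hchi 56)
  have x1 := v1.symm.trans (hchi 46)
  have x2 := v2.symm.trans (hchi 42)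
  have x5 := v5.symm.trans (hchi 36)
  simp only [zpow_neg_one, zpow_ofNat] at x0 x1 x2 x5
  have e2 : c 2 = c 0 ^ 2 := (mul_inv_eq_one.1 x0).symm
  have e3 : c 3 = 1 := by
    have h4 : c 2 ^ 2 = c 0 := by
      rw [e2, ← pow_mul, show 2 * 2 = 3 + 1 from rfl, pow_succ, h3, one_mul]
    rw [h4, inv_mul_cancel, one_mul, inv_eq_one] at x2
    exact x2
  have e1 : c 1 = 1 := by
    rw [e3, inv_one, mul_one] at x1
    have := h3 1
    rwa [pow_succ, x1, one_mul] at this
  have x3 := v3.symm.trans (hchi 39)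
  simp only [zpow_neg_one, zpow_ofNat, e1, e3, inv_one, one_pow, mul_one, one_mul] at x3
  have e4 : c 4 = c 0 := by
    have h6 : (c 2)⁻¹ = c 0 := by
      rw [e2]; exact inv_eq_of_mul_eq_one_right (by rw [← pow_succ, h3])
    rw [h6, mul_inv_eq_one] at x3
    exact x3.symm
  have e5 : c 5 = c 0 ^ 2 := by
    have h7 : c 5 ^ 2 = c 0 := (inv_mul_eq_one.1 x5).symm.trans e4
    rw [← h7, ← pow_mul, show 2 * 2 = 3 + 1 from rfl, pow_succ, h3, one_mul]
  have h05 : c 0 ^ q = c 5 := by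
    have := congrFun hc 5
    rwa [sig_apply Z] at this
  refine ⟨?_, pow_gcd_eq_one.2 ⟨h3 0, ?_⟩⟩
  · refine (fixed_eq_cvec Z hc).trans ?_
    rw [e1, e3, e2]
  · rw [pow_succ, h05, e5, ← pow_succ, h3]

include Z in
theorem ker_mem (hq : IsPrimePow q) (hK : Fintype.card F = q ^ 2) {z : Fˣ}
    (hz : z ^ Nat.gcd 3 (q + 1) = 1) :
    Z.sig pre (cvec q z 1 (z ^ 2) 1) = cvec q z 1 (z ^ 2) 1 ∧
      tor MT K (cvec q z 1 (z ^ 2) 1) = 1 := by
  obtain ⟨hz3, hzq⟩ := pow_gcd_eq_one.1 hz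
  refine ⟨sig_cvec Z hq hK z 1 (z ^ 2) 1 (one_pow q) (one_pow q), Z.tor_eq_one torOk fun j => ?_⟩
  obtain ⟨e0, e1, e2, e3, e4, e5⟩ := cvec_val q z (1 : Fˣ) (z ^ 2) (1 : Fˣ)
  obtain ⟨v0, v1, v2, v3, v4, v5⟩ := chi_simple (F := F) (cvec q z 1 (z ^ 2) 1)
  have hzq' : z ^ q = z ^ 2 := by
    have : z ^ q * z = z ^ 2 * z := by rw [← pow_succ, hzq, ← pow_succ, hz3]
    exact mul_right_cancel this
  have h4 : (z ^ 2) ^ 2 = z := by rw [← pow_mul, show 2 * 2 = 3 + 1 from rfl, pow_succ, hz3, one_mul]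
  have h24 : (z ^ 2) ^ q = z := by rw [← pow_mul, mul_comm, pow_mul, hzq', h4]
  match j with
  | 0 =>
    refine v0.trans ?_
    rw [e0, e2, zpow_neg_one, zpow_ofNat, mul_inv_cancel]
  | 1 =>
    refine v1.trans ?_
    rw [e1, e3]; simp
  | 2 =>
    refine v2.trans ?_
    rw [e0, e2, e3, zpow_neg_one, zpow_neg_one, zpow_ofNat, h4]; simp
  | 3 =>
    refine v3.trans ?_
    rw [e1, e2, e3, e4, h24]
    simp only [zpow_neg_one, zpow_ofNat, one_pow, inv_one, one_mul, mul_one]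
    rw [← mul_inv_rev, ← pow_succ', hz3, inv_one]
  | 4 =>
    refine v4.trans ?_
    rw [e3, e4, e5, h24, hzq', zpow_neg_one, zpow_neg_one, zpow_ofNat]; simp
  | 5 =>
    refine v5.trans ?_
    rw [e4, e5, h24, hzq', zpow_neg_one, zpow_ofNat, h4, inv_mul_cancel]

variable (hq : IsPrimePow q) (hK : Fintype.card F = q ^ 2)
include hq hK

include Z in
theorem card_H1 :
    Nat.gcd 3 (q + 1) * Nat.card ↥(gens Z hq hK).data.H1 = ((q ^ 2 - 1) * (q - 1)) ^ 2 := by
  rw [← card_fixedPar Z hq hK,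
    ← (gens Z hq hK).card_H1_mul torOk (pre_eq Z) inv_ok (m := 2) (by decide) (per Z (qpow_hom hq hK).2.2)]
  congr 1
  have hdvd : Nat.gcd 3 (q + 1) ∣ Fintype.card F - 1 := by
    rw [hK]
    refine (Nat.gcd_dvd_right _ _).trans ⟨q - 1, ?_⟩
    zify [hq.pos, Nat.one_le_pow 2 q hq.pos]
    ring
  rw [← card_units_pow_eq_one (F := F) hdvd]
  exact Nat.card_congr
    { toFun := fun z => ⟨cvec q z.1 1 (z.1 ^ 2) 1, ker_mem Z hq hK z.2⟩
      invFun := fun c => ⟨c.1 0, (ker_fixed Z c.2.1 c.2.2).2⟩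
      left_inv := fun z => rfl
      right_inv := fun c => Subtype.ext (ker_fixed Z c.2.1 c.2.2).1.symm }

include Z in
theorem one_mem_X {r : Fin MT.tab.n} {k : Fin 4} (hr : r ∈ ones) (hk : r ∈ fd.O.cls k) {t : F}
    (ht : t ^ q = t) : (MT.rel K).x r t ∈ (gens Z hq hK).data.X k := by
  refine Subgroup.mem_inf.2 ⟨one_mem_G Z hr ht, ?_⟩
  exact x_mem_Sg (MT.rel K) (T := fun u => u ∈ fd.O.cls k) hk t

include Z in
theorem pair_mem_X {p : Fin MT.tab.n × Fin MT.tab.n} {k : Fin 4} (hp : p ∈ pairs)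
    (h1 : p.1 ∈ fd.O.cls k) (h2 : p.2 ∈ fd.O.cls k) (t : F) :
    prodX MT K [p.1, p.2] (duo q p.1 t) ∈ (gens Z hq hK).data.X k := by
  refine Subgroup.mem_inf.2 ⟨pair_mem_G Z hp t, ?_⟩
  refine Subgroup.list_prod_mem _ fun y hy => ?_
  obtain ⟨r, hr, rfl⟩ := List.mem_map.1 hy
  simp only [List.mem_cons, List.not_mem_nil, or_false] at hr
  exact x_mem_Sg (MT.rel K) (T := fun u => u ∈ fd.O.cls k) (by rcases hr with rfl | rfl <;> assumption) _

include Z in
theorem card_X_one {r : Fin MT.tab.n} {k : Fin 4} (hr : r ∈ ones) (hk : fd.O.cls k = [r])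
    (hsub : [r].Sublist MT.posList) : Nat.card ↥((gens Z hq hK).data.X k) = q := by
  refine Eq.trans ?_ (card_fixed_pow (F := F) hq.one_lt hK)
  refine (gens Z hq hK).card_X_of (L := [r]) hsub (fun t : {t : F // t ^ q = t} => fun _ => t.1)
    (fun a b h => Subtype.ext (h r (by simp))) (fun t => ?_) ?_
  · simpa [prodX] using one_mem_X Z hq hK hr (k := k) (by rw [hk]; simp) t.2
  · intro g hg
    have hg2 : g ∈ Sg (MT.rel K) (· ∈ fd.O.cls k) := hg.2
    rw [hk] at hg2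
    obtain ⟨t, ht, rfl⟩ := cls_one Z hr hsub hg2 ((gens Z hq hK).fixed g hg.1)
    exact ⟨⟨t, ht⟩, by simp [prodX]⟩

include Z in
theorem card_X_two {p : Fin MT.tab.n × Fin MT.tab.n} {k : Fin 4} (hp : p ∈ pairs)
    (hk : fd.O.cls k = [p.1, p.2]) (hsub : [p.2, p.1].Sublist MT.posList) :
    Nat.card ↥((gens Z hq hK).data.X k) = q ^ 2 := by
  refine Eq.trans ?_ ((Nat.card_eq_fintype_card (α := F)).trans hK)
  have hc : commListB PP fd [p.1, p.2] = true :=
    list_ok Z _ (List.mem_append_right _ (List.mem_flatMap.2 ⟨p, hp, by simp⟩))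
  refine (gens Z hq hK).card_X_of (L := [p.2, p.1]) hsub (duo q p.1)
    (fun a b h => by simpa [duo] using h p.1 (by simp)) (fun t => ?_) ?_
  · rw [← Z.prodX_perm (List.Perm.swap p.2 p.1 []) hc]
    exact pair_mem_X Z hq hK hp (by rw [hk]; simp) (by rw [hk]; simp) t
  · intro g hg
    have hg2 : g ∈ Sg (MT.rel K) (· ∈ fd.O.cls k) := hg.2
    rw [hk] at hg2
    obtain ⟨t, rfl⟩ := cls_pair Z hp hsub hg2 ((gens Z hq hK).fixed g hg.1)
    exact ⟨t, Z.prodX_perm (List.Perm.swap p.2 p.1 []) hc _⟩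

include Z in
theorem card_X : Nat.card ↥((gens Z hq hK).data.X 0) = q ∧ Nat.card ↥((gens Z hq hK).data.X 1) = q ∧
    Nat.card ↥((gens Z hq hK).data.X 2) = q ^ 2 ∧ Nat.card ↥((gens Z hq hK).data.X 3) = q ^ 2 :=
  ⟨card_X_one Z hq hK (r := 46) (k := 0) (by decide) rfl (by decide +kernel),
    card_X_one Z hq hK (r := 39) (k := 1) (by decide) rfl (by decide +kernel),
    card_X_two Z hq hK (p := (42, 37)) (k := 2) (by decide) rfl (by decide +kernel),
    card_X_two Z hq hK (p := (56, 36)) (k := 3) (by decide) rfl (by decide +kernel)⟩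

include Z in
theorem one_derived {r : Fin MT.tab.n} (hr : r ∈ ones) {k : Fin 4}
    (hw : (MT.S).actw (fd.O.wd k) 47 = r) {u : F} (hu : u ^ q = u) :
    (MT.rel K).x r u ∈ ⁅G₁, G₁⁆ := by
  have X := gens Z hq hK
  obtain ⟨d, hd, hd'⟩ := (X.nj_coset k).conj_x 47
  have hder : ∀ t : F, t ^ q = t → (MT.rel K).x r (d * -t) ∈ ⁅G₁, G₁⁆ := by
    intro t ht
    have h1 := Z.x_mem_derived (r := 46) (s := 39) (a := 47) (c := -1) (by decide +kernel)
      (by decide) (by decide +kernel) (by decide +kernel) (one_mem_G Z (by decide) ht)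
      (one_mem_G Z (r := 39) (by decide) (one_pow q))
    have h2 := conj_mem_derived (X.nj_mem k) h1
    rw [hd', hw] at h2
    simpa using h2
  have hk : (-d) ^ q = -d := by
    have h1 : (MT.rel K).x r (d * -1) ∈ G₁ :=
      (Subgroup.commutator_le.2 fun a ha b hb =>
        mul_mem (mul_mem (mul_mem ha hb) (inv_mem ha)) (inv_mem hb)) (hder 1 (one_pow q))
    have h2 := X.fixed _ h1
    obtain ⟨l1, l2⟩ := lam_one (F := F) (q := q) (List.mem_append_left _ (List.mem_append_left _ hr))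
    rw [mul_neg_one, Z.σ_x, l1, l2, one_mul, ones_rho r hr] at h2
    exact Z.iso.x_injective _ h2
  have := hder ((-d)⁻¹ * u) (by rw [mul_pow, inv_pow, hk, hu])
  rwa [show d * -((-d)⁻¹ * u) = u by field_simp] at this

include Z in
theorem pair_derived {p : Fin MT.tab.n × Fin MT.tab.n} (hp : p ∈ pairs) (c : Fˣ → Fin MT.tab.l → Fˣ)
    (hc : ∀ b, Z.sig pre (c b) = c b)
    (hchi : ∀ b : Fˣ, chi MT (c b) p.1 = b ^ 2 ∧ chi MT (c b) p.2 = (b ^ q) ^ 2) (t : F) :
    prodX MT K [p.1, p.2] (duo q p.1 t) ∈ ⁅G₁, G₁⁆ := by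
  obtain ⟨hadd, -, -⟩ := qpow_hom hq hK
  obtain ⟨b, hb⟩ : ∃ b : Fˣ, b ^ 2 ≠ 1 := by
    obtain ⟨g, hg⟩ := IsCyclic.exists_monoid_generator (α := Fˣ)
    refine ⟨g, fun h => ?_⟩
    have h1 : orderOf g ≤ 2 := orderOf_le_of_pow_eq_one (by omega) h
    rw [orderOf_eq_card_of_forall_mem_powers hg, Nat.card_units, Nat.card_eq_fintype_card, hK] at h1
    have := Nat.pow_le_pow_left hq.two_le 2
    omega
  have hb' : (b : F) ^ 2 - 1 ≠ 0 := fun h => hb (Units.ext (by
    rw [Units.val_pow_eq_pow_val]; exact sub_eq_zero.1 h))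
  have hsub : ∀ x : F, (x - 1) ^ q = x ^ q - 1 := by
    intro x
    have := hadd (x - 1) 1
    rw [sub_add_cancel, one_pow] at this
    rw [this, add_sub_cancel_right]
  set s := t / ((b : F) ^ 2 - 1) with hs
  have hts : ((b : F) ^ 2 - 1) * s = t := mul_div_cancel₀ t hb'
  refine Z.prodX_mem_derived (L := [p.1, p.2])
    (list_ok Z _ (List.mem_append_right _ (List.mem_flatMap.2 ⟨p, hp, by simp⟩)))
    (torus_mem Z (qpow_hom hq hK).1 hq.pos.ne' (c b) (hc b)) (pair_mem_G Z hp s) fun r hr => ?_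
  simp only [List.mem_cons, List.not_mem_nil, or_false] at hr
  obtain ⟨h1, h2⟩ := hchi b
  rcases hr with rfl | rfl
  · rw [h1]; simp [duo, hts]
  · have : ((chi MT (c b) p.2 : Fˣ) : F) = ((b : F) ^ 2) ^ q := by
      rw [h2]; simp [← pow_mul, mul_comm]
    rw [this, ← hsub]
    simp [duo, (pairs_rho p hp).2.2, ← mul_pow, hts]

include Z in
theorem mem_derived : ∀ k, ∀ a ∈ (gens Z hq hK).data.X k,
    a ∈ (commutator ↥G₁).map (G₁).subtype := by
  intro k a ha
  rw [(gens Z hq hK).derived_eq]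
  have hfix := (gens Z hq hK).fixed a ha.1
  match k with
  | 0 =>
    obtain ⟨u, hu, rfl⟩ := cls_one Z (r := 46) (by decide) (by decide +kernel) ha.2 hfix
    exact one_derived Z hq hK (k := 1) (by decide) (by decide +kernel) hu
  | 1 =>
    obtain ⟨u, hu, rfl⟩ := cls_one Z (r := 39) (by decide) (by decide +kernel) ha.2 hfix
    exact one_derived Z hq hK (k := 0) (by decide) (by decide +kernel) hu
  | 2 =>
    obtain ⟨t, rfl⟩ := cls_pair Z (p := (42, 37)) (by decide) (by decide +kernel) ha.2 hfix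
    refine pair_derived Z hq hK (p := (42, 37)) (by decide) (fun b => cvec q 1 1 b 1)
      (fun b => sig_cvec Z hq hK 1 1 b 1 (one_pow q) (one_pow q)) (fun b => ?_) t
    obtain ⟨e0, e1, e2, e3, e4, e5⟩ := cvec_val q (1 : Fˣ) 1 b (1 : Fˣ)
    obtain ⟨-, -, v2, -, v4, -⟩ := chi_simple (F := F) (cvec q 1 1 b 1)
    exact ⟨by rw [v2, e0, e2, e3]; simp, by rw [v4, e3, e4, e5]; simp⟩
  | 3 =>
    obtain ⟨t, rfl⟩ := cls_pair Z (p := (56, 36)) (by decide) (by decide +kernel) ha.2 hfix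
    refine pair_derived Z hq hK (p := (56, 36)) (by decide) (fun b => cvec q b 1 1 1)
      (fun b => sig_cvec Z hq hK b 1 1 1 (one_pow q) (one_pow q)) (fun b => ?_) t
    obtain ⟨e0, e1, e2, e3, e4, e5⟩ := cvec_val q b (1 : Fˣ) 1 (1 : Fˣ)
    obtain ⟨v0, -, -, -, -, v5⟩ := chi_simple (F := F) (cvec q b 1 1 1)
    exact ⟨by rw [v0, e0, e2]; simp, by rw [v5, e4, e5]; simp⟩

include Z in
theorem card_U : Nat.card ↥(chevE6.posUnipotent F ⊓ twistedE6 F q) = q ^ 36 := by
  obtain ⟨x0, x1, x2, x3⟩ := card_X Z hq hK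
  rw [twistedE6, card_U_twisted Z _ (gens Z hq hK) long_ok]
  simp only [W0, List.map_cons, List.map_nil, List.prod_cons, List.prod_nil, x0, x1, x2, x3]
  ring

include Z in
theorem card_H : Nat.gcd 3 (q + 1) * Nat.card ↥(chevE6.diagonalSubgroup F ⊓ twistedE6 F q) =
    (q - 1) ^ 4 * (q + 1) ^ 2 := by
  rw [twistedE6, card_H_twisted Z _ (gens Z hq hK), card_H1 Z hq hK]
  zify [show 1 ≤ q from hq.pos, Nat.one_le_pow 2 q hq.pos]
  ring

include Z in
theorem card_G : Nat.gcd 3 (q + 1) * Nat.card ↥(twistedE6 F q) =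
    q ^ 36 * (q ^ 2 - 1) * (q ^ 5 + 1) * (q ^ 6 - 1) * (q ^ 8 - 1) * (q ^ 9 + 1) * (q ^ 12 - 1) := by
  have X := gens Z hq hK
  obtain ⟨x0, x1, x2, x3⟩ := card_X Z hq hK
  have s : ∀ d : TStepData MT.tab.n 4, d.rep.length = d.m →
      (∑ c : Fin d.m, ((d.repF c).map fun k => Nat.card (X.data.X k)).prod) =
        (d.rep.map fun w => (w.map fun k => Nat.card (X.data.X k)).prod).sum := fun d h =>
    sum_repF d h fun w => (w.map fun k => Nat.card (X.data.X k)).prod
  rw [twistedE6, card_twisted Z _ X long_ok (J := step0.KS) (fun k => by revert k; decide)]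
  rw [X.card_step long_ok step0_ok span0_ok, s _ rfl,
    show step0.JS = step1.KS from rfl, X.card_step long_ok step1_ok span1_ok, s _ rfl,
    show step1.JS = step2.KS from rfl, X.card_step long_ok step2_ok span2_ok, s _ rfl,
    show step2.JS = step3.KS from rfl, X.card_step long_ok step3_ok span3_ok, s _ rfl,
    show step3.JS = [] from rfl, X.card_par1_nil long_ok]
  simp only [step0, step1, step2, step3, W0, List.map_cons, List.map_nil, List.prod_cons, List.prod_nil,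
    List.sum_cons, List.sum_nil, x0, x1, x2, x3]
  have hH := card_H1 Z hq hK
  set g := Nat.gcd 3 (q + 1)
  set h := Nat.card ↥X.data.H1
  have hq0 := hq.pos
  zify [show 1 ≤ q from hq0, Nat.one_le_pow 2 q hq0, Nat.one_le_pow 6 q hq0, Nat.one_le_pow 8 q hq0,
    Nat.one_le_pow 12 q hq0] at hH ⊢
  linear_combination (norm := ring_nf) ((q : ℤ) ^ 36 * (1 + q) * (1 + q + q ^ 2) *
    (1 + q ^ 2 + q ^ 3 + q ^ 4 + q ^ 5 + q ^ 6 + q ^ 7 + q ^ 9) *
    (1 + q ^ 2 + q ^ 4 + q ^ 5 + q ^ 6 + q ^ 7 + q ^ 8 + 2 * q ^ 9 + q ^ 10 + 2 * q ^ 11 + 2 * q ^ 13 +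
      q ^ 14 + 2 * q ^ 15 + q ^ 16 + q ^ 17 + q ^ 18 + q ^ 19 + q ^ 20 + q ^ 22 + q ^ 24)) * hH

include Z in
theorem bnPair : ∃ P : Cfsg.BNPair ↥(twistedE6 F q),
    P.B = (chevE6.borelSubgroup F ⊓ twistedE6 F q).subgroupOf (twistedE6 F q) ∧
    P.N = (chevE6.monomialSubgroup F ⊓ twistedE6 F q).subgroupOf (twistedE6 F q) :=
  bnPair_twisted Z _ (gens Z hq hK) long_ok distinct_ok orth_ok

include Z in
theorem core : ((chevE6.borelSubgroup F ⊓ twistedE6 F q).subgroupOf (twistedE6 F q)).normalCore = ⊥ :=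
  core_twisted Z _ (gens Z hq hK) long_ok ((gens Z hq hK).faith torOk simple_orth)

include Z in
theorem perfect : commutator ↥(twistedE6 F q) = ⊤ :=
  perfect_twisted Z _ (gens Z hq hK) (mem_derived Z hq hK)

include Z in
theorem simple : IsSimpleGroup ↥(twistedE6 F q) ∧ ¬ IsMulCommutative ↥(twistedE6 F q) :=
  simple_twisted Z _ (gens Z hq hK) long_ok distinct_ok orth_ok irr_ok (mem_derived Z hq hK)
    ((gens Z hq hK).faith torOk simple_orth)

include Z in
theorem weyl : ∃ φ : ↥(chevE6.monomialSubgroup F ⊓ twistedE6 F q) →* (CoxeterMatrix.F₄).Group,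
    Function.Surjective φ ∧ φ.ker = (chevE6.diagonalSubgroup F ⊓ twistedE6 F q).subgroupOf
      (chevE6.monomialSubgroup F ⊓ twistedE6 F q) :=
  weyl_twisted Z _ (gens Z hq hK) long_ok psi psi_inj (CoxeterMatrix.F₄).simple
    (fun k r => by rw [psi_simple]; rfl) simple_gen

end Cfsg.Agent.Twisted.TypeE6
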