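import Cfsg.Agent.Twisted.Pieces
import Cfsg.Agent.Twisted.Field
import Cfsg.Agent.Twisted.Types.E6
import Cfsg.Prelude.Def_LieTwisted

/-!
The generators of `²E₆(q)` give the twisted data.
-/

set_option autoImplicit false
set_option maxRecDepth 4000

namespace Cfsg.Agent.Twisted.TypeE6

open ChevGroup ChevIsogeny Cfsg.Lie

/-- the model -/
abbrev MT : Model chevE6 := ChevGroup.TypeE6.model

/-- the isogeny certificate -/
abbrev PP : IsoData := ChevIsogeny.E6.iso

instance : NeZero MT.tab.l := ⟨by decide⟩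

instance : NeZero (ChevGroup.TypeE6.model).tab.l := ⟨by decide⟩

/-- The single roots `(r, -r)`. -/
def ones : List (Fin MT.tab.n) := [46, 25, 39, 32]

/-- The pairs `(r, ρ r)`. -/
def pairs : List (Fin MT.tab.n × Fin MT.tab.n) := [(56, 36), (15, 35), (42, 37), (29, 34)]

/-- The root lists of the orbits and of their negatives. -/
def lists : List (List (Fin MT.tab.n)) :=
  (ones.map fun r => [r]) ++ (pairs.flatMap fun p => [[p.1, p.2], [p.2, p.1]])

theorem lists_ok : (lists.all fun L => commListB PP fd L) = true := by decide +kernel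

theorem pair_ok : pairOrthB PP MT [46] = true ∧ pairOrthB PP MT [39] = true ∧
    pairOrthB PP MT [42, 37] = true ∧ pairOrthB PP MT [56, 36] = true := by
  refine ⟨?_, ?_, ?_, ?_⟩ <;> decide +kernel

theorem ones_rho : ∀ r ∈ ones, fd.O.rho r = r := by decide +kernel

theorem pairs_rho : ∀ p ∈ pairs, fd.O.rho p.1 = p.2 ∧ fd.O.rho p.2 = p.1 ∧ p.2 ≠ p.1 := by
  decide +kernel

theorem roots_iso : ∀ r ∈ (ones ++ pairs.map Prod.fst ++ pairs.map Prod.snd),
    ChevIsogeny.IsoData.lf PP r.val = 1 ∧ PP.ef r.val = 1 := by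
  decide +kernel

variable {F : Type*} [Field F] [Fintype F] {q : ℕ}

/-- The frame. -/
theorem frame (K : Rels chevE6 F) (hC : CommFormula chevE6 F)
    (heta : ∀ i r, i < chevE6.rank → r < chevE6.nroots → K.eta i r = (ChevIsogeny.E6.eta i r : F))
    (hq : IsPrimePow q) (hK : Fintype.card F = q ^ 2) :
    Frame (T := MT) K PP q fd := by
  obtain ⟨hadd, hint, -⟩ := qpow_hom hq hK
  have hlam : ∀ r, r < chevE6.nroots → ChevIsogeny.IsoData.lf PP r = 1 := by
    have : ((List.range chevE6.nroots).all fun r => decide (ChevIsogeny.IsoData.lf PP r = 1)) = true := by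
      decide +kernel
    simp only [List.all_eq_true, decide_eq_true_eq, List.mem_range] at this
    exact this
  refine ⟨⟨hC, ChevIsogeny.E6.base, ChevIsogeny.E6.pairing, ChevIsogeny.E6.simple,
    ChevIsogeny.E6.collect, by simp [ChevIsogeny.E6.iso],
    fun r hr a b => by rw [hlam r hr, one_mul]; exact hadd a b,
    fun r hr z => by rw [hlam r hr, one_mul]; exact hint z,
    ⟨_, ChevIsogeny.E6.sign, heta⟩⟩, ok⟩

variable {K : Rels chevE6 F} (Z : Frame (T := MT) K PP q fd)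

set_option quotPrecheck false in
local notation "G₁" => genG MT K (e6Words F q)

theorem lam_one {r : Fin MT.tab.n} (hr : r ∈ ones ++ pairs.map Prod.fst ++ pairs.map Prod.snd) :
    IsoHyp.lam PP q r.val = q ∧ (PP.ef r.val : F) = 1 :=
  ⟨by rw [IsoHyp.lam, (roots_iso r hr).1, one_mul], by rw [(roots_iso r hr).2, Int.cast_one]⟩

include Z in
theorem list_ok (L) (h : L ∈ lists) : commListB PP fd L = true :=
  List.all_eq_true.1 lists_ok L h

/-- parameters `t, t^q` along a pair starting at `a` -/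
def duo (q : ℕ) (a : Fin MT.tab.n) (t : F) (r : Fin MT.tab.n) : F := if r = a then t else t ^ q

theorem one_word {r : Fin MT.tab.n} (hr : r ∈ ones) :
    r.val ∈ [e6p2, e6m2, e6p4, e6m4] := by
  revert r; decide +kernel

theorem pair_word {p : Fin MT.tab.n × Fin MT.tab.n} (hp : p ∈ pairs) :
    (p.1.val, p.2.val) ∈ [(e6p1, e6p6), (e6m1, e6m6), (e6p3, e6p5), (e6m3, e6m5)] := by
  revert p; decide +kernel

include Z in
theorem one_mem_G {r : Fin MT.tab.n} (hr : r ∈ ones) {t : F} (ht : t ^ q = t) :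
    (MT.rel K).x r t ∈ G₁ := by
  have h := wv_mem (T := MT) (K := K) (W := e6Words F q) (w := [(r.val, t)])
    (Or.inl ⟨t, ht, r.val, one_word hr, rfl⟩)
  rw [Z.wv_cons] at h
  simpa [wv] using h

include Z in
theorem wv_pair {p : Fin MT.tab.n × Fin MT.tab.n} (hp : p ∈ pairs) (t : F) :
    wv MT K [(p.1.val, t), (p.2.val, t ^ q)] = prodX MT K [p.1, p.2] (duo q p.1 t) := by
  rw [Z.wv_cons, Z.wv_cons]
  simp [wv, prodX, duo, (pairs_rho p hp).2.2]

include Z in
theorem pair_mem_G {p : Fin MT.tab.n × Fin MT.tab.n} (hp : p ∈ pairs) (t : F) :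
    prodX MT K [p.1, p.2] (duo q p.1 t) ∈ G₁ := by
  rw [← wv_pair Z hp]
  exact wv_mem (Or.inr ⟨t, (p.1.val, p.2.val), pair_word hp, rfl⟩)

include Z in
theorem cls_one {r : Fin MT.tab.n} (hr : r ∈ ones) (hsub : [r].Sublist MT.posList)
    {g : ↥(chevE6.group F)} (hg : g ∈ Sg (MT.rel K) (· ∈ [r])) (hfix : Z.σ g = g) :
    ∃ t : F, t ^ q = t ∧ g = (MT.rel K).x r t := by
  obtain ⟨v, rfl, hv⟩ := Z.fixed_commuting (L := [r])
    (list_ok Z _ (List.mem_append_left _ (List.mem_map.2 ⟨r, hr, rfl⟩))) hsub hg hfix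
  refine ⟨v r, ?_, by simp [prodX]⟩
  have := hv r (by simp)
  obtain ⟨h1, h2⟩ := lam_one (F := F) (q := q) (List.mem_append_left _ (List.mem_append_left _ hr))
  rw [h1, h2, one_mul, ones_rho r hr] at this
  exact this.symm

include Z in
theorem cls_pair {p : Fin MT.tab.n × Fin MT.tab.n} (hp : p ∈ pairs)
    (hsub : [p.2, p.1].Sublist MT.posList) {g : ↥(chevE6.group F)}
    (hg : g ∈ Sg (MT.rel K) (· ∈ [p.1, p.2])) (hfix : Z.σ g = g) :
    ∃ t : F, g = prodX MT K [p.1, p.2] (duo q p.1 t) := by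
  have hL : commListB PP fd [p.2, p.1] = true :=
    list_ok Z _ (List.mem_append_right _ (List.mem_flatMap.2 ⟨p, hp, by simp⟩))
  have hg' : g ∈ Sg (MT.rel K) (· ∈ [p.2, p.1]) :=
    Sg_mono _ (fun r hr => by simp only [List.mem_cons, List.not_mem_nil, or_false] at hr ⊢; tauto) hg
  obtain ⟨v, rfl, hv⟩ := Z.fixed_commuting hL hsub hg' hfix
  refine ⟨v p.1, ?_⟩
  rw [Z.prodX_perm (List.Perm.swap p.1 p.2 []) hL]
  refine Z.prodX_congr fun r hr => ?_
  have h1 := hv p.1 (by simp)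
  obtain ⟨hl, he⟩ := lam_one (F := F) (q := q) (List.mem_append_left _ (List.mem_append_right ones
    (List.mem_map.2 ⟨p, hp, rfl⟩ : p.1 ∈ pairs.map Prod.fst)))
  rw [hl, he, one_mul, (pairs_rho p hp).1] at h1
  simp only [List.mem_cons, List.not_mem_nil, or_false] at hr
  rcases hr with rfl | rfl
  · simp [duo]
  · rw [h1]; simp [duo, (pairs_rho p hp).2.2]

include Z in
theorem fixed_gen (hper : ∀ a : F, a ^ (q ^ 2) = a) :
    ∀ g ∈ G₁, Z.σ g = g := by
  refine Z.σ_fixed fun w hw => ?_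
  rcases hw with ⟨t, ht, r, hr, rfl⟩ | ⟨t, rs, hr, rfl⟩
  · obtain ⟨r', hr', rfl⟩ : ∃ r' ∈ ones, r'.val = r := by
      simp only [List.mem_cons, List.not_mem_nil, or_false] at hr
      rcases hr with rfl | rfl | rfl | rfl
      exacts [⟨46, by decide, rfl⟩, ⟨25, by decide, rfl⟩, ⟨39, by decide, rfl⟩, ⟨32, by decide, rfl⟩]
    rw [Z.wv_cons, show wv MT K ([] : List (ℕ × F)) = 1 from rfl, mul_one, Z.σ_x]
    obtain ⟨h1, h2⟩ := lam_one (F := F) (q := q) (List.mem_append_left _ (List.mem_append_left _ hr'))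
    rw [h1, h2, one_mul, ht, ones_rho r' hr']
  · obtain ⟨p, hp, rfl⟩ : ∃ p ∈ pairs, (p.1.val, p.2.val) = rs := by
      simp only [List.mem_cons, List.not_mem_nil, or_false] at hr
      rcases hr with rfl | rfl | rfl | rfl
      exacts [⟨(56, 36), by decide, rfl⟩, ⟨(15, 35), by decide, rfl⟩, ⟨(42, 37), by decide, rfl⟩,
        ⟨(29, 34), by decide, rfl⟩]
    obtain ⟨e1, e2, hne⟩ := pairs_rho p hp
    rw [wv_pair Z hp]
    refine Z.prodX_fixed (list_ok Z _ (List.mem_append_right _ (List.mem_flatMap.2 ⟨p, hp, by simp⟩)))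
      _ fun r hr => ?_
    simp only [List.mem_cons, List.not_mem_nil, or_false] at hr
    rcases hr with rfl | rfl
    · obtain ⟨h1, h2⟩ := lam_one (F := F) (q := q) (List.mem_append_left _ (List.mem_append_right ones
        (List.mem_map.2 ⟨p, hp, rfl⟩ : p.1 ∈ pairs.map Prod.fst)))
      rw [h1, h2, one_mul, e1]
      simp [duo, hne]
    · obtain ⟨h1, h2⟩ := lam_one (F := F) (q := q)
        (List.mem_append_right _ (List.mem_map.2 ⟨p, hp, rfl⟩ : p.2 ∈ pairs.map Prod.snd))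
      rw [h1, h2, one_mul, e2]
      simp [duo, hne, ← pow_mul]
      rw [← pow_two, hper]

include Z in
theorem og_one {r s : Fin MT.tab.n} (hr : r ∈ ones) (hs : s ∈ ones) (hrs : (MT.S).neg r = s)
    (k : Fin 4) (hk : fd.orth k = [r]) (hq0 : q ≠ 0) : Z.og k 1 ∈ G₁ ∧ Z.ogn k (-1) ∈ G₁ := by
  refine ⟨?_, ?_⟩
  · simpa [Frame.og, hk] using one_mem_G Z hr (one_pow q)
  · have := inv_mem (one_mem_G Z hs (one_pow q))
    rw [← (MT.rel K).x_neg] at this
    simpa [Frame.ogn, hk, hrs] using this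

include Z in
theorem og_two {p n : Fin MT.tab.n × Fin MT.tab.n} (hp : p ∈ pairs) (hn : n ∈ pairs)
    (h1 : (MT.S).neg p.1 = n.1) (h2 : (MT.S).neg p.2 = n.2)
    (k : Fin 4) (hk : fd.orth k = [p.2, p.1]) : Z.og k 1 ∈ G₁ ∧ Z.ogn k (-1) ∈ G₁ := by
  have hc : ∀ x ∈ pairs, commListB PP fd [x.1, x.2] = true ∧ commListB PP fd [x.2, x.1] = true :=
    fun x hx => ⟨list_ok Z _ (List.mem_append_right _ (List.mem_flatMap.2 ⟨x, hx, by simp⟩)),
      list_ok Z _ (List.mem_append_right _ (List.mem_flatMap.2 ⟨x, hx, by simp⟩))⟩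
  refine ⟨?_, ?_⟩
  · have := pair_mem_G Z hp (1 : F)
    rw [Z.prodX_perm (List.Perm.swap p.2 p.1 []) (hc p hp).1] at this
    simpa [Frame.og, hk, prodX, duo] using this
  · have := inv_mem (pair_mem_G Z hn (1 : F))
    have e : (prodX MT K [n.1, n.2] (duo q n.1 (1 : F)))⁻¹ = prodX MT K [n.2, n.1] (fun _ => (-1 : F)) := by
      simp [prodX, duo, (MT.rel K).x_neg]
    rw [e] at this
    simpa [Frame.ogn, hk, prodX, h1, h2] using this

include Z in
theorem og_mem (hq0 : q ≠ 0) (k : Fin 4) : Z.og k 1 ∈ G₁ ∧ Z.ogn k (-1) ∈ G₁ := by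
  match k with
  | 0 => exact og_one Z (r := 46) (s := 25) (by decide) (by decide) (Fin.ext rfl) 0 rfl hq0
  | 1 => exact og_one Z (r := 39) (s := 32) (by decide) (by decide) (Fin.ext rfl) 1 rfl hq0
  | 2 =>
    exact og_two Z (p := (42, 37)) (n := (29, 34)) (by decide) (by decide) (Fin.ext rfl) (Fin.ext rfl) 2 rfl
  | 3 =>
    exact og_two Z (p := (56, 36)) (n := (15, 35)) (by decide) (by decide) (Fin.ext rfl) (Fin.ext rfl) 3 rfl

/-- the inverse of the permutation of the fundamental roots -/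
def pre (j : Fin MT.tab.l) : Fin MT.tab.l :=
  ([5, 1, 4, 3, 2, 0] : List (Fin 6)).getD j.val 0

include Z in
theorem pre_eq (j : Fin MT.tab.l) : Z.iso.ρIF (pre j) = j := by
  match j with
  | 0 => exact Fin.ext rfl
  | 1 => exact Fin.ext rfl
  | 2 => exact Fin.ext rfl
  | 3 => exact Fin.ext rfl
  | 4 => exact Fin.ext rfl
  | 5 => exact Fin.ext rfl

include Z in
theorem sig_apply (c : Fin MT.tab.l → Fˣ) (j : Fin MT.tab.l) : Z.sig pre c j = c (pre j) ^ q := by
  have hl : IsoHyp.lam PP q ((MT.S).simple (pre j)).val = q := by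
    match j with
    | 0 => exact one_mul q
    | 1 => exact one_mul q
    | 2 => exact one_mul q
    | 3 => exact one_mul q
    | 4 => exact one_mul q
    | 5 => exact one_mul q
  simp only [Frame.sig, MonoidHom.coe_mk, OneHom.coe_mk, hl]

include Z in
theorem per (hper : ∀ a : F, a ^ (q ^ 2) = a) (c : Fin MT.tab.l → Fˣ) :
    (⇑(Z.sig pre))^[2] c = c := by
  funext j
  refine Units.ext ?_
  simp only [Function.iterate_succ_apply', Function.iterate_zero_apply, sig_apply, ← pow_mul,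
    Units.val_pow_eq_pow_val]
  have hp : pre (pre j) = j := by
    match j with
    | 0 => rfl
    | 1 => rfl
    | 2 => rfl
    | 3 => rfl
    | 4 => rfl
    | 5 => rfl
  rw [hp, show q * q = q ^ 2 by ring]
  exact hper _

include Z in
theorem h_one (hadd : ∀ a b : F, (a + b) ^ q = a ^ q + b ^ q) (hq0 : q ≠ 0) {r s : Fin MT.tab.n} (hr : r ∈ ones)
    (hs : s ∈ ones) (hrs : (MT.S).neg r = s) (hok : pairOrthB PP MT [r] = true) {c : F}
    (hc : c ^ q = c) : (MT.rel K).hr r c ∈ G₁ := by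
  have hn : ∀ t : F, t ^ q = t → ((([r] : List (Fin MT.tab.n)).map fun a => (MT.rel K).nr a t)).prod ∈ G₁ := by
    intro t ht
    refine Z.nprod_mem hok (fun _ => t) ?_ ?_
    · simpa using one_mem_G Z hr ht
    · simpa [hrs] using one_mem_G Z hs (t := -t⁻¹) (by rw [qpow_inv_neg hadd hq0, ht])
  have := Z.hprod_mem hok (fun _ => c) (hn _ hc)
    (hn _ (by simpa using qpow_inv_neg hadd hq0 (1 : F)))
  simpa using this

include Z in
theorem h_pair (hadd : ∀ a b : F, (a + b) ^ q = a ^ q + b ^ q) (hq0 : q ≠ 0) {p n : Fin MT.tab.n × Fin MT.tab.n}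
    (hp : p ∈ pairs) (hn : n ∈ pairs) (h1 : (MT.S).neg p.1 = n.1) (h2 : (MT.S).neg p.2 = n.2)
    (hok : pairOrthB PP MT [p.1, p.2] = true) (c : F) :
    (MT.rel K).hr p.1 c * (MT.rel K).hr p.2 (c ^ q) ∈ G₁ := by
  have hne := (pairs_rho p hp).2.2
  have hne' := (pairs_rho n hn).2.2
  have hm : ∀ t : F, (([p.1, p.2].map fun a => (MT.rel K).nr a (duo q p.1 t a))).prod ∈ G₁ := by
    intro t
    refine Z.nprod_mem hok (duo q p.1 t) (pair_mem_G Z hp t) ?_
    have := pair_mem_G Z hn (-t⁻¹)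
    simpa [prodX, duo, h1, h2, hne, hne', qpow_inv_neg hadd hq0] using this
  have := Z.hprod_mem hok (duo q p.1 c) (hm _) ?_
  · simpa [duo, hne] using this
  · have := hm (-1)
    have e : (-1 : F) ^ q = -1 := by simpa using qpow_inv_neg hadd hq0 (1 : F)
    simpa [duo, hne, e] using this

include Z in
theorem torus_mem (hadd : ∀ a b : F, (a + b) ^ q = a ^ q + b ^ q) (hq0 : q ≠ 0)
    (c : Fin MT.tab.l → Fˣ) (hc : Z.sig pre c = c) : tor MT K c ∈ G₁ := by
  have hs : ∀ j, (c (pre j) : F) ^ q = c j := fun j => by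
    rw [← Units.val_pow_eq_pow_val, ← sig_apply Z, hc]
  have h5 : (c 5 : F) = (c 0 : F) ^ q := (hs 5).symm
  have h4 : (c 4 : F) = (c 2 : F) ^ q := (hs 4).symm
  rw [Z.tor_eq_prod (L := [1, 3, 2, 4, 0, 5]) (by decide)]
  have s0 : (MT.S).simple 0 = (56 : Fin MT.tab.n) := Fin.ext rfl
  have s1 : (MT.S).simple 1 = (46 : Fin MT.tab.n) := Fin.ext rfl
  have s2 : (MT.S).simple 2 = (42 : Fin MT.tab.n) := Fin.ext rfl
  have s3 : (MT.S).simple 3 = (39 : Fin MT.tab.n) := Fin.ext rfl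
  have s4 : (MT.S).simple 4 = (37 : Fin MT.tab.n) := Fin.ext rfl
  have s5 : (MT.S).simple 5 = (36 : Fin MT.tab.n) := Fin.ext rfl
  have m1 := h_one Z hadd hq0 (r := 46) (s := 25) (by decide) (by decide) (Fin.ext rfl) pair_ok.1
    (c := (c 1 : F)) (hs 1)
  have m3 := h_one Z hadd hq0 (r := 39) (s := 32) (by decide) (by decide) (Fin.ext rfl) pair_ok.2.1
    (c := (c 3 : F)) (hs 3)
  have m2 := h_pair Z hadd hq0 (p := (42, 37)) (n := (29, 34)) (by decide) (by decide) (Fin.ext rfl)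
    (Fin.ext rfl) pair_ok.2.2.1 (c 2 : F)
  have m0 := h_pair Z hadd hq0 (p := (56, 36)) (n := (15, 35)) (by decide) (by decide) (Fin.ext rfl)
    (Fin.ext rfl) pair_ok.2.2.2 (c 0 : F)
  have := mul_mem (mul_mem (mul_mem m1 m3) m2) m0
  simpa [s0, s1, s2, s3, s4, s5, h4, h5, mul_assoc] using this

/-- The representatives of the longest elements of the orbits. -/
def nj (Z : Frame (T := MT) K PP q fd) (k : Fin 4) : ↥(chevE6.group F) := Z.nJ k

include Z in
/-- The data of the group fixed by `σ`, for any exponent acting with period two. -/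
theorem gens_of (hadd : ∀ a b : F, (a + b) ^ q = a ^ q + b ^ q) (hper : ∀ a : F, a ^ (q ^ 2) = a) (hq0 : q ≠ 0) : Gens Z G₁ (nj Z) := by
  have hog := og_mem Z hq0
  refine ⟨fixed_gen Z hper, fun k => (hog k).1,
    fun k => mul_mem (mul_mem (hog k).1 (hog k).2) (hog k).1, ?_, ?_, ?_, ?_⟩
  · intro k
    match k with
    | 0 => exact Z.nJ_coset 0 refl0_ok
    | 1 => exact Z.nJ_coset 1 refl1_ok
    | 2 => exact Z.nJ_coset 2 refl2_ok
    | 3 => exact Z.nJ_coset 3 refl3_ok
  · intro k g hg hfix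
    match k with
    | 0 =>
      obtain ⟨t, ht, rfl⟩ := cls_one Z (r := 46) (by decide) (by decide) hg hfix
      exact one_mem_G Z (by decide) ht
    | 1 =>
      obtain ⟨t, ht, rfl⟩ := cls_one Z (r := 39) (by decide) (by decide) hg hfix
      exact one_mem_G Z (by decide) ht
    | 2 =>
      obtain ⟨t, rfl⟩ := cls_pair Z (p := (42, 37)) (by decide) (by decide) hg hfix
      exact pair_mem_G Z (by decide) t
    | 3 =>
      obtain ⟨t, rfl⟩ := cls_pair Z (p := (56, 36)) (by decide) (by decide) hg hfix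
      exact pair_mem_G Z (by decide) t
  · intro h hh hfix
    exact Z.full_H_of torOk (pre_eq Z) inv_ok (m := 2) (by decide) (per Z hper)
      (torus_mem Z hadd hq0) hh hfix
  · intro g hg
    refine (Subgroup.closure_le _).2 ?_ hg
    rintro _ ⟨w, hw, rfl⟩
    refine Subgroup.subset_closure ?_
    rcases hw with ⟨t, ht, r, hr, rfl⟩ | ⟨t, rs, hr, rfl⟩
    · have key : ∀ r' ∈ ones, ∃ k, r' ∈ fd.O.cls k ∨ (MT.S).neg r' ∈ fd.O.cls k := by decide +kernel
      obtain ⟨r', hr', rfl⟩ : ∃ r' ∈ ones, r'.val = r := by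
        simp only [List.mem_cons, List.not_mem_nil, or_false] at hr
        rcases hr with rfl | rfl | rfl | rfl
        exacts [⟨46, by decide, rfl⟩, ⟨25, by decide, rfl⟩, ⟨39, by decide, rfl⟩, ⟨32, by decide, rfl⟩]
      obtain ⟨k, hk⟩ := key r' hr'
      refine ⟨k, wv_mem (Or.inl ⟨t, ht, r'.val, hr, rfl⟩), ?_⟩
      rw [Z.wv_cons, show wv MT K ([] : List (ℕ × F)) = 1 from rfl, mul_one]
      exact hk.imp (fun h => x_mem_Sg _ (T := fun u => u ∈ fd.O.cls k) h t)
        (fun h => x_mem_Sg _ (T := fun u => (MT.S).neg u ∈ fd.O.cls k) h t)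
    · have key : ∀ p ∈ pairs, ∃ k, (p.1 ∈ fd.O.cls k ∧ p.2 ∈ fd.O.cls k) ∨
          ((MT.S).neg p.1 ∈ fd.O.cls k ∧ (MT.S).neg p.2 ∈ fd.O.cls k) := by decide +kernel
      obtain ⟨p, hp, rfl⟩ : ∃ p ∈ pairs, (p.1.val, p.2.val) = rs := by
        simp only [List.mem_cons, List.not_mem_nil, or_false] at hr
        rcases hr with rfl | rfl | rfl | rfl
        exacts [⟨(56, 36), by decide, rfl⟩, ⟨(15, 35), by decide, rfl⟩, ⟨(42, 37), by decide, rfl⟩,
          ⟨(29, 34), by decide, rfl⟩]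
      obtain ⟨k, hk⟩ := key p hp
      refine ⟨k, wv_mem (Or.inr ⟨t, _, hr, rfl⟩), ?_⟩
      rw [Z.wv_cons, Z.wv_cons, show wv MT K ([] : List (ℕ × F)) = 1 from rfl, mul_one]
      exact hk.imp
        (fun h => mul_mem (x_mem_Sg _ (T := fun u => u ∈ fd.O.cls k) h.1 _)
          (x_mem_Sg _ (T := fun u => u ∈ fd.O.cls k) h.2 _))
        (fun h => mul_mem (x_mem_Sg _ (T := fun u => (MT.S).neg u ∈ fd.O.cls k) h.1 _)
          (x_mem_Sg _ (T := fun u => (MT.S).neg u ∈ fd.O.cls k) h.2 _))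

include Z in
/-- The twisted data of `²E₆(q)`. -/
theorem gens (hq : IsPrimePow q) (hK : Fintype.card F = q ^ 2) : Gens Z G₁ (nj Z) :=
  gens_of Z (qpow_hom hq hK).1 (qpow_hom hq hK).2.2 hq.pos.ne'

end Cfsg.Agent.Twisted.TypeE6
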