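import Cfsg.Agent.Twisted.Count
import Cfsg.Agent.Twisted.Field
import Cfsg.Agent.Twisted.Types.F4
import Cfsg.Agent.ChevIsogeny.WordCheck
import Cfsg.Agent.Lib.ChevCore.GoodF4
import Cfsg.Prelude.Def_LieTwisted

/-!
The generators of `²F₄(q)` give the twisted data.
-/

set_option autoImplicit false
set_option maxRecDepth 4000

namespace Cfsg.Agent.Twisted.TypeF4

open ChevGroup ChevIsogeny Cfsg.Lie

/-- the model -/
abbrev MT : Model chevF4 := ChevGroup.TypeF4.model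

/-- the isogeny certificate -/
abbrev PP : IsoData := ChevIsogeny.F4.iso

instance : NeZero MT.tab.l := ⟨by decide⟩

instance : NeZero (ChevGroup.TypeF4.model).tab.l := ⟨by decide⟩

/-- The root lists with commuting root groups. -/
def lists : List (List (Fin MT.tab.n)) :=
  [[33, 24], [24, 33], [14, 23], [23, 14], [28, 30], [19, 17]]

theorem lists_ok : (lists.all fun L => commListB PP fd L) = true := by decide +kernel

theorem pair_ok : pairOrthB PP MT [33, 24] = true := by decide +kernel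

/-- `x_{a+b}`, `x_{2a+b}` commute with the root groups of the class. -/
theorem central_ok : ∀ r ∈ ([27, 25] : List (Fin MT.tab.n)), ∀ s ∈ ([28, 30] : List (Fin MT.tab.n)),
    PP.commuteB chevF4 r.val s.val = true := by
  decide +kernel

/-- The representative of the longest element of the class of type B₂ and a product in the generators
agree modulo `2`. -/
theorem nJ_word :
    wordEqB chevF4 (ChevCore.fast chevF4 ChevCore.packedF4) 2
      [(28, 1), (30, 1), (19, 1), (17, 1), (28, 1), (30, 1), (19, 1), (17, 1), (28, 1), (30, 1)]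
      [(27, 1), (20, 1), (27, 1), (25, 1), (22, 1), (25, 1), (27, 1), (20, 1), (27, 1), (25, 1), (22, 1),
        (25, 1)] = true := by
  decide +kernel

variable {F : Type*} [Field F] [Fintype F] {m : ℕ}

theorem charTwo (hK : Fintype.card F = 2 ^ (2 * m + 1)) : CharP F 2 := by
  obtain ⟨p, j, hp, hc, h2, -⟩ := exists_char_pow Nat.prime_two.isPrimePow hK
  have : p = 2 := (Nat.Prime.pow_eq_iff Nat.prime_two).1 h2.symm |>.1
  exact this ▸ hc

theorem pow_facts (hK : Fintype.card F = 2 ^ (2 * m + 1)) :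
    (2 : F) = 0 ∧ (∀ a b : F, (a + b) ^ (2 ^ m) = a ^ (2 ^ m) + b ^ (2 ^ m)) ∧
      (∀ a b : F, (a + b) ^ (2 * 2 ^ m) = a ^ (2 * 2 ^ m) + b ^ (2 * 2 ^ m)) ∧
      (∀ z : ℤ, (z : F) ^ (2 ^ m) = z) ∧ (∀ z : ℤ, (z : F) ^ (2 * 2 ^ m) = z) ∧
      (∀ a : F, a ^ (2 * 2 ^ m * 2 ^ m) = a) ∧ (∀ a : F, -a = a) := by
  haveI := charTwo hK
  haveI := Fact.mk Nat.prime_two
  have e : 2 * 2 ^ m = 2 ^ (m + 1) := by rw [pow_succ]; ring
  have hz : ∀ (j : ℕ) (z : ℤ), (z : F) ^ (2 ^ j) = z := by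
    intro j z
    have := map_intCast (iterateFrobenius F 2 j) z
    rwa [iterateFrobenius_def] at this
  refine ⟨by exact_mod_cast CharP.cast_eq_zero F 2, fun a b => add_pow_char_pow a b 2 m,
    fun a b => by rw [e]; exact add_pow_char_pow a b 2 (m + 1), hz m, by rw [e]; exact hz (m + 1),
    fun a => ?_, fun a => CharTwo.neg_eq a⟩
  rw [show 2 * 2 ^ m * 2 ^ m = 2 ^ (2 * m + 1) by rw [pow_succ, two_mul m, pow_add]; ring, ← hK]
  exact FiniteField.pow_card a

/-- The frame. -/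
theorem frame (K : Rels chevF4 F) (hC : CommFormula chevF4 F)
    (heta : ∀ i r, i < chevF4.rank → r < chevF4.nroots → K.eta i r = (ChevIsogeny.F4.eta i r : F))
    (hK : Fintype.card F = 2 ^ (2 * m + 1)) : Frame (T := MT) K PP (2 ^ m) fd := by
  obtain ⟨h2, ha1, ha2, hz1, hz2, -, -⟩ := pow_facts hK
  have hlam : ∀ r, r < chevF4.nroots →
      ChevIsogeny.IsoData.lf PP r = 1 ∨ ChevIsogeny.IsoData.lf PP r = 2 := by
    have : ((List.range chevF4.nroots).all fun r => decide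
        (ChevIsogeny.IsoData.lf PP r = 1 ∨ ChevIsogeny.IsoData.lf PP r = 2)) = true := by decide +kernel
    simp only [List.all_eq_true, decide_eq_true_eq, List.mem_range] at this
    exact this
  exact ⟨⟨hC, ChevIsogeny.F4.base, ChevIsogeny.F4.pairing, ChevIsogeny.F4.simple,
    ChevIsogeny.F4.collect, by simpa [ChevIsogeny.F4.iso] using h2,
    fun r hr a b => by
      rcases hlam r hr with h | h <;> rw [h]
      · rw [one_mul]; exact ha1 a b
      · exact ha2 a b,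
    fun r hr z => by
      rcases hlam r hr with h | h <;> rw [h]
      · rw [one_mul]; exact hz1 z
      · exact hz2 z,
    ⟨_, ChevIsogeny.F4.sign, heta⟩⟩, ok⟩

/-- two parameters along a list of two roots starting at `r₀` -/
def two (r₀ : Fin MT.tab.n) (a b : F) (r : Fin MT.tab.n) : F := if r = r₀ then a else b

variable {K : Rels chevF4 F}

variable (K) in
/-- `x_a(s) x_b(t) x_{a+b}(c) x_{2a+b}(d)` -/
def form (s t c d : F) : ↥(chevF4.group F) :=
  (MT.rel K).x 27 s * (MT.rel K).x 25 t * prodX MT K [28, 30] (two 28 c d)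

variable (K) in
/-- the element of the pair word -/
def pairW (m : ℕ) (t : F) : ↥(chevF4.group F) := prodX MT K [33, 24] (two 33 (t ^ 2 ^ m) t)

variable (K) in
/-- the element of the negative pair word -/
def pairW' (m : ℕ) (t : F) : ↥(chevF4.group F) := prodX MT K [14, 23] (two 14 (t ^ 2 ^ m) t)

variable (K) in
/-- the element of the class word -/
def clsW (m : ℕ) (t u : F) : ↥(chevF4.group F) :=
  form K (t ^ 2 ^ m) t (t ^ (2 ^ m + 1) + u) (u ^ (2 * 2 ^ m))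

variable (K) in
/-- the element of the negative class word -/
def clsW' (m : ℕ) (t u : F) : ↥(chevF4.group F) :=
  (MT.rel K).x 20 (t ^ 2 ^ m) * (MT.rel K).x 22 t *
    prodX MT K [19, 17] (two 19 (t ^ (2 ^ m + 1) + u) (u ^ (2 * 2 ^ m)))

variable (Z : Frame (T := MT) K PP (2 ^ m) fd)

set_option quotPrecheck false in
local notation "G₁" => genG MT K (f4Words F (2 ^ m))

include Z

theorem lam_ef (r : Fin MT.tab.n) :
    IsoHyp.lam PP (2 ^ m) r.val = (if IsoData.lf PP r.val = 2 then 2 * 2 ^ m else 2 ^ m) ∧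
      (PP.ef r.val : F) = 1 := by
  have h : ∀ r : Fin MT.tab.n, (IsoData.lf PP r.val = 1 ∨ IsoData.lf PP r.val = 2) ∧ PP.ef r.val = 1 := by
    decide +kernel
  refine ⟨?_, by rw [(h r).2, Int.cast_one]⟩
  rcases (h r).1 with e | e <;> simp [IsoHyp.lam, e]

theorem lam_val :
    (∀ r ∈ ([33, 14, 27, 20, 28, 19] : List (Fin MT.tab.n)), IsoHyp.lam PP (2 ^ m) r.val = 2 * 2 ^ m) ∧
    (∀ r ∈ ([24, 23, 25, 22, 30, 17] : List (Fin MT.tab.n)), IsoHyp.lam PP (2 ^ m) r.val = 2 ^ m) := by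
  have h : (∀ r ∈ ([33, 14, 27, 20, 28, 19] : List (Fin MT.tab.n)), IsoData.lf PP r.val = 2) ∧
      (∀ r ∈ ([24, 23, 25, 22, 30, 17] : List (Fin MT.tab.n)), IsoData.lf PP r.val = 1) := by
    decide +kernel
  exact ⟨fun r hr => by simp [IsoHyp.lam, h.1 r hr], fun r hr => by simp [IsoHyp.lam, h.2 r hr]⟩

theorem list_ok (L) (h : L ∈ lists) : commListB PP fd L = true :=
  List.all_eq_true.1 lists_ok L h

theorem σ_pair {r s : Fin MT.tab.n} (hL : [r, s] ∈ lists) (hne : s ≠ r) (hr : fd.O.rho r = s)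
    (hs : fd.O.rho s = r) (h1 : IsoHyp.lam PP (2 ^ m) r.val = 2 * 2 ^ m)
    (h2 : IsoHyp.lam PP (2 ^ m) s.val = 2 ^ m) (a b : F) :
    Z.σ (prodX MT K [r, s] (two r a b)) =
      prodX MT K [r, s] (two r (b ^ 2 ^ m) (a ^ (2 * 2 ^ m))) := by
  refine Z.σ_prodX (list_ok Z _ hL) _ _ fun u hu => ?_
  rw [(lam_ef Z u).2, one_mul]
  simp only [List.mem_cons, List.not_mem_nil, or_false] at hu
  rcases hu with rfl | rfl
  · rw [h1, hr]; simp [two, hne]
  · rw [h2, hs]; simp [two, hne]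

theorem σ_N (a b : F) : Z.σ (prodX MT K [28, 30] (two 28 a b)) =
    prodX MT K [28, 30] (two 28 (b ^ 2 ^ m) (a ^ (2 * 2 ^ m))) :=
  σ_pair Z (by decide) (by decide) (Fin.ext rfl) (Fin.ext rfl) ((lam_val Z).1 _ (by decide))
    ((lam_val Z).2 _ (by decide)) a b

theorem σ_N' (a b : F) : Z.σ (prodX MT K [19, 17] (two 19 a b)) =
    prodX MT K [19, 17] (two 19 (b ^ 2 ^ m) (a ^ (2 * 2 ^ m))) :=
  σ_pair Z (by decide) (by decide) (Fin.ext rfl) (Fin.ext rfl) ((lam_val Z).1 _ (by decide))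
    ((lam_val Z).2 _ (by decide)) a b

theorem N_mul {r s : Fin MT.tab.n} (hL : [r, s] ∈ lists) (hne : s ≠ r) (a b a' b' : F) :
    prodX MT K [r, s] (two r a b) * prodX MT K [r, s] (two r a' b') =
      prodX MT K [r, s] (two r (a + a') (b + b')) := by
  rw [Z.prodX_mul (fun _ hr _ hs => Z.commList_commute (list_ok Z _ hL) hr hs)]
  refine Z.prodX_congr fun u hu => ?_
  simp only [Pi.add_apply, two]
  split_ifs <;> rfl

theorem neg_eq (hK : Fintype.card F = 2 ^ (2 * m + 1)) (a : F) : -a = a := (pow_facts hK).2.2.2.2.2.2 a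

theorem swap (hK : Fintype.card F = 2 ^ (2 * m + 1)) (s t : F) :
    (MT.rel K).x 25 t * (MT.rel K).x 27 s = form K s t (s * t) (s ^ 2 * t) := by
  apply Model.mat_inj
  have h := Z.iso.comm 27 25 (by decide) (by decide) (by decide) (by decide +kernel) s t
  have ec : chevF4.commTerms 27 25 = [(28, -1, 1, 1), (30, -1, 2, 1)] := by decide +kernel
  have e1 : ∀ (r : Fin MT.tab.n) (a : F), Model.mat ((MT.rel K).x r a) = chevF4.x F r.val a := fun r a =>
    MT.mat_xG K r a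
  have n28 : two (28 : Fin MT.tab.n) (s * t) (s ^ 2 * t) 28 = s * t := rfl
  have n30 : two (28 : Fin MT.tab.n) (s * t) (s ^ 2 * t) 30 = s ^ 2 * t := rfl
  simp only [form, prodX, List.map_cons, List.map_nil, List.prod_cons, List.prod_nil,
    Model.mat_mul, e1, n28, n30]
  rw [show (25 : Fin MT.tab.n).val = 25 from rfl, show (27 : Fin MT.tab.n).val = 27 from rfl,
    show (28 : Fin MT.tab.n).val = 28 from rfl, show (30 : Fin MT.tab.n).val = 30 from rfl, h]
  simp [ChevalleyDatum.commWord, ec, ChevalleyDatum.wordMat, Model.mat, neg_eq Z hK]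

theorem swap' (hK : Fintype.card F = 2 ^ (2 * m + 1)) (s t : F) :
    (MT.rel K).x 22 t * (MT.rel K).x 20 s = (MT.rel K).x 20 s * (MT.rel K).x 22 t *
      prodX MT K [19, 17] (two 19 (s * t) (s ^ 2 * t)) := by
  apply Model.mat_inj
  have h := Z.iso.comm 20 22 (by decide) (by decide) (by decide) (by decide +kernel) s t
  have ec : chevF4.commTerms 20 22 = [(19, 1, 1, 1), (17, -1, 2, 1)] := by decide +kernel
  have e1 : ∀ (r : Fin MT.tab.n) (a : F), Model.mat ((MT.rel K).x r a) = chevF4.x F r.val a := fun r a =>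
    MT.mat_xG K r a
  have n19 : two (19 : Fin MT.tab.n) (s * t) (s ^ 2 * t) 19 = s * t := rfl
  have n17 : two (19 : Fin MT.tab.n) (s * t) (s ^ 2 * t) 17 = s ^ 2 * t := rfl
  simp only [prodX, List.map_cons, List.map_nil, List.prod_cons, List.prod_nil,
    Model.mat_mul, e1, n19, n17]
  rw [show (22 : Fin MT.tab.n).val = 22 from rfl, show (20 : Fin MT.tab.n).val = 20 from rfl,
    show (19 : Fin MT.tab.n).val = 19 from rfl, show (17 : Fin MT.tab.n).val = 17 from rfl, h]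
  simp [ChevalleyDatum.commWord, ec, ChevalleyDatum.wordMat, Model.mat, neg_eq Z hK]

theorem σ_x' (r : Fin MT.tab.n) (t : F) :
    Z.σ ((MT.rel K).x r t) = (MT.rel K).x (fd.O.rho r) (t ^ IsoHyp.lam PP (2 ^ m) r.val) := by
  rw [Z.σ_x, (lam_ef Z r).2, one_mul]

theorem σ_form (hK : Fintype.card F = 2 ^ (2 * m + 1)) (s t c d : F) :
    Z.σ (form K s t c d) = form K (t ^ 2 ^ m) (s ^ (2 * 2 ^ m))
      (t ^ 2 ^ m * s ^ (2 * 2 ^ m) + d ^ 2 ^ m) ((t ^ 2 ^ m) ^ 2 * s ^ (2 * 2 ^ m) + c ^ (2 * 2 ^ m)) := by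
  conv_lhs => rw [form, map_mul, map_mul, σ_N Z, σ_x' Z, σ_x' Z, (lam_val Z).1 27 (by decide),
    (lam_val Z).2 25 (by decide), show fd.O.rho (27 : Fin MT.tab.n) = 25 from Fin.ext rfl,
    show fd.O.rho (25 : Fin MT.tab.n) = 27 from Fin.ext rfl]
  rw [swap Z hK, form, form, mul_assoc, N_mul Z (by decide) (by decide)]

theorem wv_pairW (t : F) : wv MT K (f4PairWord (2 ^ m) f4p1 f4p4 t) = pairW K m t ∧
    wv MT K (f4PairWord (2 ^ m) f4m1 f4m4 t) = pairW' K m t := by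
  constructor
  · rw [show f4PairWord (2 ^ m) f4p1 f4p4 t = [((33 : Fin MT.tab.n).val, t ^ 2 ^ m),
      ((24 : Fin MT.tab.n).val, t)] from rfl, Z.wv_cons, Z.wv_cons]
    simp [wv, pairW, prodX, two]
  · rw [show f4PairWord (2 ^ m) f4m1 f4m4 t = [((14 : Fin MT.tab.n).val, t ^ 2 ^ m),
      ((23 : Fin MT.tab.n).val, t)] from rfl, Z.wv_cons, Z.wv_cons]
    simp [wv, pairW', prodX, two]

theorem wv_clsW (t u : F) :
    wv MT K (b2ClassWord (2 ^ m) f4a f4b f4ab f4aab t u) = clsW K m t u ∧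
    wv MT K (b2ClassWord (2 ^ m) f4ma f4mb f4mab f4maab t u) = clsW' K m t u := by
  constructor
  · rw [show b2ClassWord (2 ^ m) f4a f4b f4ab f4aab t u = [((27 : Fin MT.tab.n).val, t ^ 2 ^ m),
      ((25 : Fin MT.tab.n).val, t), ((28 : Fin MT.tab.n).val, t ^ (2 ^ m + 1) + u),
      ((30 : Fin MT.tab.n).val, u ^ (2 * 2 ^ m))] from rfl, Z.wv_cons, Z.wv_cons, Z.wv_cons, Z.wv_cons]
    simp [wv, clsW, form, prodX, two, mul_assoc]
  · rw [show b2ClassWord (2 ^ m) f4ma f4mb f4mab f4maab t u = [((20 : Fin MT.tab.n).val, t ^ 2 ^ m),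
      ((22 : Fin MT.tab.n).val, t), ((19 : Fin MT.tab.n).val, t ^ (2 ^ m + 1) + u),
      ((17 : Fin MT.tab.n).val, u ^ (2 * 2 ^ m))] from rfl, Z.wv_cons, Z.wv_cons, Z.wv_cons, Z.wv_cons]
    simp [wv, clsW', prodX, two, mul_assoc]

theorem pairW_mem (t : F) : pairW K m t ∈ G₁ ∧ pairW' K m t ∈ G₁ :=
  ⟨(wv_pairW Z t).1 ▸ wv_mem (Or.inl ⟨t, Or.inl rfl⟩), (wv_pairW Z t).2 ▸ wv_mem (Or.inl ⟨t, Or.inr rfl⟩)⟩

theorem clsW_mem (t u : F) : clsW K m t u ∈ G₁ ∧ clsW' K m t u ∈ G₁ :=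
  ⟨(wv_clsW Z t u).1 ▸ wv_mem (Or.inr ⟨t, u, Or.inl rfl⟩),
    (wv_clsW Z t u).2 ▸ wv_mem (Or.inr ⟨t, u, Or.inr rfl⟩)⟩

theorem fixed_gen (hK : Fintype.card F = 2 ^ (2 * m + 1)) : ∀ g ∈ G₁, Z.σ g = g := by
  obtain ⟨h20, ha1, ha2, -, -, hper, hneg⟩ := pow_facts hK
  have hi : ∀ z : F, (z ^ 2 ^ m) ^ (2 * 2 ^ m) = z := fun z => by
    rw [← pow_mul, mul_comm]; exact hper z
  have hi' : ∀ z : F, (z ^ (2 * 2 ^ m)) ^ 2 ^ m = z := fun z => by rw [← pow_mul]; exact hper z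
  have key : ∀ t u : F, t ^ 2 ^ m * t + (u ^ (2 * 2 ^ m)) ^ 2 ^ m = t ^ (2 ^ m + 1) + u ∧
      (t ^ 2 ^ m) ^ 2 * t + (t ^ (2 ^ m + 1) + u) ^ (2 * 2 ^ m) = u ^ (2 * 2 ^ m) := by
    intro t u
    refine ⟨by rw [hi', pow_succ], ?_⟩
    have h : ((t ^ 2 ^ m) * t) ^ (2 * 2 ^ m) = (t ^ 2 ^ m) ^ 2 * t := by
      rw [mul_pow, hi, ← pow_mul, mul_comm 2, mul_comm t]
    rw [pow_succ t, ha2, h, ← add_assoc, ← two_mul, h20, zero_mul, zero_add]
  refine Z.σ_fixed fun w hw => ?_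
  rcases hw with ⟨t, rfl | rfl⟩ | ⟨t, u, rfl | rfl⟩
  · rw [(wv_pairW Z t).1, pairW, σ_pair Z (r := 33) (s := 24) (by decide) (by decide) (Fin.ext rfl)
      (Fin.ext rfl) ((lam_val Z).1 _ (by decide)) ((lam_val Z).2 _ (by decide)), hi]
  · rw [(wv_pairW Z t).2, pairW', σ_pair Z (r := 14) (s := 23) (by decide) (by decide) (Fin.ext rfl)
      (Fin.ext rfl) ((lam_val Z).1 _ (by decide)) ((lam_val Z).2 _ (by decide)), hi]
  · rw [(wv_clsW Z t u).1, clsW, σ_form Z hK, hi, (key t u).1, (key t u).2]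
  · rw [(wv_clsW Z t u).2]
    conv_lhs => rw [clsW', map_mul, map_mul, σ_N' Z, σ_x' Z, σ_x' Z, (lam_val Z).1 20 (by decide),
      (lam_val Z).2 22 (by decide), show fd.O.rho (20 : Fin MT.tab.n) = 22 from Fin.ext rfl,
      show fd.O.rho (22 : Fin MT.tab.n) = 20 from Fin.ext rfl, hi]
    rw [swap' Z hK, mul_assoc _ (prodX MT K [19, 17] _), N_mul Z (by decide) (by decide), (key t u).1,
      (key t u).2, clsW']

theorem central_comm {r : Fin MT.tab.n} (hr : r ∈ ([27, 25] : List (Fin MT.tab.n))) (a c d : F) :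
    Commute ((MT.rel K).x r a) (prodX MT K [28, 30] (two 28 c d)) :=
  Commute.list_prod_right _ _ fun y hy => by
    obtain ⟨s, hs, rfl⟩ := List.mem_map.1 hy
    exact Z.commute_x (central_ok r hr s hs) _ _

theorem form_mul (hK : Fintype.card F = 2 ^ (2 * m + 1)) (s t c d s' t' c' d' : F) :
    form K s t c d * form K s' t' c' d' =
      form K (s + s') (t + t') (s' * t + c + c') (s' ^ 2 * t + d + d') := by
  have h1 := (central_comm Z (r := 27) (by simp) s' c d).eq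
  have h2 := fun c d => (central_comm Z (r := 25) (by simp) t' c d).eq
  calc form K s t c d * form K s' t' c' d'
      = (MT.rel K).x 27 s * (MT.rel K).x 25 t * (prodX MT K [28, 30] (two 28 c d) * (MT.rel K).x 27 s') *
          (MT.rel K).x 25 t' * prodX MT K [28, 30] (two 28 c' d') := by simp only [form, mul_assoc]
    _ = (MT.rel K).x 27 s * ((MT.rel K).x 25 t * (MT.rel K).x 27 s') *
          (prodX MT K [28, 30] (two 28 c d) * (MT.rel K).x 25 t') * prodX MT K [28, 30] (two 28 c' d') := by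
        rw [← h1]; simp only [mul_assoc]
    _ = ((MT.rel K).x 27 s * (MT.rel K).x 27 s') * (MT.rel K).x 25 t *
          (prodX MT K [28, 30] (two 28 (s' * t) (s' ^ 2 * t)) * prodX MT K [28, 30] (two 28 c d) *
            (MT.rel K).x 25 t') * prodX MT K [28, 30] (two 28 c' d') := by
        rw [swap Z hK, form]; simp only [mul_assoc]
    _ = ((MT.rel K).x 27 s * (MT.rel K).x 27 s') * ((MT.rel K).x 25 t * (MT.rel K).x 25 t') *
          (prodX MT K [28, 30] (two 28 (s' * t + c) (s' ^ 2 * t + d)) *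
            prodX MT K [28, 30] (two 28 c' d')) := by
        rw [N_mul Z (by decide) (by decide), ← h2]; simp only [mul_assoc]
    _ = _ := by rw [N_mul Z (by decide) (by decide), ← (MT.rel K).x_add, ← (MT.rel K).x_add, form]

theorem exists_form (hK : Fintype.card F = 2 ^ (2 * m + 1)) {g : ↥(chevF4.group F)}
    (hg : g ∈ Sg (MT.rel K) (· ∈ fd.O.cls 1)) : ∃ s t c d, g = form K s t c d := by
  have h0 : prodX MT K [28, 30] (two 28 (0 : F) 0) = 1 := by
    simp [prodX, two, (MT.rel K).x_zero]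
  have hgen : ∀ r : Fin MT.tab.n, r ∈ fd.O.cls 1 → ∀ a : F, ∃ s t c d, (MT.rel K).x r a = form K s t c d := by
    intro r hr a
    rw [show fd.O.cls 1 = [27, 25, 28, 30] from rfl] at hr
    simp only [List.mem_cons, List.not_mem_nil, or_false] at hr
    rcases hr with rfl | rfl | rfl | rfl
    · exact ⟨a, 0, 0, 0, by rw [form, h0, (MT.rel K).x_zero, mul_one, mul_one]⟩
    · exact ⟨0, a, 0, 0, by rw [form, h0, (MT.rel K).x_zero, one_mul, mul_one]⟩
    · exact ⟨0, 0, a, 0, by simp [form, prodX, two, (MT.rel K).x_zero]⟩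
    · exact ⟨0, 0, 0, a, by simp [form, prodX, two, (MT.rel K).x_zero]⟩
  induction hg using Subgroup.closure_induction'' with
  | mem y hy => obtain ⟨r, a, hr, rfl⟩ := hy; exact hgen r hr a
  | inv_mem y hy => obtain ⟨r, a, hr, rfl⟩ := hy; rw [← (MT.rel K).x_neg]; exact hgen r hr (-a)
  | one => exact ⟨0, 0, 0, 0, by rw [form, h0, (MT.rel K).x_zero, (MT.rel K).x_zero, mul_one, mul_one]⟩
  | mul a b _ _ ha hb =>
    obtain ⟨s, t, c, d, rfl⟩ := ha
    obtain ⟨s', t', c', d', rfl⟩ := hb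
    exact ⟨_, _, _, _, form_mul Z hK s t c d s' t' c' d'⟩

theorem form_inj (hK : Fintype.card F = 2 ^ (2 * m + 1)) {s t c d s' t' c' d' : F}
    (h : form K s t c d = form K s' t' c' d') : s = s' ∧ t = t' ∧ c = c' ∧ d = d' := by
  have key : ∀ s t c d : F, form K s t c d = prodX MT K [25, 27, 28, 30]
      (fun r => if r = 25 then t else if r = 27 then s else two 28 (c - s * t) (d - s ^ 2 * t) r) := by
    intro s t c d
    have e : form K s t c d = (MT.rel K).x 25 t * ((MT.rel K).x 27 s *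
        prodX MT K [28, 30] (two 28 (c - s * t) (d - s ^ 2 * t))) := by
      rw [← mul_assoc, swap Z hK, form, form, mul_assoc _ (prodX MT K [28, 30] _),
        N_mul Z (by decide) (by decide), add_sub_cancel, add_sub_cancel]
    rw [e]
    simp only [prodX, List.map_cons, List.map_nil, List.prod_cons, List.prod_nil]
    rfl
  rw [key, key] at h
  have h' := Z.prodX_inj (L := [25, 27, 28, 30]) (by decide +kernel) h
  have ht : t = t' := h' 25 (by simp)
  have hs : s = s' := h' 27 (by simp)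
  subst ht hs
  exact ⟨rfl, rfl, sub_left_injective (h' 28 (by simp) :), sub_left_injective (h' 30 (by simp) :)⟩

theorem cls0 {g : ↥(chevF4.group F)}
    (hg : g ∈ Sg (MT.rel K) (· ∈ fd.O.cls 0)) (hfix : Z.σ g = g) : ∃ t, g = pairW K m t := by
  have hg' : g ∈ Sg (MT.rel K) (· ∈ ([24, 33] : List (Fin MT.tab.n))) :=
    Sg_mono _ (fun r hr => by
      rw [show fd.O.cls 0 = [33, 24] from rfl] at hr
      simp only [List.mem_cons, List.not_mem_nil, or_false] at hr ⊢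
      tauto) hg
  obtain ⟨v, rfl, hv⟩ := Z.fixed_commuting (L := [24, 33]) (list_ok Z _ (by decide))
    (by decide +kernel) hg' hfix
  refine ⟨v 24, ?_⟩
  rw [pairW, Z.prodX_perm (L := [24, 33]) (L' := [33, 24]) (by decide) (list_ok Z _ (by decide))]
  have h24 := hv 24 (by simp)
  rw [(lam_ef Z 24).2, one_mul, (lam_val Z).2 24 (by decide),
    show fd.O.rho (24 : Fin MT.tab.n) = 33 from Fin.ext rfl] at h24
  refine Z.prodX_congr fun r hr => ?_
  simp only [List.mem_cons, List.not_mem_nil, or_false] at hr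
  rcases hr with rfl | rfl
  · rw [h24]; simp [two]
  · simp [two]

theorem cls1 (hK : Fintype.card F = 2 ^ (2 * m + 1)) {g : ↥(chevF4.group F)}
    (hg : g ∈ Sg (MT.rel K) (· ∈ fd.O.cls 1)) (hfix : Z.σ g = g) : ∃ t u, g = clsW K m t u := by
  obtain ⟨-, -, -, -, -, hper, -⟩ := pow_facts hK
  obtain ⟨s, t, c, d, rfl⟩ := exists_form Z hK hg
  rw [σ_form Z hK] at hfix
  obtain ⟨hs, ht, hc, -⟩ := form_inj Z hK hfix
  refine ⟨t, d ^ 2 ^ m, ?_⟩
  rw [clsW, hs, show (d ^ 2 ^ m) ^ (2 * 2 ^ m) = d by rw [← pow_mul, mul_comm]; exact hper d]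
  congr 1
  rw [← hc, ht, pow_succ]

theorem og1_eq (hK : Fintype.card F = 2 ^ (2 * m + 1)) (u : F) :
    prodX MT K [28, 30] (two 28 u (u ^ (2 * 2 ^ m))) = clsW K m 0 u ∧
    prodX MT K [19, 17] (two 19 u (u ^ (2 * 2 ^ m))) = clsW' K m 0 u := by
  have h0 : (0 : F) ^ 2 ^ m = 0 := zero_pow (pow_ne_zero _ (by norm_num))
  have h1 : (0 : F) ^ (2 ^ m + 1) = 0 := zero_pow (Nat.succ_ne_zero _)
  exact ⟨by simp [clsW, form, h0, h1, (MT.rel K).x_zero],
    by simp [clsW', h0, h1, (MT.rel K).x_zero]⟩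

omit Z in
/-- The representatives of the longest elements of the orbits. -/
def nj (Z : Frame (T := MT) K PP (2 ^ m) fd) (k : Fin 2) : ↥(chevF4.group F) :=
  if k = 0 then Z.nJ k else Z.og k 1 * Z.ogn k (-1) * Z.og k 1 * Z.ogn k (-1) * Z.og k 1

theorem og_mem (hK : Fintype.card F = 2 ^ (2 * m + 1)) (k : Fin 2) :
    Z.og k 1 ∈ G₁ ∧ Z.ogn k (-1) ∈ G₁ := by
  obtain ⟨-, -, -, -, -, -, hneg⟩ := pow_facts hK
  have e1 : (MT.S).neg (24 : Fin MT.tab.n) = 23 := Fin.ext rfl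
  have e2 : (MT.S).neg (33 : Fin MT.tab.n) = 14 := Fin.ext rfl
  have e3 : (MT.S).neg (28 : Fin MT.tab.n) = 19 := Fin.ext rfl
  have e4 : (MT.S).neg (30 : Fin MT.tab.n) = 17 := Fin.ext rfl
  match k with
  | 0 =>
    refine ⟨?_, ?_⟩
    · have := (pairW_mem Z (1 : F)).1
      rw [pairW, Z.prodX_perm (L' := [24, 33]) (List.Perm.swap 24 33 []) (list_ok Z _ (by decide))] at this
      rw [show Z.og 0 1 = (MT.rel K).x 24 1 * ((MT.rel K).x 33 1 * 1) from rfl]
      simpa [prodX, two] using this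
    · have := (pairW_mem Z (1 : F)).2
      rw [pairW', Z.prodX_perm (L' := [23, 14]) (List.Perm.swap 23 14 []) (list_ok Z _ (by decide))] at this
      rw [show Z.ogn 0 (-1) = (MT.rel K).x ((MT.S).neg 24) (-1) * ((MT.rel K).x ((MT.S).neg 33) (-1) * 1)
        from rfl, e1, e2, hneg]
      simpa [prodX, two] using this
  | 1 =>
    obtain ⟨o1, o2⟩ := og1_eq Z hK (1 : F)
    obtain ⟨m1, m2⟩ := clsW_mem Z (0 : F) 1
    rw [← o1] at m1
    rw [← o2] at m2
    refine ⟨?_, ?_⟩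
    · rw [show Z.og 1 1 = (MT.rel K).x 28 1 * ((MT.rel K).x 30 1 * 1) from rfl]
      simpa [prodX, two] using m1
    · rw [show Z.ogn 1 (-1) = (MT.rel K).x ((MT.S).neg 28) (-1) * ((MT.rel K).x ((MT.S).neg 30) (-1) * 1)
        from rfl, e3, e4, hneg]
      simpa [prodX, two] using m2

theorem nj_mem (hK : Fintype.card F = 2 ^ (2 * m + 1)) (k : Fin 2) : nj Z k ∈ G₁ := by
  obtain ⟨a, b⟩ := og_mem Z hK k
  unfold nj
  split_ifs
  · exact mul_mem (mul_mem a b) a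
  · exact mul_mem (mul_mem (mul_mem (mul_mem a b) a) b) a

theorem nj_coset (hK : Fintype.card F = 2 ^ (2 * m + 1)) (k : Fin 2) :
    InCoset (MT.rel K) (nj Z k) (fd.O.wd k) := by
  match k with
  | 0 =>
    rw [nj, if_pos rfl]
    exact Z.nJ_coset 0 refl0_ok
  | 1 =>
    obtain ⟨h20, -, -, -, -, -, hneg⟩ := pow_facts hK
    have key := wordMat_eq_of_check ChevCore.goodF4 ChevCore.chkLinkF4 nJ_word F (by exact_mod_cast h20)
    simp only [List.map_cons, List.map_nil, Int.cast_one] at key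
    refine ⟨1, one_mem _, ?_⟩
    rw [one_mul, nj, if_neg (by decide)]
    apply Model.mat_inj
    have e1 : ∀ (r : Fin MT.tab.n) (a : F), Model.mat ((MT.rel K).x r a) = chevF4.x F r.val a :=
      fun r a => MT.mat_xG K r a
    rw [show (MT.rel K).nw (fd.O.wd 1) = (MT.rel K).n 1 * ((MT.rel K).n 2 * ((MT.rel K).n 1 * ((MT.rel K).n 2 * 1)))
      from rfl]
    simp only [RootRel.n, RootRel.nr, nOf, inv_one, hneg]
    rw [show Z.og 1 1 = (MT.rel K).x 28 1 * ((MT.rel K).x 30 1 * 1) from rfl,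
      show Z.ogn 1 1 = (MT.rel K).x ((MT.S).neg 28) 1 * ((MT.rel K).x ((MT.S).neg 30) 1 * 1) from rfl]
    simp only [Model.mat_mul, e1, mul_one]
    rw [show ((MT.S).neg (28 : Fin MT.tab.n)).val = 19 from rfl,
      show ((MT.S).neg (30 : Fin MT.tab.n)).val = 17 from rfl,
      show ((MT.S).simple 1).val = 27 from rfl, show ((MT.S).simple 2).val = 25 from rfl,
      show ((MT.S).neg ((MT.S).simple 1)).val = 20 from rfl,
      show ((MT.S).neg ((MT.S).simple 2)).val = 22 from rfl,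
      show (28 : Fin MT.tab.n).val = 28 from rfl, show (30 : Fin MT.tab.n).val = 30 from rfl]
    simp only [ChevalleyDatum.wordMat, List.map_cons, List.map_nil, List.prod_cons, List.prod_nil,
      mul_one] at key
    simp only [mul_assoc] at key ⊢
    exact key

omit Z in
/-- the inverse of the permutation of the fundamental roots -/
def pre (j : Fin MT.tab.l) : Fin MT.tab.l := ([3, 2, 1, 0] : List (Fin 4)).getD j.val 0

theorem pre_eq (j : Fin MT.tab.l) : Z.iso.ρIF (pre j) = j := by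
  match j with
  | 0 => exact Fin.ext rfl
  | 1 => exact Fin.ext rfl
  | 2 => exact Fin.ext rfl
  | 3 => exact Fin.ext rfl

theorem sig_apply (c : Fin MT.tab.l → Fˣ) :
    Z.sig pre c 0 = c 3 ^ 2 ^ m ∧ Z.sig pre c 1 = c 2 ^ 2 ^ m ∧ Z.sig pre c 2 = c 1 ^ (2 * 2 ^ m) ∧
      Z.sig pre c 3 = c 0 ^ (2 * 2 ^ m) := by
  refine ⟨?_, ?_, ?_, ?_⟩
  · show c 3 ^ IsoHyp.lam PP (2 ^ m) ((MT.S).simple 3).val = _
    rw [(lam_val Z).2 _ (by decide +kernel)]
  · show c 2 ^ IsoHyp.lam PP (2 ^ m) ((MT.S).simple 2).val = _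
    rw [(lam_val Z).2 _ (by decide +kernel)]
  · show c 1 ^ IsoHyp.lam PP (2 ^ m) ((MT.S).simple 1).val = _
    rw [(lam_val Z).1 _ (by decide +kernel)]
  · show c 0 ^ IsoHyp.lam PP (2 ^ m) ((MT.S).simple 0).val = _
    rw [(lam_val Z).1 _ (by decide +kernel)]

theorem hper_units (hK : Fintype.card F = 2 ^ (2 * m + 1)) (z : Fˣ) :
    (z ^ 2 ^ m) ^ (2 * 2 ^ m) = z ∧ (z ^ (2 * 2 ^ m)) ^ 2 ^ m = z := by
  obtain ⟨-, -, -, -, -, hper, -⟩ := pow_facts hK
  exact ⟨Units.ext (by rw [← pow_mul, mul_comm, Units.val_pow_eq_pow_val]; exact hper _),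
    Units.ext (by rw [← pow_mul, Units.val_pow_eq_pow_val]; exact hper _)⟩

theorem per (hK : Fintype.card F = 2 ^ (2 * m + 1)) (c : Fin MT.tab.l → Fˣ) :
    (⇑(Z.sig pre))^[2] c = c := by
  funext j
  simp only [Function.iterate_succ_apply', Function.iterate_zero_apply]
  obtain ⟨a0, a1, a2, a3⟩ := sig_apply Z (Z.sig pre c)
  obtain ⟨b0, b1, b2, b3⟩ := sig_apply Z c
  match j with
  | 0 => rw [a0, b3]; exact (hper_units Z hK _).2
  | 1 => rw [a1, b2]; exact (hper_units Z hK _).2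
  | 2 => rw [a2, b1]; exact (hper_units Z hK _).1
  | 3 => rw [a3, b0]; exact (hper_units Z hK _).1

omit Z in
/-- parameters with `c 3 = y` and `c 2 = z` -/
def cvec (m : ℕ) (y z : Fˣ) (j : Fin MT.tab.l) : Fˣ := [y ^ 2 ^ m, z ^ 2 ^ m, z, y].getD j.val 1

theorem cvec_val (y z : Fˣ) : cvec m y z 0 = y ^ 2 ^ m ∧ cvec m y z 1 = z ^ 2 ^ m ∧ cvec m y z 2 = z ∧
    cvec m y z 3 = y :=
  ⟨rfl, rfl, rfl, rfl⟩

theorem fixed_eq_cvec {c : Fin MT.tab.l → Fˣ} (hc : Z.sig pre c = c) : c = cvec m (c 3) (c 2) := by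
  funext j
  obtain ⟨b0, b1, -, -⟩ := sig_apply Z c
  match j with
  | 0 => exact ((congrFun hc 0).symm.trans b0)
  | 1 => exact ((congrFun hc 1).symm.trans b1)
  | 2 => rfl
  | 3 => rfl

theorem sig_cvec (hK : Fintype.card F = 2 ^ (2 * m + 1)) (y z : Fˣ) :
    Z.sig pre (cvec m y z) = cvec m y z := by
  funext j
  obtain ⟨b0, b1, b2, b3⟩ := sig_apply Z (cvec m y z)
  obtain ⟨e0, e1, e2, e3⟩ := cvec_val Z y z
  match j with
  | 0 => rw [b0, e3, e0]
  | 1 => rw [b1, e2, e1]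
  | 2 => rw [b2, e1, e2]; exact (hper_units Z hK _).1
  | 3 => rw [b3, e0, e3]; exact (hper_units Z hK _).1

theorem cvec_mul (y z : Fˣ) : cvec m y z = cvec m y 1 * cvec m 1 z := by
  funext j
  match j with
  | 0 => show y ^ 2 ^ m = y ^ 2 ^ m * 1 ^ 2 ^ m; rw [one_pow, mul_one]
  | 1 => show z ^ 2 ^ m = 1 ^ 2 ^ m * z ^ 2 ^ m; rw [one_pow, one_mul]
  | 2 => exact (one_mul z).symm
  | 3 => exact (mul_one y).symm

theorem torus0 (hK : Fintype.card F = 2 ^ (2 * m + 1)) (y : Fˣ) : tor MT K (cvec m y 1) ∈ G₁ := by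
  obtain ⟨-, -, -, -, -, -, hneg⟩ := pow_facts hK
  have e1 : (MT.S).neg (33 : Fin MT.tab.n) = 14 := Fin.ext rfl
  have e2 : (MT.S).neg (24 : Fin MT.tab.n) = 23 := Fin.ext rfl
  have hn : ∀ w : F, ((([33, 24] : List (Fin MT.tab.n)).map fun r =>
      (MT.rel K).nr r (two 33 (w ^ 2 ^ m) w r))).prod ∈ G₁ := by
    intro w
    refine Z.nprod_mem pair_ok (two 33 (w ^ 2 ^ m) w) (pairW_mem Z w).1 ?_
    have := (pairW_mem Z w⁻¹).2
    simpa [pairW', prodX, two, e1, e2, hneg, inv_pow] using this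
  have h := Z.hprod_mem pair_ok (two 33 ((y : F) ^ 2 ^ m) (y : F)) (hn _) (by
    have := hn 1
    simpa [two, hneg] using this)
  rw [Z.tor_eq_prod (L := [1, 2, 0, 3]) (by decide)]
  have s0 : (MT.S).simple 0 = (33 : Fin MT.tab.n) := Fin.ext rfl
  have s3 : (MT.S).simple 3 = (24 : Fin MT.tab.n) := Fin.ext rfl
  obtain ⟨c0, c1, c2, c3⟩ := cvec_val Z y (1 : Fˣ)
  have h1 : ∀ r, (MT.rel K).hr r (1 : F) = 1 := fun r => by
    show (MT.rel K).nr r 1 * (MT.rel K).nr r (-1) = 1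
    rw [← (MT.rel K).nr_inv, mul_inv_cancel]
  simpa [s0, s3, c0, c1, c2, c3, h1, two] using h

theorem chi_cvec1 (z : Fˣ) : chi MT (cvec m 1 z) 28 = z ∧ chi MT (cvec m 1 z) 30 = z ^ (2 * 2 ^ m) ∧
    chi MT (cvec m 1 z) 19 = z⁻¹ ∧ chi MT (cvec m 1 z) 17 = (z ^ (2 * 2 ^ m))⁻¹ ∧
    ∀ s, chi MT (cvec m 1 z) ((MT.S).actw (fd.O.wd 1).reverse s) = (chi MT (cvec m 1 z) s)⁻¹ := by
  have p : ∀ i : Fin 4,
      chevF4.pairing ((MT.S).simple i).val (28 : Fin MT.tab.n).val = ([-1, 0, 1, -1] : List ℤ).getD i.val 0 ∧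
      chevF4.pairing ((MT.S).simple i).val (30 : Fin MT.tab.n).val = ([-2, 2, 0, -1] : List ℤ).getD i.val 0 ∧
      chevF4.pairing ((MT.S).simple i).val (19 : Fin MT.tab.n).val = ([1, 0, -1, 1] : List ℤ).getD i.val 0 ∧
      chevF4.pairing ((MT.S).simple i).val (17 : Fin MT.tab.n).val = ([2, -2, 0, 1] : List ℤ).getD i.val 0 := by
    decide +kernel
  have pn : ∀ s : Fin MT.tab.n, ∀ i ∈ ([1, 2] : List (Fin MT.tab.l)),
      chevF4.pairing ((MT.S).simple i).val ((MT.S).actw (fd.O.wd 1).reverse s).val =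
        -chevF4.pairing ((MT.S).simple i).val s.val := by
    decide +kernel
  obtain ⟨e0, e1, e2, e3⟩ := cvec_val Z (1 : Fˣ) z
  rw [one_pow] at e0
  have e : ∀ r, chi MT (cvec m 1 z) r =
      (z ^ 2 ^ m) ^ chevF4.pairing ((MT.S).simple 1).val r.val * z ^ chevF4.pairing ((MT.S).simple 2).val r.val := by
    intro r
    refine (Fin.prod_univ_four _).trans ?_
    erw [e0, e1, e2, e3]
    rw [one_zpow, one_zpow, one_mul, mul_one]
    rfl
  refine ⟨?_, ?_, ?_, ?_, fun s => ?_⟩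
  · rw [e]; erw [(p 1).1, (p 2).1]; simp
  · rw [e]; erw [(p 1).2.1, (p 2).2.1]; simp [← pow_mul, mul_comm, zpow_ofNat]
  · rw [e]; erw [(p 1).2.2.1, (p 2).2.2.1]; simp
  · rw [e]; erw [(p 1).2.2.2, (p 2).2.2.2]; simp [← pow_mul, mul_comm, zpow_ofNat]
  · rw [e, e, pn s 1 (by simp), pn s 2 (by simp), zpow_neg, zpow_neg, mul_inv_rev, mul_comm]

theorem torus1 (hK : Fintype.card F = 2 ^ (2 * m + 1)) (z : Fˣ) :
    tor MT K (cvec m 1 (z * z)) ∈ G₁ := by
  obtain ⟨-, -, -, -, -, -, hneg⟩ := pow_facts hK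
  obtain ⟨c28, c30, c19, c17, cw⟩ := chi_cvec1 Z z
  set c := cvec m 1 z with hc
  set h := tor MT K c with hh
  set n := nj Z 1 with hn
  -- the conjugate of `n` by `h` lies in `G₁`
  have hconj : h * n * h⁻¹ ∈ G₁ := by
    have e3 : (MT.S).neg (28 : Fin MT.tab.n) = 19 := Fin.ext rfl
    have e4 : (MT.S).neg (30 : Fin MT.tab.n) = 17 := Fin.ext rfl
    have g1 : h * Z.og 1 1 * h⁻¹ ∈ G₁ := by
      have m1 := (clsW_mem Z (0 : F) (z : F)).1
      rw [← (og1_eq Z hK _).1] at m1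
      rw [show Z.og 1 1 = prodX MT K [28, 30] (fun _ => (1 : F)) by
          rw [show Z.og 1 1 = (MT.rel K).x 28 1 * ((MT.rel K).x 30 1 * 1) from rfl]; simp [prodX],
        hh, Z.tor_prodX_conj]
      simpa [prodX, two, c28, c30] using m1
    have g2 : h * Z.ogn 1 (-1) * h⁻¹ ∈ G₁ := by
      have m2 := (clsW_mem Z (0 : F) ((z⁻¹ : Fˣ) : F)).2
      rw [← (og1_eq Z hK _).2] at m2
      rw [show Z.ogn 1 (-1) = prodX MT K [19, 17] (fun _ => (1 : F)) by
          rw [show Z.ogn 1 (-1) = (MT.rel K).x ((MT.S).neg 28) (-1) *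
            ((MT.rel K).x ((MT.S).neg 30) (-1) * 1) from rfl, e3, e4, hneg]
          simp [prodX], hh, Z.tor_prodX_conj]
      simpa [prodX, two, c19, c17, inv_pow] using m2
    have : h * n * h⁻¹ = (h * Z.og 1 1 * h⁻¹) * (h * Z.ogn 1 (-1) * h⁻¹) * (h * Z.og 1 1 * h⁻¹) *
        (h * Z.ogn 1 (-1) * h⁻¹) * (h * Z.og 1 1 * h⁻¹) := by
      rw [hn, nj, if_neg (by decide)]; group
    rw [this]
    exact mul_mem (mul_mem (mul_mem (mul_mem g1 g2) g1) g2) g1
  have hmem : h * n * h⁻¹ * n⁻¹ ∈ G₁ := mul_mem hconj (inv_mem (nj_mem Z hK 1))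
  have hhH : h ∈ (MT.rel K).H := Z.tor_mem_H c
  have hco : InCoset (MT.rel K) n (fd.O.wd 1) := nj_coset Z hK 1
  have hH : h * (n * h⁻¹ * n⁻¹) ∈ (MT.rel K).H :=
    mul_mem hhH (mono_conj_H _ hco.mem_mono (inv_mem hhH))
  have e : tor MT K (cvec m 1 (z * z)) = h * (n * h⁻¹ * n⁻¹) := by
    refine Z.H_ext (Z.tor_mem_H _) hH fun s t => ?_
    obtain ⟨k, -, hk⟩ := (hco.inv _).conj_x s
    rw [inv_inv] at hk
    set s' := (MT.S).actw (fd.O.wd 1).reverse s
    have hhi : ∀ a, h⁻¹ * (MT.rel K).x s' a * h = (MT.rel K).x s' ((chi MT c s : F) * a) := by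
      intro a
      have h1 := Z.tor_conj c s' ((chi MT c s : F) * a)
      rw [cw s, ← mul_assoc, ← Units.val_mul, inv_mul_cancel, Units.val_one, one_mul] at h1
      rw [← h1, ← hh]; group
    symm
    calc h * (n * h⁻¹ * n⁻¹) * (MT.rel K).x s t * (h * (n * h⁻¹ * n⁻¹))⁻¹
        = h * (n * (h⁻¹ * (n⁻¹ * (MT.rel K).x s t * n) * h) * n⁻¹) * h⁻¹ := by group
      _ = h * (n * (n⁻¹ * (MT.rel K).x s ((chi MT c s : F) * t) * n) * n⁻¹) * h⁻¹ := by
        rw [hk, hhi, hk, mul_left_comm (k : F)]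
      _ = h * (MT.rel K).x s ((chi MT c s : F) * t) * h⁻¹ := by group
      _ = _ := by
        rw [Z.tor_conj, Z.tor_conj, ← mul_assoc, ← Units.val_mul]
        congr 3
        rw [show cvec m 1 (z * z) = c * c by
          funext j
          match j with
          | 0 => show (1 : Fˣ) ^ 2 ^ m = 1 ^ 2 ^ m * 1 ^ 2 ^ m; simp
          | 1 => exact mul_pow z z _
          | 2 => rfl
          | 3 => exact (one_mul _).symm]
        rw [chi, chi, ← Finset.prod_mul_distrib]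
        exact (Finset.prod_congr rfl fun i _ => (mul_zpow _ _ _).symm)
  rw [e, show h * (n * h⁻¹ * n⁻¹) = h * n * h⁻¹ * n⁻¹ by group]
  exact hmem

theorem torus_mem (hK : Fintype.card F = 2 ^ (2 * m + 1)) (c : Fin MT.tab.l → Fˣ)
    (hc : Z.sig pre c = c) : tor MT K c ∈ G₁ := by
  obtain ⟨-, -, -, -, -, hper, -⟩ := pow_facts hK
  rw [fixed_eq_cvec Z hc, cvec_mul Z, Z.tor_mul]
  refine mul_mem (torus0 Z hK _) ?_
  have : c 2 = (c 2 ^ (2 ^ m * 2 ^ m)) * (c 2 ^ (2 ^ m * 2 ^ m)) := by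
    refine Units.ext ?_
    rw [← pow_add, Units.val_pow_eq_pow_val, ← two_mul, ← mul_assoc, hper]
  rw [this]
  exact torus1 Z hK _

/-- The twisted data of `²F₄(q)`. -/
theorem gens (hK : Fintype.card F = 2 ^ (2 * m + 1)) : Gens Z G₁ (nj Z) := by
  refine ⟨fixed_gen Z hK, fun k => (og_mem Z hK k).1, nj_mem Z hK, nj_coset Z hK, ?_, ?_, ?_⟩
  · intro k g hg hfix
    match k with
    | 0 => obtain ⟨t, rfl⟩ := cls0 Z hg hfix; exact (pairW_mem Z t).1
    | 1 => obtain ⟨t, u, rfl⟩ := cls1 Z hK hg hfix; exact (clsW_mem Z t u).1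
  · intro h hh hfix
    exact Z.full_H_of torOk (pre_eq Z) inv_ok (m := 2) (by decide) (per Z hK) (torus_mem Z hK) hh hfix
  · intro g hg
    refine (Subgroup.closure_le _).2 ?_ hg
    rintro _ ⟨w, hw, rfl⟩
    refine Subgroup.subset_closure ?_
    rcases hw with ⟨t, rfl | rfl⟩ | ⟨t, u, rfl | rfl⟩
    · refine ⟨0, (wv_pairW Z t).1 ▸ (pairW_mem Z t).1, Or.inl ?_⟩
      rw [(wv_pairW Z t).1]
      exact Z.Sg_mem_prodX (Q := fun r => r ∈ fd.O.cls 0) (by decide +kernel) _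
    · refine ⟨0, (wv_pairW Z t).2 ▸ (pairW_mem Z t).2, Or.inr ?_⟩
      rw [(wv_pairW Z t).2]
      exact Z.Sg_mem_prodX (Q := fun r => (MT.S).neg r ∈ fd.O.cls 0) (by decide +kernel) _
    · refine ⟨1, (wv_clsW Z t u).1 ▸ (clsW_mem Z t u).1, Or.inl ?_⟩
      rw [(wv_clsW Z t u).1]
      exact mul_mem (mul_mem (x_mem_Sg _ (T := fun r => r ∈ fd.O.cls 1) (by decide +kernel) _)
        (x_mem_Sg _ (T := fun r => r ∈ fd.O.cls 1) (by decide +kernel) _))
        (Z.Sg_mem_prodX (Q := fun r => r ∈ fd.O.cls 1) (by decide +kernel) _)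
    · refine ⟨1, (wv_clsW Z t u).2 ▸ (clsW_mem Z t u).2, Or.inr ?_⟩
      rw [(wv_clsW Z t u).2]
      exact mul_mem (mul_mem (x_mem_Sg _ (T := fun r => (MT.S).neg r ∈ fd.O.cls 1) (by decide +kernel) _)
        (x_mem_Sg _ (T := fun r => (MT.S).neg r ∈ fd.O.cls 1) (by decide +kernel) _))
        (Z.Sg_mem_prodX (Q := fun r => (MT.S).neg r ∈ fd.O.cls 1) (by decide +kernel) _)

end Cfsg.Agent.Twisted.TypeF4
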