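import Cfsg.Agent.Twisted.Pieces
import Cfsg.Agent.Twisted.Field
import Cfsg.Agent.Twisted.Types.G2
import Cfsg.Agent.ChevIsogeny.WordCheck
import Cfsg.Agent.Lib.ChevCore.GoodG2
import Cfsg.Prelude.Def_LieTwisted

/-!
The generators of `²G₂(q)` give the twisted data.
-/

set_option autoImplicit false

namespace Cfsg.Agent.Twisted.TypeG2

open ChevGroup ChevIsogeny Cfsg.Lie

/-- the model -/
abbrev MT : Model chevG2 := ChevGroup.TypeG2.model

/-- the isogeny certificate -/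
abbrev PP : IsoData := ChevIsogeny.G2.iso

instance : NeZero MT.tab.l := ⟨by decide⟩

instance : NeZero (ChevGroup.TypeG2.model).tab.l := ⟨by decide⟩

/-- the part of the positive roots with commuting root groups, and its negative -/
def NL : List (Fin MT.tab.n) := [8, 9, 10, 11]

/-- the negatives of `NL` -/
def NL' : List (Fin MT.tab.n) := [3, 2, 1, 0]

theorem NL_ok : commListB PP fd NL = true ∧ commListB PP fd NL' = true ∧
    commListB PP fd [8, 10] = true ∧ pairOrthB PP MT [8, 10] = true := by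
  refine ⟨?_, ?_, ?_, ?_⟩ <;> decide +kernel

/-- The commutators of the fundamental root groups with `NL` land in `NL`. -/
theorem NL_closed : ∀ r ∈ ([6, 7] : List (Fin MT.tab.n)), ∀ s ∈ NL, s.val ≠ r.val ∧ s.val ≠ chevG2.neg r.val ∧
    ∀ c ∈ chevG2.commTerms r.val s.val, ∃ d ∈ NL, d.val = c.1 := by
  decide +kernel

/-- a word for `h_a(-1) h_b(-1)` and a word in the generators with the same value modulo `3` -/
theorem torus_word :
    wordEqB chevG2 (ChevCore.fast chevG2 ChevCore.packedG2) 3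
      [(7, -1), (4, 1), (7, -1), (7, -1), (4, 1), (7, -1), (6, -1), (5, 1), (6, -1), (6, -1), (5, 1),
        (6, -1)]
      [(7, 1), (6, 1), (8, 1), (9, 1), (3, 1), (1, 1), (2, 1), (0, 1), (9, 1), (11, 1), (3, 1), (1, 1)] =
      true := by
  decide +kernel

variable {F : Type*} [Field F] [Fintype F] {m : ℕ}

theorem charThree (hK : Fintype.card F = 3 ^ (2 * m + 1)) : CharP F 3 := by
  obtain ⟨p, j, hp, hc, h3, -⟩ := exists_char_pow Nat.prime_three.isPrimePow hK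
  have : p = 3 := (Nat.Prime.pow_eq_iff Nat.prime_three).1 h3.symm |>.1
  exact this ▸ hc

theorem pow_facts (hK : Fintype.card F = 3 ^ (2 * m + 1)) :
    (3 : F) = 0 ∧ (∀ a b : F, (a + b) ^ (3 ^ m) = a ^ (3 ^ m) + b ^ (3 ^ m)) ∧
      (∀ a b : F, (a + b) ^ (3 * 3 ^ m) = a ^ (3 * 3 ^ m) + b ^ (3 * 3 ^ m)) ∧
      (∀ z : ℤ, (z : F) ^ (3 ^ m) = z) ∧ (∀ z : ℤ, (z : F) ^ (3 * 3 ^ m) = z) ∧
      (∀ a : F, a ^ (3 * 3 ^ m * 3 ^ m) = a) := by
  haveI := charThree hK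
  haveI := Fact.mk Nat.prime_three
  have e : 3 * 3 ^ m = 3 ^ (m + 1) := by rw [pow_succ]; ring
  have hz : ∀ (j : ℕ) (z : ℤ), (z : F) ^ (3 ^ j) = z := by
    intro j z
    have := map_intCast (iterateFrobenius F 3 j) z
    rwa [iterateFrobenius_def] at this
  refine ⟨by exact_mod_cast CharP.cast_eq_zero F 3, fun a b => add_pow_char_pow a b 3 m,
    fun a b => by rw [e]; exact add_pow_char_pow a b 3 (m + 1), hz m, by rw [e]; exact hz (m + 1),
    fun a => ?_⟩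
  rw [show 3 * 3 ^ m * 3 ^ m = 3 ^ (2 * m + 1) by rw [pow_succ, two_mul, pow_add]; ring, ← hK]
  exact FiniteField.pow_card a

/-- The frame. -/
theorem frame (K : Rels chevG2 F) (hC : CommFormula chevG2 F)
    (heta : ∀ i r, i < chevG2.rank → r < chevG2.nroots → K.eta i r = (ChevIsogeny.G2.eta i r : F))
    (hK : Fintype.card F = 3 ^ (2 * m + 1)) : Frame (T := MT) K PP (3 ^ m) fd := by
  obtain ⟨h3, ha1, ha3, hz1, hz3, -⟩ := pow_facts hK
  have hlam : ∀ r, r < chevG2.nroots →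
      ChevIsogeny.IsoData.lf PP r = 1 ∨ ChevIsogeny.IsoData.lf PP r = 3 := by
    have : ((List.range chevG2.nroots).all fun r => decide
        (ChevIsogeny.IsoData.lf PP r = 1 ∨ ChevIsogeny.IsoData.lf PP r = 3)) = true := by decide +kernel
    simp only [List.all_eq_true, decide_eq_true_eq, List.mem_range] at this
    exact this
  exact ⟨⟨hC, ChevIsogeny.G2.base, ChevIsogeny.G2.pairing, ChevIsogeny.G2.simple,
    ChevIsogeny.G2.collect, by simpa [ChevIsogeny.G2.iso] using h3,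
    fun r hr a b => by
      rcases hlam r hr with h | h <;> rw [h]
      · rw [one_mul]; exact ha1 a b
      · exact ha3 a b,
    fun r hr z => by
      rcases hlam r hr with h | h <;> rw [h]
      · rw [one_mul]; exact hz1 z
      · exact hz3 z,
    ⟨_, ChevIsogeny.G2.sign, heta⟩⟩, ok⟩

variable {K : Rels chevG2 F}

/-- parameters along `NL` and `NL'` -/
def nv (a b c d : F) (r : Fin MT.tab.n) : F :=
  if r = 8 ∨ r = 3 then a else if r = 9 ∨ r = 2 then b else if r = 10 ∨ r = 1 then c else d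

theorem nv_val (a b c d : F) :
    (nv a b c d 8 = a ∧ nv a b c d 9 = b ∧ nv a b c d 10 = c ∧ nv a b c d 11 = d) ∧
      nv a b c d 3 = a ∧ nv a b c d 2 = b ∧ nv a b c d 1 = c ∧ nv a b c d 0 = d :=
  ⟨⟨rfl, rfl, rfl, rfl⟩, rfl, rfl, rfl, rfl⟩

theorem nv_add (a b c d a' b' c' d' : F) :
    nv a b c d + nv a' b' c' d' = nv (a + a') (b + b') (c + c') (d + d') := by
  funext r
  simp only [Pi.add_apply, nv]
  split_ifs <;> rfl

variable (K) in
/-- `x_a(s) x_b(t)` times an element of the commuting part -/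
def form (s t : F) (v : Fin MT.tab.n → F) : ↥(chevG2.group F) :=
  (MT.rel K).x 7 s * (MT.rel K).x 6 t * prodX MT K NL v

variable (K) in
/-- the element of `reeWordU` -/
def wordU (m : ℕ) (t u v : F) : ↥(chevG2.group F) :=
  form K (t ^ 3 ^ m) t (nv (t ^ (3 ^ m + 1) + u ^ 3 ^ m) (t ^ (2 * 3 ^ m + 1) + v ^ 3 ^ m) u v)

variable (K) in
/-- the element of `reeWordV` -/
def wordV (m : ℕ) (t u v : F) : ↥(chevG2.group F) :=
  (MT.rel K).x 4 (-(t ^ 3 ^ m)) * (MT.rel K).x 5 (-t) *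
    prodX MT K NL' (nv (-(t ^ (3 ^ m + 1) + u ^ 3 ^ m)) (-(t ^ (2 * 3 ^ m + 1) + v ^ 3 ^ m)) (-u) (-v))

variable (Z : Frame (T := MT) K PP (3 ^ m) fd)

set_option quotPrecheck false in
local notation "G₁" => genG MT K (g2Words F (3 ^ m))

include Z

theorem lam_ef (r : Fin MT.tab.n) :
    IsoHyp.lam PP (3 ^ m) r.val = (if r.val ∈ [2, 3, 4, 7, 8, 9] then 3 * 3 ^ m else 3 ^ m) ∧
      (PP.ef r.val : F) = 1 := by
  have h : ∀ r : Fin MT.tab.n, IsoData.lf PP r.val = (if r.val ∈ [2, 3, 4, 7, 8, 9] then 3 else 1) ∧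
      PP.ef r.val = 1 := by decide +kernel
  refine ⟨?_, by rw [(h r).2, Int.cast_one]⟩
  rw [IsoHyp.lam, (h r).1]
  split_ifs <;> simp

theorem σ_x' (r : Fin MT.tab.n) (t : F) : Z.σ ((MT.rel K).x r t) =
    (MT.rel K).x (fd.O.rho r) (t ^ if r.val ∈ [2, 3, 4, 7, 8, 9] then 3 * 3 ^ m else 3 ^ m) := by
  rw [Z.σ_x, (lam_ef Z r).1, (lam_ef Z r).2, one_mul]

theorem NL_mul (v w : Fin MT.tab.n → F) :
    prodX MT K NL v * prodX MT K NL w = prodX MT K NL (v + w) :=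
  Z.prodX_mul (fun _ hr _ hs => Z.commList_commute NL_ok.1 hr hs) v w

theorem swapU (s t : F) : (MT.rel K).x 6 t * (MT.rel K).x 7 s = form K s t
    (nv (s * t) (s ^ 2 * t) (-(s ^ 3 * t)) (-(s ^ 3 * t ^ 2))) := by
  apply Model.mat_inj
  have h := Z.iso.comm 7 6 (by decide) (by decide) (by decide) (by decide +kernel) s t
  have ec : chevG2.commTerms 7 6 = [(8, -1, 1, 1), (9, 1, 2, 1), (10, 1, 3, 1), (11, 1, 3, 2)] := by
    decide +kernel
  obtain ⟨⟨n8, n9, n10, n11⟩, -⟩ := nv_val (s * t) (s ^ 2 * t) (-(s ^ 3 * t)) (-(s ^ 3 * t ^ 2))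
  have e1 : ∀ (r : Fin MT.tab.n) (a : F), Model.mat ((MT.rel K).x r a) = chevG2.x F r.val a := fun r a =>
    MT.mat_xG K r a
  simp only [form, prodX, NL, List.map_cons, List.map_nil, List.prod_cons, List.prod_nil,
    Model.mat_mul, e1, n8, n9, n10, n11]
  rw [show (6 : Fin MT.tab.n).val = 6 from rfl, show (7 : Fin MT.tab.n).val = 7 from rfl,
    show (8 : Fin MT.tab.n).val = 8 from rfl, show (9 : Fin MT.tab.n).val = 9 from rfl,
    show (10 : Fin MT.tab.n).val = 10 from rfl, show (11 : Fin MT.tab.n).val = 11 from rfl, h]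
  simp [ChevalleyDatum.commWord, ec, ChevalleyDatum.wordMat, Model.mat,
    Odd.neg_pow (show Odd 3 by decide)]

theorem swapV (s t : F) : (MT.rel K).x 5 t * (MT.rel K).x 4 s = (MT.rel K).x 4 s * (MT.rel K).x 5 t *
    prodX MT K NL' (nv (-(s * t)) (s ^ 2 * t) (s ^ 3 * t) (-(s ^ 3 * t ^ 2))) := by
  apply Model.mat_inj
  have h := Z.iso.comm 4 5 (by decide) (by decide) (by decide) (by decide +kernel) s t
  have ec : chevG2.commTerms 4 5 = [(3, 1, 1, 1), (2, 1, 2, 1), (1, -1, 3, 1), (0, 1, 3, 2)] := by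
    decide +kernel
  obtain ⟨-, n3, n2, n1, n0⟩ := nv_val (-(s * t)) (s ^ 2 * t) (s ^ 3 * t) (-(s ^ 3 * t ^ 2))
  have e1 : ∀ (r : Fin MT.tab.n) (a : F), Model.mat ((MT.rel K).x r a) = chevG2.x F r.val a := fun r a =>
    MT.mat_xG K r a
  simp only [prodX, NL', List.map_cons, List.map_nil, List.prod_cons, List.prod_nil,
    Model.mat_mul, e1, n3, n2, n1, n0]
  rw [show (5 : Fin MT.tab.n).val = 5 from rfl, show (4 : Fin MT.tab.n).val = 4 from rfl,
    show (3 : Fin MT.tab.n).val = 3 from rfl, show (2 : Fin MT.tab.n).val = 2 from rfl,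
    show (1 : Fin MT.tab.n).val = 1 from rfl, show (0 : Fin MT.tab.n).val = 0 from rfl, h]
  simp [ChevalleyDatum.commWord, ec, ChevalleyDatum.wordMat, Model.mat,
    Odd.neg_pow (show Odd 3 by decide)]

theorem wv_wordU (t u v : F) : wv MT K (reeWordU (3 ^ m) t u v) = wordU K m t u v := by
  obtain ⟨⟨n8, n9, n10, n11⟩, -⟩ :=
    nv_val (t ^ (3 ^ m + 1) + u ^ 3 ^ m) (t ^ (2 * 3 ^ m + 1) + v ^ 3 ^ m) u v
  rw [show reeWordU (3 ^ m) t u v = [((7 : Fin MT.tab.n).val, t ^ 3 ^ m), ((6 : Fin MT.tab.n).val, t),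
      ((8 : Fin MT.tab.n).val, t ^ (3 ^ m + 1) + u ^ 3 ^ m),
      ((9 : Fin MT.tab.n).val, t ^ (2 * 3 ^ m + 1) + v ^ 3 ^ m), ((10 : Fin MT.tab.n).val, u),
      ((11 : Fin MT.tab.n).val, v)] from rfl]
  simp only [Z.wv_cons, show wv MT K ([] : List (ℕ × F)) = 1 from rfl, wordU, form, prodX, NL,
    List.map_cons, List.map_nil, List.prod_cons, List.prod_nil, n8, n9, n10, n11, mul_assoc]

theorem wv_wordV (t u v : F) : wv MT K (reeWordV (3 ^ m) t u v) = wordV K m t u v := by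
  obtain ⟨-, n3, n2, n1, n0⟩ :=
    nv_val (-(t ^ (3 ^ m + 1) + u ^ 3 ^ m)) (-(t ^ (2 * 3 ^ m + 1) + v ^ 3 ^ m)) (-u) (-v)
  rw [show reeWordV (3 ^ m) t u v = [((4 : Fin MT.tab.n).val, -(t ^ 3 ^ m)), ((5 : Fin MT.tab.n).val, -t),
      ((3 : Fin MT.tab.n).val, -(t ^ (3 ^ m + 1) + u ^ 3 ^ m)),
      ((2 : Fin MT.tab.n).val, -(t ^ (2 * 3 ^ m + 1) + v ^ 3 ^ m)), ((1 : Fin MT.tab.n).val, -u),
      ((0 : Fin MT.tab.n).val, -v)] from rfl]
  simp only [Z.wv_cons, show wv MT K ([] : List (ℕ × F)) = 1 from rfl, wordV, prodX, NL',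
    List.map_cons, List.map_nil, List.prod_cons, List.prod_nil, n3, n2, n1, n0, mul_assoc]

theorem wordU_mem (t u v : F) : wordU K m t u v ∈ G₁ :=
  wv_wordU Z t u v ▸ wv_mem ⟨t, u, v, Or.inl rfl⟩

theorem wordV_mem (t u v : F) : wordV K m t u v ∈ G₁ :=
  wv_wordV Z t u v ▸ wv_mem ⟨t, u, v, Or.inr rfl⟩

theorem σ_NL (a b c d : F) : Z.σ (prodX MT K NL (nv a b c d)) =
    prodX MT K NL (nv (c ^ 3 ^ m) (d ^ 3 ^ m) (a ^ (3 * 3 ^ m)) (b ^ (3 * 3 ^ m))) := by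
  refine Z.σ_prodX NL_ok.1 _ _ fun r hr => ?_
  rw [(lam_ef Z r).1, (lam_ef Z r).2, one_mul]
  simp only [NL, List.mem_cons, List.not_mem_nil, or_false] at hr
  rcases hr with rfl | rfl | rfl | rfl <;> rfl

theorem σ_NL' (a b c d : F) : Z.σ (prodX MT K NL' (nv a b c d)) =
    prodX MT K NL' (nv (c ^ 3 ^ m) (d ^ 3 ^ m) (a ^ (3 * 3 ^ m)) (b ^ (3 * 3 ^ m))) := by
  refine Z.σ_prodX NL_ok.2.1 _ _ fun r hr => ?_
  rw [(lam_ef Z r).1, (lam_ef Z r).2, one_mul]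
  simp only [NL', List.mem_cons, List.not_mem_nil, or_false] at hr
  rcases hr with rfl | rfl | rfl | rfl <;> rfl

/-- `σ` on a general element of the unipotent group -/
theorem σ_form (s t a b c d : F) : Z.σ (form K s t (nv a b c d)) =
    form K (t ^ 3 ^ m) (s ^ (3 * 3 ^ m))
      (nv (t ^ 3 ^ m * s ^ (3 * 3 ^ m) + c ^ 3 ^ m) ((t ^ 3 ^ m) ^ 2 * s ^ (3 * 3 ^ m) + d ^ 3 ^ m)
        (-((t ^ 3 ^ m) ^ 3 * s ^ (3 * 3 ^ m)) + a ^ (3 * 3 ^ m))
        (-((t ^ 3 ^ m) ^ 3 * (s ^ (3 * 3 ^ m)) ^ 2) + b ^ (3 * 3 ^ m))) := by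
  conv_lhs => rw [form, map_mul, map_mul, σ_NL Z, σ_x' Z, σ_x' Z]
  show (MT.rel K).x 6 (s ^ (3 * 3 ^ m)) * (MT.rel K).x 7 (t ^ 3 ^ m) * _ = _
  rw [swapU Z, form, form, mul_assoc, NL_mul Z, nv_add]

theorem σ_wordU (hK : Fintype.card F = 3 ^ (2 * m + 1)) (t u v : F) :
    Z.σ (wordU K m t u v) = wordU K m t u v := by
  obtain ⟨-, -, ha3, -, -, hper⟩ := pow_facts hK
  have h1 : (t ^ 3 ^ m) ^ (3 * 3 ^ m) = t := by rw [← pow_mul, mul_comm]; exact hper t
  have h2 : ∀ z : F, (z ^ 3 ^ m) ^ (3 * 3 ^ m) = z := fun z => by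
    rw [← pow_mul, mul_comm]; exact hper z
  rw [wordU, σ_form Z, h1]
  have c : -((t ^ 3 ^ m) ^ 3 * t) + (t ^ (3 ^ m + 1) + u ^ 3 ^ m) ^ (3 * 3 ^ m) = u := by
    rw [pow_succ t (3 ^ m), ha3, mul_pow, h1, h2]; ring
  have d : -((t ^ 3 ^ m) ^ 3 * t ^ 2) + (t ^ (2 * 3 ^ m + 1) + v ^ 3 ^ m) ^ (3 * 3 ^ m) = v := by
    rw [show t ^ (2 * 3 ^ m + 1) = (t ^ 3 ^ m) ^ 2 * t by ring, ha3, mul_pow, pow_right_comm _ 2, h1, h2]
    ring
  rw [c, d]
  congr 2 <;> ring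

theorem σ_wordV (hK : Fintype.card F = 3 ^ (2 * m + 1)) (t u v : F) :
    Z.σ (wordV K m t u v) = wordV K m t u v := by
  obtain ⟨-, ha1, ha3, hz1, hz3, hper⟩ := pow_facts hK
  have hneg : ∀ z : F, (-z) ^ 3 ^ m = -(z ^ 3 ^ m) ∧ (-z) ^ (3 * 3 ^ m) = -(z ^ (3 * 3 ^ m)) := by
    intro z
    have n1 : (-1 : F) ^ 3 ^ m = -1 := by simpa using hz1 (-1)
    have n3 : (-1 : F) ^ (3 * 3 ^ m) = -1 := by simpa using hz3 (-1)
    constructor
    · rw [neg_eq_neg_one_mul, mul_pow, n1, neg_one_mul]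
    · rw [neg_eq_neg_one_mul, mul_pow, n3, neg_one_mul]
  have h2 : ∀ z : F, (z ^ 3 ^ m) ^ (3 * 3 ^ m) = z := fun z => by
    rw [← pow_mul, mul_comm]; exact hper z
  conv_lhs => rw [wordV, map_mul, map_mul, σ_NL' Z, σ_x' Z, σ_x' Z]
  show (MT.rel K).x 5 ((-(t ^ 3 ^ m)) ^ (3 * 3 ^ m)) * (MT.rel K).x 4 ((-t) ^ 3 ^ m) * _ = _
  simp only [hneg, h2]
  rw [swapV Z, wordV, mul_assoc,
    Z.prodX_mul (fun _ hr _ hs => Z.commList_commute NL_ok.2.1 hr hs), nv_add]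
  have c : -((-(t ^ 3 ^ m)) ^ 3 * -t * -1) + -((t ^ (3 ^ m + 1) + u ^ 3 ^ m) ^ (3 * 3 ^ m)) = -u := by
    rw [pow_succ t (3 ^ m), ha3, mul_pow, h2, h2]; ring
  have d : -((-(t ^ 3 ^ m)) ^ 3 * (-t) ^ 2) + -((t ^ (2 * 3 ^ m + 1) + v ^ 3 ^ m) ^ (3 * 3 ^ m)) = -v := by
    rw [show t ^ (2 * 3 ^ m + 1) = (t ^ 3 ^ m) ^ 2 * t by ring, ha3, mul_pow, pow_right_comm _ 2, h2, h2]
    ring
  congr 3
  · ring
  · ring
  · refine Eq.trans ?_ c; ring

theorem fixed_gen (hK : Fintype.card F = 3 ^ (2 * m + 1)) : ∀ g ∈ G₁, Z.σ g = g := by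
  refine Z.σ_fixed fun w hw => ?_
  obtain ⟨t, u, v, rfl | rfl⟩ := hw
  · rw [wv_wordU Z]; exact σ_wordU Z hK t u v
  · rw [wv_wordV Z]; exact σ_wordV Z hK t u v

theorem nv_eta (v : Fin MT.tab.n → F) :
    prodX MT K NL v = prodX MT K NL (nv (v 8) (v 9) (v 10) (v 11)) := by
  refine Z.prodX_congr fun r hr => ?_
  simp only [NL, List.mem_cons, List.not_mem_nil, or_false] at hr
  rcases hr with rfl | rfl | rfl | rfl <;> rfl

/-- every element of `U` has the normal form -/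
theorem exists_form {g : ↥(chevG2.group F)} (hg : g ∈ Sg (MT.rel K) (· ∈ fd.O.cls 0)) :
    ∃ s t a b c d, g = form K s t (nv a b c d) := by
  have hU : g ∈ (MT.rel K).U := Sg_mono _ (fun r hr => (by revert hr; revert r; decide +kernel)) hg
  obtain ⟨p, hp, rfl⟩ : ∃ p ∈ Z.iso.datum.rel.U, p.1 = g := by
    suffices g ∈ Z.iso.datum.rel.U.map (MonoidHom.fst _ _) by
      obtain ⟨p, hp, e1⟩ := this; exact ⟨p, hp, e1⟩
    refine (Subgroup.closure_le _).2 ?_ hU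
    rintro _ ⟨r, t, hr, rfl⟩
    exact ⟨_, Z.iso.datum.rel.x_mem_U hr t, rfl⟩
  obtain ⟨ts, hl, rfl⟩ := Z.iso.mem_U_exists hp
  have hpl : MT.posList = [6, 7, 8, 9, 10, 11] := by decide +kernel
  rw [hpl] at hl ⊢
  match ts, hl with
  | [t, s, a, b, c, d], _ =>
    refine ⟨s, t, a + s * t, b + s ^ 2 * t, c - s ^ 3 * t, d - s ^ 3 * t ^ 2, ?_⟩
    show (List.zipWith Z.iso.datum.pairX _ _).prod.1 = _
    simp only [List.zipWith_cons_cons, List.zipWith_nil_left, List.prod_cons, List.prod_nil,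
      Prod.fst_mul, Prod.fst_one, mul_one]
    show (MT.rel K).x 6 t * ((MT.rel K).x 7 s * ((MT.rel K).x 8 a * ((MT.rel K).x 9 b *
      ((MT.rel K).x 10 c * (MT.rel K).x 11 d)))) = _
    rw [← mul_assoc, swapU Z]
    obtain ⟨⟨n8, n9, n10, n11⟩, -⟩ := nv_val a b c d
    rw [show (MT.rel K).x 8 a * ((MT.rel K).x 9 b * ((MT.rel K).x 10 c * (MT.rel K).x 11 d)) =
      prodX MT K NL (nv a b c d) by simp [prodX, NL, n8, n9, n10, n11],
      form, form, mul_assoc, NL_mul Z, nv_add]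
    congr 2 <;> ring

/-- the parameters of the normal form are determined -/
theorem form_inj {s t a b c d s' t' a' b' c' d' : F}
    (h : form K s t (nv a b c d) = form K s' t' (nv a' b' c' d')) :
    s = s' ∧ t = t' ∧ a = a' ∧ b = b' ∧ c = c' ∧ d = d' := by
  have key : ∀ s t a b c d : F, form K s t (nv a b c d) = prodX MT K [6, 7, 8, 9, 10, 11]
      (fun r => if r = 6 then t else if r = 7 then s else
        nv (a - s * t) (b - s ^ 2 * t) (c + s ^ 3 * t) (d + s ^ 3 * t ^ 2) r) := by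
    intro s t a b c d
    have e : form K s t (nv a b c d) = (MT.rel K).x 6 t * ((MT.rel K).x 7 s *
        prodX MT K NL (nv (a - s * t) (b - s ^ 2 * t) (c + s ^ 3 * t) (d + s ^ 3 * t ^ 2))) := by
      rw [← mul_assoc, swapU Z, form, form, mul_assoc _ (prodX MT K NL _), NL_mul Z, nv_add]
      congr 2 <;> ring
    rw [e]
    simp only [prodX, NL, List.map_cons, List.map_nil, List.prod_cons, List.prod_nil]
    rfl
  rw [key, key] at h
  have h' := Z.prodX_inj (L := [6, 7, 8, 9, 10, 11]) (by decide +kernel) h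
  have ht : t = t' := h' 6 (by simp)
  have hs : s = s' := h' 7 (by simp)
  subst ht hs
  refine ⟨rfl, rfl, ?_, ?_, ?_, ?_⟩
  · exact sub_left_injective (h' 8 (by simp) :)
  · exact sub_left_injective (h' 9 (by simp) :)
  · exact add_left_injective _ (h' 10 (by simp) :)
  · exact add_left_injective _ (h' 11 (by simp) :)

/-- The fixed elements of `U` are the words. -/
theorem cls0 (hK : Fintype.card F = 3 ^ (2 * m + 1)) {g : ↥(chevG2.group F)}
    (hg : g ∈ Sg (MT.rel K) (· ∈ fd.O.cls 0)) (hfix : Z.σ g = g) :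
    ∃ t u v, g = wordU K m t u v := by
  obtain ⟨-, ha1, -, hz1, -, hper⟩ := pow_facts hK
  obtain ⟨s, t, a, b, c, d, rfl⟩ := exists_form Z hg
  rw [σ_form Z] at hfix
  obtain ⟨hs, ht, ha, hb, -, -⟩ := form_inj Z hfix
  refine ⟨t, c, d, ?_⟩
  rw [ht] at ha hb
  rw [← hs, wordU]
  congr 2
  · rw [← ha, pow_succ]
  · rw [← hb, pow_succ _ (2 * 3 ^ m), ← pow_mul, mul_comm (3 ^ m) 2]

theorem og_eq (hK : Fintype.card F = 3 ^ (2 * m + 1)) (u : F) :
    prodX MT K [8, 10] (nv (u ^ 3 ^ m) 0 u 0) = wordU K m 0 u 0 ∧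
    prodX MT K [3, 1] (nv (-(u ^ 3 ^ m)) 0 (-u) 0) = wordV K m 0 u 0 := by
  have h0 : (0 : F) ^ 3 ^ m = 0 := zero_pow (pow_ne_zero _ (by norm_num))
  have h1 : (0 : F) ^ (3 ^ m + 1) = 0 := zero_pow (Nat.succ_ne_zero _)
  have h2 : (0 : F) ^ (2 * 3 ^ m + 1) = 0 := zero_pow (Nat.succ_ne_zero _)
  constructor
  · obtain ⟨⟨n8, n9, n10, n11⟩, -⟩ := nv_val (u ^ 3 ^ m) 0 u (0 : F)
    simp [wordU, form, prodX, NL, h0, h1, h2, n8, n9, n10, n11, (MT.rel K).x_zero]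
  · obtain ⟨-, n3, n2, n1, n0⟩ := nv_val (-(u ^ 3 ^ m)) 0 (-u) (0 : F)
    simp [wordV, prodX, NL', h0, h1, h2, n3, n2, n1, n0, (MT.rel K).x_zero]

theorem og_mem (hK : Fintype.card F = 3 ^ (2 * m + 1)) : Z.og 0 1 ∈ G₁ ∧ Z.ogn 0 (-1) ∈ G₁ := by
  obtain ⟨e1, e2⟩ := og_eq Z hK (1 : F)
  rw [one_pow] at e1 e2
  refine ⟨?_, ?_⟩
  · have := wordU_mem Z (0 : F) 1 0
    rw [← e1] at this
    rw [show Z.og 0 1 = (MT.rel K).x 8 1 * ((MT.rel K).x 10 1 * 1) from rfl]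
    simpa [prodX, nv] using this
  · have := wordV_mem Z (0 : F) 1 0
    rw [← e2] at this
    exact this

/-- the inverse of the permutation of the fundamental roots -/
def pre (j : Fin MT.tab.l) : Fin MT.tab.l := ([1, 0] : List (Fin 2)).getD j.val 0

theorem pre_eq (j : Fin MT.tab.l) : Z.iso.ρIF (pre j) = j := by
  match j with
  | 0 => exact Fin.ext rfl
  | 1 => exact Fin.ext rfl

theorem sig_apply (c : Fin MT.tab.l → Fˣ) :
    Z.sig pre c 0 = c 1 ^ 3 ^ m ∧ Z.sig pre c 1 = c 0 ^ (3 * 3 ^ m) := by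
  constructor
  · show c 1 ^ IsoHyp.lam PP (3 ^ m) ((MT.S).simple 1).val = _
    rw [(lam_ef Z _).1, if_neg (by decide)]
  · show c 0 ^ IsoHyp.lam PP (3 ^ m) ((MT.S).simple 0).val = _
    rw [(lam_ef Z _).1, if_pos (by decide)]

theorem per (hK : Fintype.card F = 3 ^ (2 * m + 1)) (c : Fin MT.tab.l → Fˣ) :
    (⇑(Z.sig pre))^[2] c = c := by
  obtain ⟨-, -, -, -, -, hper⟩ := pow_facts hK
  funext j
  simp only [Function.iterate_succ_apply', Function.iterate_zero_apply]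
  match j with
  | 0 =>
    rw [(sig_apply Z _).1, (sig_apply Z _).2]
    exact Units.ext (by rw [← pow_mul, Units.val_pow_eq_pow_val]; exact hper _)
  | 1 =>
    rw [(sig_apply Z _).2, (sig_apply Z _).1]
    exact Units.ext (by rw [← pow_mul, mul_comm, Units.val_pow_eq_pow_val]; exact hper _)

/-- parameters with `c 1 = z` -/
def cvec (_ : Frame (T := MT) K PP (3 ^ m) fd) (z : Fˣ) (j : Fin MT.tab.l) : Fˣ :=
  [z ^ 3 ^ m, z].getD j.val 1

theorem fixed_eq_cvec {c : Fin MT.tab.l → Fˣ} (hc : Z.sig pre c = c) : c = cvec Z (c 1) := by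
  funext j
  match j with
  | 0 =>
    show c 0 = c 1 ^ 3 ^ m
    rw [← (sig_apply Z c).1, hc]
  | 1 => rfl

theorem sig_cvec (hK : Fintype.card F = 3 ^ (2 * m + 1)) (z : Fˣ) :
    Z.sig pre (cvec Z z) = cvec Z z := by
  obtain ⟨-, -, -, -, -, hper⟩ := pow_facts hK
  funext j
  match j with
  | 0 => exact (sig_apply Z _).1
  | 1 =>
    rw [(sig_apply Z _).2]
    show (z ^ 3 ^ m) ^ (3 * 3 ^ m) = z
    exact Units.ext (by rw [← pow_mul, mul_comm, Units.val_pow_eq_pow_val]; exact hper _)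

theorem cvec_mul (z z' : Fˣ) : cvec Z (z * z') = cvec Z z * cvec Z z' := by
  funext j
  match j with
  | 0 => exact mul_pow z z' _
  | 1 => rfl

theorem two_ne (hK : Fintype.card F = 3 ^ (2 * m + 1)) : (-1 : F) ≠ 1 := by
  intro h
  obtain ⟨h3, -⟩ := pow_facts hK
  have h2 : (2 : F) = 0 := by linear_combination -h
  exact one_ne_zero (show (1 : F) = 0 by linear_combination h3 - h2)

/-- every parameter is plus or minus a `(3θ+1)`-st power -/
theorem eq_pow_or_neg (hK : Fintype.card F = 3 ^ (2 * m + 1)) (z : Fˣ) :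
    ∃ u : Fˣ, u ^ (3 * 3 ^ m + 1) = z ∨ u ^ (3 * 3 ^ m + 1) = -1 * z := by
  obtain ⟨-, -, -, hz1, -, hper⟩ := pow_facts hK
  have hodd : (-1 : Fˣ) ^ 3 ^ m = -1 := Units.ext (by simpa using hz1 (-1))
  have hfr : ∀ u : Fˣ, u ^ (3 * 3 ^ m * 3 ^ m) = u :=
    fun u => Units.ext (by rw [Units.val_pow_eq_pow_val]; exact hper _)
  set f : Fˣ →* Fˣ := powMonoidHom (3 * 3 ^ m + 1) with hf
  have heven : Even (3 * 3 ^ m + 1) :=
    (Odd.mul (by decide) ((by decide : Odd 3).pow)).add_one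
  have hcalc : ∀ u : Fˣ, f u = 1 ∨ f u = -1 → u = 1 ∨ u = -1 := by
    intro u hu
    have hu2 : ∀ w : Fˣ, w = 1 ∨ w = -1 → w * w = 1 ∧ w ^ 3 ^ m = w := by
      rintro w (rfl | rfl)
      · exact ⟨one_mul 1, one_pow _⟩
      · exact ⟨by simp, hodd⟩
    obtain ⟨hw, hwe⟩ := hu2 (f u) hu
    have h1 : u * u ^ 3 ^ m = f u := by
      rw [← hwe, hf, powMonoidHom_apply, ← pow_mul, add_mul, one_mul, pow_add, hfr]
    have h2 : u ^ 2 = 1 := by
      have h3 : f u * u ^ 2 = (u * u ^ 3 ^ m) ^ 3 := by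
        rw [hf, powMonoidHom_apply, mul_pow, ← pow_mul, pow_succ u (3 * 3 ^ m), mul_comm (3 ^ m) 3]
        simp only [pow_succ, pow_zero, one_mul]
        ac_rfl
      rw [h1, pow_succ (f u) 2, pow_two (f u), hw, one_mul] at h3
      exact mul_left_cancel (h3.trans (mul_one _).symm)
    rcases mul_self_eq_one_iff.1 (show (u : F) * u = 1 by
      rw [← Units.val_mul, ← pow_two, h2, Units.val_one]) with h | h
    · exact Or.inl (Units.ext h)
    · exact Or.inr (Units.ext (by simpa using h))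
  have hnr : (-1 : Fˣ) ∉ f.range := by
    rintro ⟨u, hu⟩
    have hne : (-1 : Fˣ) ≠ 1 := fun h => two_ne Z hK (by simpa using congrArg Units.val h)
    rcases hcalc u (Or.inr hu) with rfl | rfl
    · exact hne (by rw [← hu, map_one])
    · exact hne (by rw [← hu, hf, powMonoidHom_apply, heven.neg_one_pow])
  have hker : Nat.card f.ker = 2 := by
    have hne : (-1 : Fˣ) ≠ 1 := fun h => two_ne Z hK (by simpa using congrArg Units.val h)
    rw [Nat.card_eq_two_iff]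
    refine ⟨⟨1, one_mem _⟩, ⟨-1, MonoidHom.mem_ker.2 (by rw [hf, powMonoidHom_apply, heven.neg_one_pow])⟩,
      fun h => hne (congrArg Subtype.val h).symm, Set.eq_univ_of_forall ?_⟩
    rintro ⟨u, hu⟩
    rcases hcalc u (Or.inl (MonoidHom.mem_ker.1 hu)) with rfl | rfl
    · exact Or.inl rfl
    · exact Or.inr rfl
  have hidx : f.range.index = 2 := by
    have h1 := f.range.card_mul_index
    have h2 := f.ker.card_mul_index
    rw [Subgroup.index_ker, hker] at h2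
    rw [← h2, mul_comm 2] at h1
    exact Nat.eq_of_mul_eq_mul_left Nat.card_pos h1
  by_cases hz : z ∈ f.range
  · obtain ⟨u, hu⟩ := hz; exact ⟨u, Or.inl hu⟩
  · have : -1 * z ∈ f.range := (Subgroup.mul_mem_iff_of_index_two hidx).2 (iff_of_false hnr hz)
    obtain ⟨u, hu⟩ := this
    exact ⟨u, Or.inr hu⟩

theorem torus_sq (hK : Fintype.card F = 3 ^ (2 * m + 1)) (u : Fˣ) :
    tor MT K (cvec Z (u ^ (3 * 3 ^ m + 1))) ∈ G₁ := by
  obtain ⟨-, -, -, hz1, -, hper⟩ := pow_facts hK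
  have hn : ∀ w : F, ((([8, 10] : List (Fin MT.tab.n)).map fun r =>
      (MT.rel K).nr r (nv (w ^ 3 ^ m) 0 w 0 r))).prod ∈ G₁ := by
    intro w
    refine Z.nprod_mem NL_ok.2.2.2 (nv (w ^ 3 ^ m) 0 w 0) ?_ ?_
    · have := wordU_mem Z (0 : F) w 0
      rw [← (og_eq Z hK w).1] at this
      exact this
    · have := wordV_mem Z (0 : F) w⁻¹ 0
      rw [← (og_eq Z hK w⁻¹).2, inv_pow] at this
      exact this
  have h := Z.hprod_mem NL_ok.2.2.2 (nv ((u : F) ^ 3 ^ m) 0 (u : F) 0) (hn _) (by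
    have := hn (-1)
    rw [show (-1 : F) ^ 3 ^ m = -1 by simpa using hz1 (-1)] at this
    exact this)
  have e : tor MT K (cvec Z (u ^ (3 * 3 ^ m + 1))) =
      (([8, 10] : List (Fin MT.tab.n)).map fun r =>
        (MT.rel K).hr r (nv ((u : F) ^ 3 ^ m) 0 (u : F) 0 r)).prod := by
    simp only [List.map_cons, List.map_nil, List.prod_cons, List.prod_nil, mul_one]
    show _ = (MT.rel K).hr 8 ((u : F) ^ 3 ^ m) * (MT.rel K).hr 10 (u : F)
    rw [← Units.val_pow_eq_pow_val, Z.hr_eq_tor torOk, Z.hr_eq_tor torOk, ← Z.tor_mul]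
    congr 1
    funext j
    have hfr : u ^ (3 * 3 ^ m * 3 ^ m) = u :=
      Units.ext (by rw [Units.val_pow_eq_pow_val]; exact hper _)
    match j with
    | 0 =>
      show (u ^ (3 * 3 ^ m + 1)) ^ 3 ^ m = (u ^ 3 ^ m) ^ (1 : ℤ) * u ^ (1 : ℤ)
      rw [zpow_one, zpow_one, ← pow_mul, add_mul, one_mul, pow_add, hfr, mul_comm]
    | 1 =>
      show u ^ (3 * 3 ^ m + 1) = (u ^ 3 ^ m) ^ (3 : ℤ) * u ^ (1 : ℤ)
      rw [zpow_one, zpow_ofNat, ← pow_mul, pow_succ, mul_comm (3 ^ m)]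
  rw [e]
  exact h

theorem torus_neg (hK : Fintype.card F = 3 ^ (2 * m + 1)) :
    tor MT K (cvec Z (-1 : Fˣ)) ∈ G₁ := by
  obtain ⟨h3, -, -, hz1, -, -⟩ := pow_facts hK
  have n1 : (-1 : F) ^ 3 ^ m = -1 := by simpa using hz1 (-1)
  have z0 : (0 : F) ^ 3 ^ m = 0 := zero_pow (pow_ne_zero _ (by norm_num))
  have z1 : (0 : F) ^ (3 ^ m + 1) = 0 := zero_pow (Nat.succ_ne_zero _)
  have z2 : (0 : F) ^ (2 * 3 ^ m + 1) = 0 := zero_pow (Nat.succ_ne_zero _)
  have key := wordMat_eq_of_check ChevCore.goodG2 ChevCore.chkLinkG2 torus_word F (by exact_mod_cast h3)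
  simp only [List.map_cons, List.map_nil, Int.cast_neg, Int.cast_one] at key
  have e : tor MT K (cvec Z (-1 : Fˣ)) = wordU K m 1 0 0 * wordV K m 0 (-1) 0 * wordV K m 0 0 (-1) *
      wordU K m 0 0 1 * wordV K m 0 (-1) 0 := by
    rw [Z.tor_eq_prod (L := [0, 1]) (List.Perm.refl _)]
    have s0 : (MT.S).simple 0 = (7 : Fin MT.tab.n) := Fin.ext rfl
    have s1 : (MT.S).simple 1 = (6 : Fin MT.tab.n) := Fin.ext rfl
    have c0 : ((cvec Z (-1 : Fˣ) 0 : Fˣ) : F) = -1 := by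
      show (((-1 : Fˣ) ^ 3 ^ m : Fˣ) : F) = -1
      simp [n1]
    have c1 : ((cvec Z (-1 : Fˣ) 1 : Fˣ) : F) = -1 := by
      show (((-1 : Fˣ) : Fˣ) : F) = -1
      simp
    simp only [List.map_cons, List.map_nil, List.prod_cons, List.prod_nil, mul_one, s0, s1, c0, c1]
    apply Model.mat_inj
    have nm : ∀ r : Fin MT.tab.n, (MT.rel K).nr r (-1 : F) =
        (MT.rel K).x r (-1) * (MT.rel K).x ((MT.S).neg r) 1 * (MT.rel K).x r (-1) := fun r => by
      simp [RootRel.nr, nOf]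
    have hh : ∀ r : Fin MT.tab.n, (MT.rel K).hr r (-1 : F) =
        (MT.rel K).nr r (-1) * (MT.rel K).nr r (-1) := fun r => rfl
    have e1 : ∀ (r : Fin MT.tab.n) (a : F), Model.mat ((MT.rel K).x r a) = chevG2.x F r.val a :=
      fun r a => MT.mat_xG K r a
    have v7 : ((MT.S).neg 7).val = 4 := rfl
    have v6 : ((MT.S).neg 6).val = 5 := rfl
    simp only [hh, nm, wordU, wordV, form, prodX, NL, NL', nv, z0, z1, z2, n1, one_pow, add_zero,
      zero_add, neg_neg, neg_zero, List.map_cons, List.map_nil, List.prod_cons, List.prod_nil,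
      Fin.reduceEq, or_false, false_or, if_true, if_false, (MT.rel K).x_zero, one_mul, mul_one,
      Model.mat_mul, e1]
    rw [v7, v6]
    simp only [ChevalleyDatum.wordMat, List.map_cons, List.map_nil, List.prod_cons, List.prod_nil,
      mul_one] at key
    simp only [mul_assoc] at key ⊢
    exact key
  rw [e]
  exact mul_mem (mul_mem (mul_mem (mul_mem (wordU_mem Z _ _ _) (wordV_mem Z _ _ _)) (wordV_mem Z _ _ _))
    (wordU_mem Z _ _ _)) (wordV_mem Z _ _ _)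

theorem torus_mem (hK : Fintype.card F = 3 ^ (2 * m + 1)) (c : Fin MT.tab.l → Fˣ)
    (hc : Z.sig pre c = c) : tor MT K c ∈ G₁ := by
  rw [fixed_eq_cvec Z hc]
  obtain ⟨u, hu | hu⟩ := eq_pow_or_neg Z hK (c 1)
  · rw [← hu]; exact torus_sq Z hK u
  · rw [show c 1 = -1 * u ^ (3 * 3 ^ m + 1) by rw [hu]; simp, cvec_mul Z, Z.tor_mul]
    exact mul_mem (torus_neg Z hK) (torus_sq Z hK u)

/-- The representative of the longest element. -/
def nj (Z : Frame (T := MT) K PP (3 ^ m) fd) (k : Fin 1) : ↥(chevG2.group F) := Z.nJ k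

/-- The twisted data of `²G₂(q)`. -/
theorem gens (hK : Fintype.card F = 3 ^ (2 * m + 1)) : Gens Z G₁ (nj Z) := by
  have hog : ∀ k : Fin 1, Z.og k 1 ∈ G₁ ∧ Z.ogn k (-1) ∈ G₁ := fun k => by
    match k with
    | 0 => exact og_mem Z hK
  refine ⟨fixed_gen Z hK, fun k => (hog k).1,
    fun k => mul_mem (mul_mem (hog k).1 (hog k).2) (hog k).1, ?_, ?_, ?_, ?_⟩
  · intro k
    match k with
    | 0 => exact Z.nJ_coset 0 refl0_ok
  · intro k g hg hfix
    match k with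
    | 0 => obtain ⟨t, u, v, rfl⟩ := cls0 Z hK hg hfix; exact wordU_mem Z t u v
  · intro h hh hfix
    exact Z.full_H_of torOk (pre_eq Z) inv_ok (m := 2) (by decide) (per Z hK) (torus_mem Z hK) hh hfix
  · intro g hg
    refine (Subgroup.closure_le _).2 ?_ hg
    rintro _ ⟨w, hw, rfl⟩
    refine Subgroup.subset_closure ⟨0, wv_mem hw, ?_⟩
    obtain ⟨t, u, v, rfl | rfl⟩ := hw
    · left
      rw [wv_wordU Z, wordU, form]
      exact mul_mem (mul_mem (x_mem_Sg _ (T := fun r => r ∈ fd.O.cls 0) (by decide) _)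
        (x_mem_Sg _ (T := fun r => r ∈ fd.O.cls 0) (by decide) _))
        (Z.Sg_mem_prodX (Q := fun r => r ∈ fd.O.cls 0) (by decide) _)
    · right
      rw [wv_wordV Z, wordV]
      exact mul_mem (mul_mem (x_mem_Sg _ (T := fun r => (MT.S).neg r ∈ fd.O.cls 0) (by decide) _)
        (x_mem_Sg _ (T := fun r => (MT.S).neg r ∈ fd.O.cls 0) (by decide) _))
        (Z.Sg_mem_prodX (Q := fun r => (MT.S).neg r ∈ fd.O.cls 0) (by decide) _)

end Cfsg.Agent.Twisted.TypeG2
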